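import Groth.Agent.DCohBridge.Sky
import Mathlib.Algebra.Category.ModuleCat.Sheaf.Abelian
import Mathlib.Algebra.Category.ModuleCat.Sheaf.Limits
import Mathlib.Algebra.Homology.ShortComplex.ExactFunctor
import Mathlib.Algebra.Category.ModuleCat.Abelian
import Mathlib.Algebra.Homology.QuasiIso
import Mathlib.Algebra.Category.ModuleCat.Presheaf.EpiMono

/-!
The stalk functors on modules over a scheme are exact and jointly detect zero objects; skyscrapers are exact.
-/

set_option backward.isDefEq.respectTransparency false
set_option backward.defeqAttrib.useBackward true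

universe u

open CategoryTheory Limits Opposite TopologicalSpace AlgebraicGeometry

namespace Groth.Agent.DCohBridge

variable {X : Scheme.{u}} (x : X)

lemma app_injective_of_mono {M M' : X.Modules} (φ : M ⟶ M') [Mono φ] (U : X.Opens) :
    Function.Injective (φ.app U) := by
  haveI : Mono ((Scheme.Modules.toPresheaf X).map φ) := inferInstance
  haveI : Mono (((evaluation _ _).obj (op U)).map ((Scheme.Modules.toPresheaf X).map φ)) := inferInstance
  exact (AddCommGrpCat.mono_iff_injective _).1 this

instance : (DerSch.stalkFunctor X x).IsLeftAdjoint := (stalkSkyAdj x).isLeftAdjoint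

instance : (sky x).IsRightAdjoint := (stalkSkyAdj x).isRightAdjoint

instance preservesMono_stalk : (DerSch.stalkFunctor X x).PreservesMonomorphisms where
  preserves {M M'} φ _ := by
    rw [ModuleCat.mono_iff_injective, injective_iff_map_eq_zero]
    intro m hm
    obtain ⟨U, hU, s, rfl⟩ := TopCat.Presheaf.exists_germ_eq (C := AddCommGrpCat.{u}) M.presheaf (x := x) m
    erw [DerSch.stalkFunctor_map_germ] at hm
    have hm' : gmM M' U hU (φ.app U s) = gmM M' U hU 0 := hm.trans (map_zero _).symm
    obtain ⟨W, hW, i, j, e⟩ := TopCat.Presheaf.germ_eq (C := AddCommGrpCat.{u}) M'.presheaf x hU hU _ _ hm'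
    have e' : φ.app W (M.presheaf.map i.op s) = φ.app W 0 := by
      rw [map_zero] at e ⊢
      rw [← e]
      exact (ConcreteCategory.congr_hom ((Scheme.Modules.toPresheaf X).map φ |>.naturality i.op) s)
    have h0 := app_injective_of_mono φ W e'
    change gmM M U hU s = 0
    rw [← map_zero (gmM M W hW), ← h0]
    exact (TopCat.Presheaf.germ_res_apply (C := AddCommGrpCat.{u}) M.presheaf i x hW s).symm

instance preservesFiniteColimits_stalk : PreservesFiniteColimits (DerSch.stalkFunctor X x) := by
  haveI : PreservesColimitsOfSize.{u, u} (DerSch.stalkFunctor X x) := (stalkSkyAdj x).leftAdjoint_preservesColimits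
  exact PreservesColimitsOfSize.preservesFiniteColimits _

instance preservesFiniteLimits_stalk : PreservesFiniteLimits (DerSch.stalkFunctor X x) := by
  rw [Functor.preservesFiniteLimits_iff_forall_exact_map_and_mono]
  intro S hS
  haveI := hS.mono_f
  exact ⟨((Functor.preservesFiniteColimits_iff_forall_exact_map_and_epi _).1 inferInstance S hS).1,
    inferInstance⟩

lemma sky_map_app {N N' : ModuleCat.{u} (X.presheaf.stalk x)} (φ : N ⟶ N') (U : (X.Opens)ᵒᵖ)
    (f : SkySec x N U) (h : PLift (x ∈ U.unop)) :
    (((sky x).map φ).val.app U).hom f h = φ (f h) := rfl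

instance additive_sky : (sky x).Additive := Functor.additive_of_preserves_binary_products _

instance preservesEpi_sky : (sky x).PreservesEpimorphisms where
  preserves {N N'} φ _ := by
    have hs : Function.Surjective φ := (ModuleCat.epi_iff_surjective φ).1 inferInstance
    haveI : Epi ((sky x).map φ).val := (PresheafOfModules.epi_iff_surjective _).2 fun U g =>
      ⟨fun h => (hs (g h)).choose, funext fun h => (hs (g h)).choose_spec⟩
    exact (SheafOfModules.forget _).epi_of_epi_map this

instance preservesFiniteColimits_sky : PreservesFiniteColimits (sky x) := by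
  haveI : PreservesFiniteLimits (sky x) := inferInstance
  rw [Functor.preservesFiniteColimits_iff_forall_exact_map_and_epi]
  intro S hS
  haveI := hS.epi_g
  exact ⟨((Functor.preservesFiniteLimits_iff_forall_exact_map_and_mono _).1 inferInstance S hS).1,
    inferInstance⟩

instance isIso_counit_app (N : ModuleCat.{u} (X.presheaf.stalk x)) : IsIso ((stalkSkyAdj x).counit.app N) := by
  rw [ConcreteCategory.isIso_iff_bijective]
  refine ⟨(injective_iff_map_eq_zero _).2 fun m hm => ?_, fun n => ?_⟩
  · obtain ⟨U, hU, s, rfl⟩ := TopCat.Presheaf.exists_germ_eq (C := AddCommGrpCat.{u}) ((sky x).obj N).presheaf (x := x) m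
    have h := (ofSkyAb_gm (𝟙 ((sky x).obj N)) U hU s).symm.trans hm
    rw [show s = 0 from funext fun _ => h]
    exact map_zero _
  · exact ⟨gmM ((sky x).obj N) ⊤ trivial (fun _ => n), ofSkyAb_gm (𝟙 ((sky x).obj N)) ⊤ trivial (fun _ => n)⟩

/-- The stalk of a skyscraper. -/
noncomputable def stalkSkyIso : sky x ⋙ DerSch.stalkFunctor X x ≅ 𝟭 _ :=
  NatIso.ofComponents fun N => asIso ((stalkSkyAdj x).counit.app N)

variable {x}

/-- Modules are determined by their stalks. -/
lemma isZero_of_stalk {M : X.Modules} (h : ∀ x : X, IsZero ((DerSch.stalkFunctor X x).obj M)) : IsZero M := by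
  rw [IsZero.iff_id_eq_zero]
  apply Scheme.Modules.hom_ext
  intro U
  ext s
  refine TopCat.Presheaf.section_ext (C := AddCommGrpCat.{u}) ⟨M.presheaf, M.isSheaf⟩ U _ _ fun y hy => ?_
  haveI := ModuleCat.subsingleton_of_isZero (h y)
  exact Subsingleton.elim (α := (DerSch.stalkFunctor X y).obj M) _ _

/-- A complex of modules is exact iff all its stalks are. -/
lemma acyclic_iff_stalk (K : CochainComplex X.Modules ℤ) :
    K.Acyclic ↔ ∀ x : X, (((DerSch.stalkFunctor X x).mapHomologicalComplex (ComplexShape.up ℤ)).obj K).Acyclic := by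
  refine ⟨fun h x n => (ShortComplex.Exact.map (h n) (DerSch.stalkFunctor X x)), fun h n => ?_⟩
  rw [HomologicalComplex.exactAt_iff_isZero_homology]
  refine isZero_of_stalk fun x => ?_
  exact ((HomologicalComplex.exactAt_iff_isZero_homology _ _).1 (h x n)).of_iso
    ((K.sc n).mapHomologyIso (DerSch.stalkFunctor X x)).symm

end Groth.Agent.DCohBridge
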