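import Groth.Agent.DCohBridge.StalkKFlat
import Mathlib.Algebra.Category.ModuleCat.ChangeOfRings
import Groth.Prelude.Def_DDual2

/-!
The stalk of a pullback is the base change of the stalk; pullback preserves K-flatness.
-/

set_option backward.isDefEq.respectTransparency false
set_option backward.defeqAttrib.useBackward true

universe u

open CategoryTheory MonoidalCategory Limits Opposite TopologicalSpace AlgebraicGeometry

namespace Groth.Agent.DCohBridge

variable {X Y : Scheme.{u}} (f : X ⟶ Y) (x : X)

/-- The ring map on stalks. -/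
noncomputable abbrev stφ : Y.presheaf.stalk (f.base x) →+* X.presheaf.stalk x := (f.stalkMap x).hom

lemma germ_stφ (V : Y.Opens) (h : f.base x ∈ V) (r : Y.presheaf.obj (op V)) :
    stφ f x (Y.presheaf.germ V (f.base x) h r) = X.presheaf.germ (f ⁻¹ᵁ V) x h (f.app V r) :=
  f.germ_stalkMap_apply V x h r

/-- Direct images of skyscrapers are skyscrapers. -/
noncomputable def pushSkyHom (N : ModuleCat.{u} (X.presheaf.stalk x)) :
    (Scheme.Modules.pushforward f).obj ((sky x).obj N) ⟶
      (sky (f.base x)).obj ((ModuleCat.restrictScalars (stφ f x)).obj N) :=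
  ⟨{ app := fun V => ModuleCat.ofHom (R := Y.presheaf.obj V)
      (X := ((Scheme.Modules.pushforward f).obj ((sky x).obj N)).val.obj V)
      (Y := SkySec (f.base x) ((ModuleCat.restrictScalars (stφ f x)).obj N) V)
      { toFun := fun g h => (g : SkySec x N (op (f ⁻¹ᵁ V.unop))) ⟨h.down⟩
        map_add' := fun g g' => rfl
        map_smul' := fun r g => funext fun h => by
          change X.presheaf.germ (f ⁻¹ᵁ V.unop) x h.down (f.app V.unop r) •
              (g : SkySec x N (op (f ⁻¹ᵁ V.unop))) ⟨h.down⟩ =
            stφ f x (Y.presheaf.germ V.unop (f.base x) h.down r) •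
              (g : SkySec x N (op (f ⁻¹ᵁ V.unop))) ⟨h.down⟩
          rw [germ_stφ] }
     naturality := fun k => rfl }⟩

instance isIso_pushSkyHom (N : ModuleCat.{u} (X.presheaf.stalk x)) : IsIso (pushSkyHom f x N) := by
  haveI : IsIso ((Scheme.Modules.toPresheaf Y).map (pushSkyHom f x N)) := by
    rw [NatTrans.isIso_iff_isIso_app]
    intro V
    rw [ConcreteCategory.isIso_iff_bijective]
    exact ⟨fun g g' e => funext fun h => congrFun e ⟨h.down⟩, fun g => ⟨fun h => g ⟨h.down⟩, rfl⟩⟩
  exact isIso_of_reflects_iso (pushSkyHom f x N) (Scheme.Modules.toPresheaf Y)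

/-- Direct images of skyscrapers, naturally. -/
noncomputable def pushSkyIso :
    sky x ⋙ Scheme.Modules.pushforward f ≅ ModuleCat.restrictScalars (stφ f x) ⋙ sky (f.base x) :=
  NatIso.ofComponents (fun N => asIso (pushSkyHom f x N)) (fun φ => rfl)

/-- Base change of stalks along `f`. -/
noncomputable abbrev extSt : ModuleCat.{u} (Y.presheaf.stalk (f.base x)) ⥤ ModuleCat.{u} (X.presheaf.stalk x) :=
  ModuleCat.extendScalars.{u, u, u} (stφ f x)

/-- The stalk of a pullback is the base change of the stalk. -/
noncomputable def stalkPullIso :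
    Scheme.Modules.pullback f ⋙ DerSch.stalkFunctor X x ≅ DerSch.stalkFunctor Y (f.base x) ⋙ extSt f x :=
  Adjunction.leftAdjointUniq ((Scheme.Modules.pullbackPushforwardAdjunction f).comp (stalkSkyAdj x))
    (((stalkSkyAdj (f.base x)).comp (ModuleCat.extendRestrictScalarsAdj.{u, u, u} (stφ f x))).ofNatIsoRight
      (pushSkyIso f x).symm)

/-- The base change of a complex. -/
noncomputable abbrev extCx : DRing.Cx (Y.presheaf.stalk (f.base x)) ⥤ DRing.Cx (X.presheaf.stalk x) :=
  (extSt f x).mapHomologicalComplex (ComplexShape.up ℤ)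

/-- The stalk complex of a pullback. -/
noncomputable def stCxPullIso (K : CochainComplex Y.Modules ℤ) :
    (stCx x).obj (((Scheme.Modules.pullback f).mapHomologicalComplex (ComplexShape.up ℤ)).obj K) ≅
      (extCx f x).obj ((stCx (f.base x)).obj K) :=
  HomologicalComplex.Hom.isoOfComponents (fun n => (stalkPullIso f x).app (K.X n))
    (fun i j _ => ((stalkPullIso f x).hom.naturality (K.d i j)).symm)

end Groth.Agent.DCohBridge
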