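import Groth.Agent.DCohBridge.PullRightExact
import Groth.Agent.TensorMod.FinLocFree
import Groth.Prelude.Def_CxOX
import Groth.Prelude.Def_DCoh3
import Groth.Agent.DerCat.LeftDerivUnique

/-!
Strictly perfect, perfect and pseudo-coherent complexes under derived pullback.
-/

set_option backward.isDefEq.respectTransparency false
set_option backward.defeqAttrib.useBackward true

universe u

open CategoryTheory Limits AlgebraicGeometry

attribute [local instance] HasDerivedCategory.standard

namespace Groth.Agent.DCohBridge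

variable {X Y : Scheme.{u}} (f : X ⟶ Y)

/-- Restriction of the pullback to a preimage. -/
noncomputable def pullRestrictNatIso (U : Y.Opens) :
    Scheme.Modules.pullback f ⋙ Scheme.Modules.restrictFunctor (f ⁻¹ᵁ U).ι ≅
      Scheme.Modules.restrictFunctor U.ι ⋙ Scheme.Modules.pullback (f ∣_ U) :=
  Functor.isoWhiskerLeft _ (Scheme.Modules.restrictFunctorIsoPullback (f ⁻¹ᵁ U).ι) ≪≫
    Scheme.Modules.pullbackComp (f ⁻¹ᵁ U).ι f ≪≫
    Scheme.Modules.pullbackCongr (morphismRestrict_ι f U).symm ≪≫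
    (Scheme.Modules.pullbackComp (f ∣_ U) U.ι).symm ≪≫
    Functor.isoWhiskerRight (Scheme.Modules.restrictFunctorIsoPullback U.ι).symm (Scheme.Modules.pullback (f ∣_ U))

/-- Restriction of a pulled back complex to a preimage. -/
noncomputable def pullCxRestrictIso (U : Y.Opens) (K : CochainComplex Y.Modules ℤ) :
    (DCoh.restrictCx (f ⁻¹ᵁ U)).obj ((pullCx f).obj K) ≅ (pullCx (f ∣_ U)).obj ((DCoh.restrictCx U).obj K) :=
  HomologicalComplex.Hom.isoOfComponents (fun n => (pullRestrictNatIso f U).app (K.X n))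
    (fun i j _ => ((pullRestrictNatIso f U).hom.naturality (K.d i j)).symm)

/-- Restriction to an open on complexes, as a pullback. -/
noncomputable def restrictCxPullIso (U : X.Opens) (K : CochainComplex X.Modules ℤ) :
    (DCoh.restrictCx U).obj K ≅ (pullCx U.ι).obj K :=
  HomologicalComplex.Hom.isoOfComponents
    (fun n => (Scheme.Modules.restrictFunctorIsoPullback U.ι).app (K.X n))
    (fun i j _ => ((Scheme.Modules.restrictFunctorIsoPullback U.ι).hom.naturality (K.d i j)).symm)

lemma isKFlat_of_iso_cx {K L : CochainComplex X.Modules ℤ} (e : K ≅ L) (h : DCoh.IsKFlat K) : DCoh.IsKFlat L :=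
  SiteBase.KFlat.isKFlat_of_iso (O := X.sheaf) e h

lemma isKFlat_restrict (U : X.Opens) {K : CochainComplex X.Modules ℤ} (h : DCoh.IsKFlat K) :
    DCoh.IsKFlat ((DCoh.restrictCx U).obj K) :=
  isKFlat_of_iso_cx (restrictCxPullIso U K).symm (isKFlat_pull U.ι h)

/-- Isomorphic representatives stay isomorphic after restriction. -/
noncomputable def restrictQIso (U : X.Opens) {F G : CochainComplex X.Modules ℤ} (e : DCoh.toD X F ≅ DCoh.toD X G) :
    DCoh.toD (U : Scheme.{u}) ((DCoh.restrictCx U).obj F) ≅ DCoh.toD (U : Scheme.{u}) ((DCoh.restrictCx U).obj G) :=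
  ((Scheme.Modules.restrictFunctor U.ι).mapDerivedCategoryFactors.app F).symm ≪≫
    (Scheme.Modules.restrictFunctor U.ι).mapDerivedCategory.mapIso e ≪≫
    (Scheme.Modules.restrictFunctor U.ι).mapDerivedCategoryFactors.app G

/-- Flatness descends along a ring isomorphism. -/
lemma flat_of_flat_baseChange_of_bijective {R S : Type u} [CommRing R] [CommRing S] (φ : R →+* S)
    (hφ : Function.Bijective φ) {M : ModuleCat.{u} R}
    (h : Module.Flat S ((ModuleCat.extendScalars.{u, u, u} φ).obj M)) : Module.Flat R M := by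
  letI := φ.toAlgebra
  haveI : Module.Flat S (TensorProduct R S M) := h
  let e : R ≃ₐ[R] S := AlgEquiv.ofBijective (Algebra.ofId R S) hφ
  haveI : Module.Flat R S := Module.Flat.of_linearEquiv e.symm.toLinearEquiv
  haveI : Module.Flat R (TensorProduct R S M) := Module.Flat.trans R S _
  exact Module.Flat.of_linearEquiv
    ((TensorProduct.lid R M).symm ≪≫ₗ TensorProduct.congr e.toLinearEquiv (LinearEquiv.refl R M))

/-- Stalkwise flatness of finite locally free modules. -/
lemma isFlat_of_finLocFree {M : X.Modules} (h : FlatMod.IsFinLocFree M) : FlatMod.IsFlat M := by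
  intro x
  obtain ⟨U, n, hx, ⟨e⟩⟩ := h x
  have hfree : FlatMod.IsFlat (FlatMod.freeMod (U : Scheme.{u}) n) :=
    isFlat_of_siteFlat (SiteBase.isFlat_coproduct (O := (U : Scheme.{u}).sheaf)
      (fun _ : ULift.{u} (Fin n) => ModSite.unit (U : Scheme.{u}).sheaf) (fun _ => SiteBase.isFlat_unit)
      _ (coproductIsCoproduct _)) |> isFlat_of_iso (TensorMod.freeModIso (U : Scheme.{u}) n).symm
  have h1 : FlatMod.IsFlat ((Scheme.Modules.pullback U.ι).obj M) :=
    isFlat_of_iso (e.symm ≪≫ (Scheme.Modules.restrictFunctorIsoPullback U.ι).app M) hfree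
  have h2 : Module.Flat ((U : Scheme.{u}).presheaf.stalk (⟨x, hx⟩ : U))
      ((extSt U.ι (⟨x, hx⟩ : U)).obj ((DerSch.stalkFunctor X x).obj M)) :=
    @Module.Flat.of_linearEquiv _ _ _ _ _ _ _ _ (h1 ⟨x, hx⟩)
      ((stalkPullIso U.ι (⟨x, hx⟩ : U)).app M).symm.toLinearEquiv
  let φ := stφ U.ι (⟨x, hx⟩ : U)
  have hbij : Function.Bijective φ := by
    haveI : IsIso (U.ι.stalkMap (⟨x, hx⟩ : U)) := inferInstance
    exact ConcreteCategory.bijective_of_isIso (U.ι.stalkMap (⟨x, hx⟩ : U))
  exact flat_of_flat_baseChange_of_bijective φ hbij h2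

/-- Pullback preserves strictly perfect complexes. -/
theorem isStrictlyPerfect_pull {S : CochainComplex Y.Modules ℤ} (h : DCoh.IsStrictlyPerfect S) :
    DCoh.IsStrictlyPerfect ((pullCx f).obj S) := by
  obtain ⟨⟨a, b, hv⟩, hS⟩ := h
  exact ⟨⟨a, b, fun i hi => (Scheme.Modules.pullback f).map_isZero (hv i hi)⟩,
    fun i => TensorMod.isFinLocFree_pullback f (hS i)⟩

/-- Strictly perfect complexes are K-flat. -/
theorem isKFlat_of_strictlyPerfect {S : CochainComplex X.Modules ℤ} (h : DCoh.IsStrictlyPerfect S) :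
    DCoh.IsKFlat S := by
  obtain ⟨⟨a, b, hv⟩, hS⟩ := h
  exact isKFlat_of_bddAbove_flat b (fun q hq => hv q (Or.inr hq)) (fun i => isFlat_of_finLocFree (hS i))

/-- A derived isomorphism of K-flat complexes pulls back. -/
noncomputable def pullQIso [DCoh.HasLpull f] {A B : CochainComplex Y.Modules ℤ} (hA : DCoh.IsKFlat A)
    (hB : DCoh.IsKFlat B) (e : DCoh.toD Y A ≅ DCoh.toD Y B) :
    DCoh.toD X ((pullCx f).obj A) ≅ DCoh.toD X ((pullCx f).obj B) :=
  (LpullIso f hA).symm ≪≫ (DCoh.Lpull f).mapIso e ≪≫ LpullIso f hB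

/-- A map in the derived category is an isomorphism above `m` and surjective in degree `m` iff its cone is
exact in degrees `≥ m`. -/
theorem cone_exact_iff {A B : CochainComplex X.Modules ℤ} (b : A ⟶ B) (m : ℤ) :
    ((∀ i, m < i → IsIso ((DerivedCategory.homologyFunctor _ i).map (DerivedCategory.Q.map b))) ∧
      Epi ((DerivedCategory.homologyFunctor _ m).map (DerivedCategory.Q.map b))) ↔
      (CochainComplex.mappingCone b).IsLE (m - 1) := by
  have hd := DerivedCategory.mappingCone_triangle_distinguished b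
  let T := DerivedCategory.Q.mapTriangle.obj (CochainComplex.mappingCone.triangle b)
  rw [CochainComplex.isLE_iff]
  have hz : ∀ i, (CochainComplex.mappingCone b).ExactAt i ↔
      IsZero ((DerivedCategory.homologyFunctor X.Modules i).obj T.obj₃) := fun i =>
    (isZero_HD_iff (CochainComplex.mappingCone b) i).symm
  have hmono : ∀ i, IsZero ((DerivedCategory.homologyFunctor X.Modules (i - 1)).obj T.obj₃) →
      Mono ((DerivedCategory.homologyFunctor X.Modules i).map (DerivedCategory.Q.map b)) := fun i h =>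
    (DerivedCategory.HomologySequence.exact₁ T hd (i - 1) i (by lia)).mono_g (h.eq_of_src _ _)
  have hepi : ∀ i, IsZero ((DerivedCategory.homologyFunctor X.Modules i).obj T.obj₃) →
      Epi ((DerivedCategory.homologyFunctor X.Modules i).map (DerivedCategory.Q.map b)) := fun i h =>
    (DerivedCategory.HomologySequence.exact₂ T hd i).epi_f (h.eq_of_tgt _ _)
  refine ⟨fun ⟨h1, h2⟩ i hi => (hz i).2 ?_, fun h => ⟨fun i hi => ?_, hepi m ((hz m).1 (h m (by lia)))⟩⟩
  · haveI : Epi ((DerivedCategory.homologyFunctor X.Modules i).map (DerivedCategory.Q.map b)) := by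
      rcases eq_or_lt_of_le (show m ≤ i by lia) with rfl | hlt
      · exact h2
      · haveI := h1 i hlt; infer_instance
    haveI := h1 (i + 1) (by lia)
    refine (DerivedCategory.HomologySequence.exact₃ T hd i (i + 1) rfl).isZero_of_both_zeros ?_ ?_
    · exact (cancel_epi ((DerivedCategory.homologyFunctor X.Modules i).map (DerivedCategory.Q.map b))).1
        ((show (DerivedCategory.homologyFunctor X.Modules i).map T.mor₁ ≫ (DerivedCategory.homologyFunctor X.Modules i).map T.mor₂ = 0 by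
          rw [← Functor.map_comp, Pretriangulated.comp_distTriang_mor_zero₁₂ T hd, Functor.map_zero]) |>.trans Limits.comp_zero.symm)
    · exact (cancel_mono ((DerivedCategory.homologyFunctor X.Modules (i + 1)).map (DerivedCategory.Q.map b))).1
        ((DerivedCategory.HomologySequence.δ_comp T hd i (i + 1) rfl).trans Limits.zero_comp.symm)
  · haveI := hmono i ((hz (i - 1)).1 (h (i - 1) (by lia)))
    haveI := hepi i ((hz i).1 (h i (by lia)))
    exact isIso_of_mono_of_epi _

/-- The cohomological conditions of pseudo-coherence only depend on the map up to isomorphism. -/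
theorem cond_of_arrow_iso {A B A' B' : DCoh.D X} {α : A ⟶ B} {β : A' ⟶ B'} (eA : A ≅ A') (eB : B ≅ B')
    (h : eA.hom ≫ β = α ≫ eB.hom) (m : ℤ)
    (hα : (∀ i, m < i → IsIso ((DerivedCategory.homologyFunctor _ i).map α)) ∧
      Epi ((DerivedCategory.homologyFunctor _ m).map α)) :
    (∀ i, m < i → IsIso ((DerivedCategory.homologyFunctor _ i).map β)) ∧
      Epi ((DerivedCategory.homologyFunctor _ m).map β) := by
  have hβ : β = eA.inv ≫ α ≫ eB.hom := by rw [← h, Iso.inv_hom_id_assoc]
  subst hβ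
  refine ⟨fun i hi => ?_, ?_⟩
  · haveI := hα.1 i hi
    simp only [Functor.map_comp]
    infer_instance
  · haveI := hα.2
    simp only [Functor.map_comp]
    infer_instance

/-- Derived pullback preserves perfect complexes. -/
theorem isPerfect_Lpull [DCoh.HasLpull f] {E : DCoh.D Y} (hE : DCoh.IsPerfect E) :
    DCoh.IsPerfect ((DCoh.Lpull f).obj E) := by
  intro x
  obtain ⟨V, hV, hF⟩ := hE (f.base x)
  obtain ⟨N, q, hN, -, hq, -⟩ := SiteBase.KFlat.exists_resolution (O := Y.sheaf) (DerivedCategory.Q.objPreimage E)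
  let eN : DCoh.toD Y N ≅ E :=
    @asIso _ _ _ _ (DerivedCategory.Q.map q) inferInstance ≪≫ DerivedCategory.Q.objObjPreimageIso E
  obtain ⟨S, hS, ⟨eS⟩⟩ := hF N ⟨eN⟩
  haveI := hasLpull (f ∣_ V)
  refine ⟨f ⁻¹ᵁ V, hV, fun F ⟨eF⟩ => ⟨(pullCx (f ∣_ V)).obj S, isStrictlyPerfect_pull _ hS, ⟨?_⟩⟩⟩
  exact restrictQIso (f ⁻¹ᵁ V) (eF ≪≫ ((DCoh.Lpull f).mapIso eN.symm ≪≫ LpullIso f hN)) ≪≫
    DerivedCategory.Q.mapIso (pullCxRestrictIso f V N) ≪≫
    pullQIso (f ∣_ V) (isKFlat_restrict V hN) (isKFlat_of_strictlyPerfect hS) eS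

/-- Derived pullback preserves pseudo-coherence. -/
theorem isPseudoCoherentD_Lpull [DCoh.HasLpull f] (m : ℤ) {E : DCoh.D Y} (hE : DCoh.IsPseudoCoherentD m E) :
    DCoh.IsPseudoCoherentD m ((DCoh.Lpull f).obj E) := by
  intro x
  obtain ⟨V, hV, hF⟩ := hE (f.base x)
  obtain ⟨N, q, hN, -, hq, -⟩ := SiteBase.KFlat.exists_resolution (O := Y.sheaf) (DerivedCategory.Q.objPreimage E)
  let eN : DCoh.toD Y N ≅ E :=
    @asIso _ _ _ _ (DerivedCategory.Q.map q) inferInstance ≪≫ DerivedCategory.Q.objObjPreimageIso E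
  obtain ⟨S, α, hS, h1, h2⟩ := hF N ⟨eN⟩
  haveI := hasLpull (f ∣_ V)
  let g := f ∣_ V
  have hS' := isKFlat_of_strictlyPerfect hS
  have hN' := isKFlat_restrict V hN
  obtain ⟨A, B, b, eA, eB, hA, hB, hb⟩ := exists_kFlat_rep α
  haveI : (CochainComplex.mappingCone b).IsLE (m - 1) := (cone_exact_iff b m).1
    (cond_of_arrow_iso eA.symm eB.symm (by rw [← cancel_mono eB.hom]; simp [hb]) m ⟨h1, h2⟩)
  haveI : (CochainComplex.mappingCone ((pullCx g).map b)).IsLE (m - 1) := by
    haveI := isLE_pull g (SiteBase.KFlat.isKFlat_cone (O := (V : Scheme.{u}).sheaf) b hA hB) (m - 1)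
    exact CochainComplex.isLE_of_iso
      (CochainComplex.mappingCone.mapHomologicalComplexIso b (Scheme.Modules.pullback g)) (m - 1)
  have hb' := (cone_exact_iff ((pullCx g).map b) m).2 inferInstance
  refine ⟨f ⁻¹ᵁ V, hV, fun F ⟨eF⟩ => ?_⟩
  let iA := pullQIso g hA hS' eA
  let iB : DCoh.toD _ ((pullCx g).obj B) ≅ DCoh.toD _ ((DCoh.restrictCx (f ⁻¹ᵁ V)).obj F) :=
    pullQIso g hB hN' eB ≪≫ DerivedCategory.Q.mapIso (pullCxRestrictIso f V N).symm ≪≫
      (restrictQIso (f ⁻¹ᵁ V) (eF ≪≫ ((DCoh.Lpull f).mapIso eN.symm ≪≫ LpullIso f hN))).symm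
  exact ⟨(pullCx g).obj S, iA.inv ≫ DerivedCategory.Q.map ((pullCx g).map b) ≫ iB.hom, isStrictlyPerfect_pull _ hS,
    cond_of_arrow_iso iA iB (by simp) m hb'⟩

end Groth.Agent.DCohBridge
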