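import Groth.Agent.DCohBridge.PullTensorCx

/-!
Pullback commutes with tensor products of modules, naturally.
-/

set_option backward.isDefEq.respectTransparency false
set_option backward.defeqAttrib.useBackward true

universe u

open CategoryTheory Limits AlgebraicGeometry MonoidalCategory

namespace Groth.Agent.DCohBridge

section Bi

variable {A B C : Type*} [Category* A] [Category* B] [Category* C] (T : A ⥤ B ⥤ C)

lemma bi_square_left {M M' M₀ M₀' : A} {N N₀ : B} (a : M ⟶ M') (a₀ : M₀ ⟶ M₀') (m : M ⟶ M₀) (m' : M' ⟶ M₀')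
    (n : N ⟶ N₀) (h : a ≫ m' = m ≫ a₀) :
    (T.map a).app N ≫ (T.map m').app N ≫ (T.obj M₀').map n =
      ((T.map m).app N ≫ (T.obj M₀).map n) ≫ (T.map a₀).app N₀ := by
  rw [← NatTrans.comp_app_assoc, ← Functor.map_comp, h, Functor.map_comp, NatTrans.comp_app, Category.assoc,
    Category.assoc, NatTrans.naturality]

lemma bi_square_right {M M₀ : A} {N N' N₀ N₀' : B} (b : N ⟶ N') (b₀ : N₀ ⟶ N₀') (m : M ⟶ M₀) (n : N ⟶ N₀)
    (n' : N' ⟶ N₀') (h : b ≫ n' = n ≫ b₀) :
    (T.obj M).map b ≫ (T.map m).app N' ≫ (T.obj M₀).map n' =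
      ((T.map m).app N ≫ (T.obj M₀).map n) ≫ (T.obj M₀).map b₀ := by
  rw [Category.assoc, ← Functor.map_comp, ← h, Functor.map_comp, ← NatTrans.naturality_assoc]

end Bi

variable {X Y : Scheme.{u}} (f : X ⟶ Y)

/-- `f^*(M ⊗ N) ≅ f^*M ⊗ f^*N`. -/
noncomputable def pullTensorModIso (M N : Y.Modules) :
    (Scheme.Modules.pullback f).obj ((DCoh.tensorBi.obj M).obj N) ≅
      (DCoh.tensorBi.obj ((Scheme.Modules.pullback f).obj M)).obj ((Scheme.Modules.pullback f).obj N) :=
  (ModSite.RMor.ofSchemePull f).symm.app _ ≪≫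
    SiteBase.PullTensor.pullTensorIso (ModSite.RMor.ofScheme f) M N ≪≫
    (DCoh.tensorBi.mapIso ((ModSite.RMor.ofSchemePull f).app M)).app _ ≪≫
    (DCoh.tensorBi.obj _).mapIso ((ModSite.RMor.ofSchemePull f).app N)

lemma pullTensorModIso_left {M M' : Y.Modules} (a : M ⟶ M') (N : Y.Modules) :
    (Scheme.Modules.pullback f).map ((DCoh.tensorBi.map a).app N) ≫ (pullTensorModIso f M' N).hom =
      (pullTensorModIso f M N).hom ≫
        (DCoh.tensorBi.map ((Scheme.Modules.pullback f).map a)).app ((Scheme.Modules.pullback f).obj N) := by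
  let e := ModSite.RMor.ofSchemePull f
  have h1 := e.inv.naturality ((DCoh.tensorBi.map a).app N)
  have h2 := (SiteBase.PullTensor.deltaLeft (ModSite.RMor.ofScheme f) N).naturality a
  have h3 := bi_square_left (DCoh.tensorBi (X := X)) ((ModSite.RMor.ofScheme f).pull.map a)
    ((Scheme.Modules.pullback f).map a) (e.hom.app M) (e.hom.app M') (e.hom.app N) (e.hom.naturality a)
  dsimp [pullTensorModIso]
  refine (Category.assoc _ _ _).symm.trans ((congrArg (· ≫ _) h1).trans ?_)
  refine (Category.assoc _ _ _).trans ((congrArg (e.inv.app _ ≫ ·) ?_).trans (Category.assoc _ _ _).symm)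
  refine (Category.assoc _ _ _).symm.trans ((congrArg (· ≫ _) h2).trans ?_)
  refine (Category.assoc _ _ _).trans ((congrArg (_ ≫ ·) h3).trans ?_)
  exact (Category.assoc _ _ _).symm

lemma pullTensorModIso_right (M : Y.Modules) {N N' : Y.Modules} (b : N ⟶ N') :
    (Scheme.Modules.pullback f).map ((DCoh.tensorBi.obj M).map b) ≫ (pullTensorModIso f M N').hom =
      (pullTensorModIso f M N).hom ≫
        (DCoh.tensorBi.obj ((Scheme.Modules.pullback f).obj M)).map ((Scheme.Modules.pullback f).map b) := by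
  let e := ModSite.RMor.ofSchemePull f
  have h1 := e.inv.naturality ((DCoh.tensorBi.obj M).map b)
  have h2 := (SiteBase.PullTensor.deltaRight (ModSite.RMor.ofScheme f) M).naturality b
  have h3 := bi_square_right (DCoh.tensorBi (X := X)) ((ModSite.RMor.ofScheme f).pull.map b)
    ((Scheme.Modules.pullback f).map b) (e.hom.app M) (e.hom.app N) (e.hom.app N') (e.hom.naturality b)
  dsimp [pullTensorModIso]
  refine (Category.assoc _ _ _).symm.trans ((congrArg (· ≫ _) h1).trans ?_)
  refine (Category.assoc _ _ _).trans ((congrArg (e.inv.app _ ≫ ·) ?_).trans (Category.assoc _ _ _).symm)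
  refine (Category.assoc _ _ _).symm.trans ((congrArg (· ≫ _) h2).trans ?_)
  refine (Category.assoc _ _ _).trans ((congrArg (_ ≫ ·) h3).trans ?_)
  exact (Category.assoc _ _ _).symm

end Groth.Agent.DCohBridge
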