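import Groth.Agent.DCohBridge.Flat
import Groth.Agent.DCohBridge.StalkExact
import Groth.Prelude.Def_KFlatSite

/-!
The stalk of a tensor product of modules is the tensor product of the stalks.
-/

set_option backward.isDefEq.respectTransparency false
set_option backward.defeqAttrib.useBackward true

universe u

open CategoryTheory MonoidalCategory Limits Opposite TopologicalSpace AlgebraicGeometry TensorProduct

namespace Groth.Agent.DCohBridge

variable {X : Scheme.{u}} (x : X)

/-- The presheaf of modules underlying a module. -/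
noncomputable abbrev pm (M : X.Modules) : PM X := (SiteBase.incl X.sheaf).obj M

/-- The tensor product of the stalks. -/
noncomputable abbrev stT (M N : X.Modules) : ModuleCat.{u} (X.presheaf.stalk x) :=
  (DerSch.stalkFunctor X x).obj M ⊗ (DerSch.stalkFunctor X x).obj N

/-- The tensor product of two modules. -/
noncomputable abbrev tmod (M N : X.Modules) : X.Modules := ((ModSite.tensorBi X.sheaf).obj M).obj N

/-- `φ`, with values in the tensor product of module objects. -/
noncomputable def φS (M N : X.Modules) (U : X.Opens) (hx : x ∈ U) : (pm M ⊗ pm N).obj (op U) →+ stT x M N :=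
  φ (pm M) (pm N) x U hx

lemma φS_tm (M N : X.Modules) (U : X.Opens) (hx : x ∈ U) (p : (pm M).obj (op U)) (q : (pm N).obj (op U)) :
    φS x M N U hx (tm (pm M) (pm N) U p q) =
      (show stT x M N from gm (pm M) x U hx p ⊗ₜ[X.presheaf.stalk x] gm (pm N) x U hx q) := rfl

lemma φS_smul (M N : X.Modules) (U : X.Opens) (hx : x ∈ U) (r : X.presheaf.obj (op U))
    (t : (pm M ⊗ pm N).obj (op U)) :
    φS x M N U hx (r • t) = X.presheaf.germ U x hx r • φS x M N U hx t := by
  induction t using tm_induction (pm M) (pm N) with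
  | h0 => rw [smul_zero, map_zero, smul_zero]
  | ht p q =>
    have e : r • tm (pm M) (pm N) U p q = tm (pm M) (pm N) U (r • p) q := rfl
    rw [e, φS_tm, φS_tm, gm_smul]
    exact (TensorProduct.smul_tmul' _ _ _).symm
  | ha a c ha hc => rw [smul_add, map_add, map_add, ha, hc, smul_add]

/-- `φ` as a map to the skyscraper. -/
noncomputable def toSkyPre (M N : X.Modules) :
    pm M ⊗ pm N ⟶ (SiteBase.incl X.sheaf).obj ((sky x).obj (stT x M N)) where
  app U := ModuleCat.ofHom (R := X.presheaf.obj U) (X := (pm M ⊗ pm N).obj U) (Y := SkySec x (stT x M N) U)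
    { toFun := fun t h => φS x M N U.unop h.down t
      map_add' := fun t t' => funext fun h => map_add (φS x M N U.unop h.down) _ _
      map_smul' := fun r t => funext fun h => φS_smul x M N U.unop h.down r t }
  naturality {U V} k := by
    ext t
    funext h
    obtain ⟨k⟩ := k
    exact φ_map (pm M) (pm N) x (leOfHom k) h.down t

/-- The canonical map from the stalk of the tensor product to the tensor product of stalks. -/
noncomputable def theta (M N : X.Modules) :
    (DerSch.stalkFunctor X x).obj (tmod M N) ⟶ stT x M N :=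
  ofSky (((SiteBase.shAdj X.sheaf).homEquiv (pm M ⊗ pm N) ((sky x).obj (stT x M N))).symm (toSkyPre x M N))

/-- The germ of the image in the sheaf tensor product of a section of the presheaf tensor product. -/
noncomputable def gmU (M N : X.Modules) (U : X.Opens) (hx : x ∈ U) (t : (pm M ⊗ pm N).obj (op U)) :
    (DerSch.stalkFunctor X x).obj (tmod M N) :=
  gmM (tmod M N) U hx
    (((SiteBase.shAdj X.sheaf).unit.app (pm M ⊗ pm N)).app (op U) t)

lemma theta_gmU (M N : X.Modules) (U : X.Opens) (hx : x ∈ U) (t : (pm M ⊗ pm N).obj (op U)) :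
    theta x M N (gmU x M N U hx t) = φS x M N U hx t := by
  have e := (SiteBase.shAdj X.sheaf).homEquiv (pm M ⊗ pm N) ((sky x).obj (stT x M N)) |>.apply_symm_apply
    (toSkyPre x M N)
  rw [Adjunction.homEquiv_unit] at e
  refine (ofSkyAb_gm (((SiteBase.shAdj X.sheaf).homEquiv (pm M ⊗ pm N) ((sky x).obj (stT x M N))).symm
    (toSkyPre x M N)) U hx (((SiteBase.shAdj X.sheaf).unit.app (pm M ⊗ pm N)).app (op U) t)).trans ?_
  exact congrFun (congrArg (fun g => (g.app (op U)).hom t) e) ⟨hx⟩

lemma exists_gmU (M N : X.Modules) (m : (DerSch.stalkFunctor X x).obj (tmod M N)) :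
    ∃ (U : X.Opens) (hx : x ∈ U) (t : (pm M ⊗ pm N).obj (op U)), gmU x M N U hx t = m := by
  obtain ⟨V, hV, s, rfl⟩ := TopCat.Presheaf.exists_germ_eq (C := AddCommGrpCat.{u})
    (tmod M N).presheaf (x := x) m
  obtain ⟨W, i, ⟨t, ht⟩, hW⟩ := Presheaf.imageSieve_mem (Opens.grothendieckTopology X)
    ((PresheafOfModules.toPresheaf _).map ((SiteBase.shAdj X.sheaf).unit.app (pm M ⊗ pm N))) (U := op V) s x hV
  refine ⟨W, hW, t, ?_⟩
  exact (congrArg (gmM (tmod M N) W hW) ht).trans
    (TopCat.Presheaf.germ_res_apply (C := AddCommGrpCat.{u})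
      (tmod M N).presheaf i x hW s)

/-- The inverse of `theta`, additively. -/
noncomputable def thetaInv (M N : X.Modules) :
    stT x M N →+ (DerSch.stalkFunctor X x).obj (tmod M N) :=
  (stMap ((SiteBase.shAdj X.sheaf).unit.app (pm M ⊗ pm N)) x).toAddMonoidHom.comp (ψ (pm M) (pm N) x)

instance isIso_theta (M N : X.Modules) : IsIso (theta x M N) := by
  rw [ConcreteCategory.isIso_iff_bijective]
  refine ⟨Function.LeftInverse.injective (g := thetaInv x M N) fun m => ?_, fun t => ?_⟩
  · obtain ⟨U, hU, t, rfl⟩ := exists_gmU x M N m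
    rw [theta_gmU]
    exact (congrArg (stMap ((SiteBase.shAdj X.sheaf).unit.app (pm M ⊗ pm N)) x)
      (ψ_φ (pm M) (pm N) x U hU t)).trans (stMap_gm _ x U hU t)
  · obtain ⟨U, hU, s, rfl⟩ := exists_φ (pm M) (pm N) x t
    exact ⟨_, theta_gmU x M N U hU s⟩

lemma φ_natural {M M' N N' : X.Modules} (a : M ⟶ M') (b : N ⟶ N') (U : X.Opens) (hx : x ∈ U)
    (t : (pm M ⊗ pm N).obj (op U)) :
    φS x M' N' U hx (((SiteBase.incl X.sheaf).map a ⊗ₘ (SiteBase.incl X.sheaf).map b).app (op U) t) =
      ((DerSch.stalkFunctor X x).map a ⊗ₘ (DerSch.stalkFunctor X x).map b) (φS x M N U hx t) := by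
  induction t using tm_induction (pm M) (pm N) with
  | h0 => simp only [map_zero]
  | ht p q =>
    change φS x M' N' U hx
      (tm (pm M') (pm N') U (((SiteBase.incl X.sheaf).map a).app (op U) p)
        (((SiteBase.incl X.sheaf).map b).app (op U) q)) = _
    rw [φS_tm, φS_tm]
    refine Eq.trans ?_ (ModuleCat.MonoidalCategory.tensorHom_tmul
      ((DerSch.stalkFunctor X x).map a) ((DerSch.stalkFunctor X x).map b)
      (gm (pm M) x U hx p) (gm (pm N) x U hx q)).symm
    refine congrArg₂ (fun u v => u ⊗ₜ[X.presheaf.stalk x] v) ?_ ?_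
    · exact (DerSch.stalkFunctor_map_germ x a U hx p).symm
    · exact (DerSch.stalkFunctor_map_germ x b U hx q).symm
  | ha p q hp hq => simp only [map_add, hp, hq]

/-- Naturality of `theta`. -/
lemma theta_natural {M M' N N' : X.Modules} (a : M ⟶ M') (b : N ⟶ N') :
    (DerSch.stalkFunctor X x).map (((ModSite.tensorBi X.sheaf).map a).app N ≫
        ((ModSite.tensorBi X.sheaf).obj M').map b) ≫ theta x M' N' =
      theta x M N ≫ ((DerSch.stalkFunctor X x).map a ⊗ₘ (DerSch.stalkFunctor X x).map b) := by
  have e : ((ModSite.tensorBi X.sheaf).map a).app N ≫ ((ModSite.tensorBi X.sheaf).obj M').map b =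
      (SiteBase.sh X.sheaf).map ((SiteBase.incl X.sheaf).map a ⊗ₘ (SiteBase.incl X.sheaf).map b) := by
    rw [MonoidalCategory.tensorHom_def, Functor.map_comp]
    rfl
  rw [e]
  ext m
  obtain ⟨U, hU, t, rfl⟩ := exists_gmU x M N m
  change theta x M' N' ((DerSch.stalkFunctor X x).map _ (gmU x M N U hU t)) =
    ((DerSch.stalkFunctor X x).map a ⊗ₘ (DerSch.stalkFunctor X x).map b) (theta x M N (gmU x M N U hU t))
  rw [theta_gmU, ← φ_natural, ← theta_gmU]
  refine congrArg (theta x M' N') ?_
  refine (DerSch.stalkFunctor_map_germ x _ U hU _).trans ?_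
  refine congrArg (gmM (((ModSite.tensorBi X.sheaf).obj M').obj N') U hU) ?_
  exact (congrArg (fun g => (g.app (op U)).hom t) ((SiteBase.shAdj X.sheaf).unit.naturality
    ((SiteBase.incl X.sheaf).map a ⊗ₘ (SiteBase.incl X.sheaf).map b))).symm

/-- The stalk of a tensor product, naturally. -/
noncomputable def stalkTensorIso (M N : X.Modules) :
    (DerSch.stalkFunctor X x).obj (tmod M N) ≅
      (DerSch.stalkFunctor X x).obj M ⊗ (DerSch.stalkFunctor X x).obj N :=
  asIso (theta x M N)

end Groth.Agent.DCohBridge
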