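import Groth.Agent.DCohBridge.StalkPull
import Groth.Agent.DCohBridge.StalkExact
import Groth.Agent.DCohBridge.StalkTensor
import Mathlib.AlgebraicGeometry.Morphisms.ClosedImmersion

/-!
Stalks of direct images under closed immersions.
-/

set_option backward.isDefEq.respectTransparency false
set_option backward.defeqAttrib.useBackward true

universe u

open CategoryTheory MonoidalCategory Limits Opposite TopologicalSpace AlgebraicGeometry TensorProduct

namespace Groth.Agent.DCohBridge

variable {X Y : Scheme.{u}} (f : X ⟶ Y) (x : X)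

/-- The stalk of a direct image, mapped to the stalk. -/
noncomputable def pushStalkHom (M : X.Modules) :
    (DerSch.stalkFunctor Y (f.base x)).obj ((Scheme.Modules.pushforward f).obj M) ⟶
      (ModuleCat.restrictScalars (stφ f x)).obj ((DerSch.stalkFunctor X x).obj M) :=
  ofSky ((Scheme.Modules.pushforward f).map (toSky (𝟙 _)) ≫ pushSkyHom f x ((DerSch.stalkFunctor X x).obj M))

lemma pushStalkHom_germ (M : X.Modules) (V : Y.Opens) (h : f.base x ∈ V)
    (s : M.presheaf.obj (op (f ⁻¹ᵁ V))) :
    pushStalkHom f x M (gmM ((Scheme.Modules.pushforward f).obj M) V h s) = gmM M (f ⁻¹ᵁ V) h s :=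
  (ofSkyAb_gm (M := (Scheme.Modules.pushforward f).obj M)
    ((Scheme.Modules.pushforward f).map (toSky (𝟙 _)) ≫ pushSkyHom f x ((DerSch.stalkFunctor X x).obj M)) V h s).trans
    rfl

lemma pushStalkHom_natural {M M' : X.Modules} (a : M ⟶ M') :
    (DerSch.stalkFunctor Y (f.base x)).map ((Scheme.Modules.pushforward f).map a) ≫ pushStalkHom f x M' =
      pushStalkHom f x M ≫ (ModuleCat.restrictScalars (stφ f x)).map ((DerSch.stalkFunctor X x).map a) := by
  refine stalk_hom_ext fun V h s => ?_
  show pushStalkHom f x M' ((DerSch.stalkFunctor Y (f.base x)).map ((Scheme.Modules.pushforward f).map a)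
      (gmM ((Scheme.Modules.pushforward f).obj M) V h s)) =
    (DerSch.stalkFunctor X x).map a (pushStalkHom f x M (gmM ((Scheme.Modules.pushforward f).obj M) V h s))
  rw [pushStalkHom_germ f x M V h s]
  erw [DerSch.stalkFunctor_map_germ, DerSch.stalkFunctor_map_germ]
  exact pushStalkHom_germ f x M' V h _

variable [IsClosedImmersion f]

lemma exists_preimage_eq (U : X.Opens) : ∃ V : Y.Opens, f ⁻¹ᵁ V = U := by
  obtain ⟨V, hV, e⟩ := f.isClosedEmbedding.isInducing.isOpen_iff.1 U.2
  exact ⟨⟨V, hV⟩, Opens.ext e⟩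

theorem bijective_pushStalkHom (M : X.Modules) : Function.Bijective (pushStalkHom f x M) := by
  refine ⟨(injective_iff_map_eq_zero _).2 fun m hm => ?_, fun m => ?_⟩
  · obtain ⟨V, hV, s, rfl⟩ := TopCat.Presheaf.exists_germ_eq (C := AddCommGrpCat.{u})
      ((Scheme.Modules.pushforward f).obj M).presheaf (x := f.base x) m
    have hm' : gmM M (f ⁻¹ᵁ V) hV s = gmM M (f ⁻¹ᵁ V) hV 0 :=
      (pushStalkHom_germ f x M V hV s).symm.trans (hm.trans (map_zero _).symm)
    obtain ⟨U, hU, i, j, e⟩ := TopCat.Presheaf.germ_eq (C := AddCommGrpCat.{u}) M.presheaf x hV hV _ _ hm'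
    obtain ⟨W, rfl⟩ := exists_preimage_eq f U
    have hle : f ⁻¹ᵁ (W ⊓ V) ≤ f ⁻¹ᵁ W := fun z hz => hz.1
    have e' : ((Scheme.Modules.pushforward f).obj M).presheaf.map (homOfLE (inf_le_right : W ⊓ V ≤ V)).op s = 0 := by
      have e'' := congrArg (fun t => M.presheaf.map (homOfLE hle).op t) e
      simp only [map_zero] at e''
      refine Eq.trans ?_ e''
      change M.presheaf.map _ s = M.presheaf.map _ (M.presheaf.map _ s)
      rw [← CategoryTheory.comp_apply, ← Functor.map_comp]
      rfl
    refine (TopCat.Presheaf.germ_res_apply (C := AddCommGrpCat.{u})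
      ((Scheme.Modules.pushforward f).obj M).presheaf (homOfLE (inf_le_right : W ⊓ V ≤ V)) (f.base x)
        ⟨hU, hV⟩ s).symm.trans ?_
    erw [e', map_zero]
  · obtain ⟨U, hU, s, rfl⟩ := TopCat.Presheaf.exists_germ_eq (C := AddCommGrpCat.{u}) M.presheaf (x := x) m
    obtain ⟨W, rfl⟩ := exists_preimage_eq f U
    exact ⟨gmM ((Scheme.Modules.pushforward f).obj M) W hU s, pushStalkHom_germ f x M W hU s⟩

theorem isZero_stalk_push_of_notMem {y : Y} (hy : y ∉ Set.range f.base) (M : X.Modules) :
    IsZero ((DerSch.stalkFunctor Y y).obj ((Scheme.Modules.pushforward f).obj M)) := by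
  rw [IsZero.iff_id_eq_zero]
  refine stalk_hom_ext fun V hV s => ?_
  let W : Y.Opens := ⟨(Set.range f.base)ᶜ, f.isClosedEmbedding.isClosed_range.isOpen_compl⟩
  have he : f ⁻¹ᵁ (W ⊓ V) = ⊥ := le_bot_iff.1 fun z hz => hz.1 ⟨z, rfl⟩
  have hs : Subsingleton (M.presheaf.obj (op (f ⁻¹ᵁ (W ⊓ V)))) := by
    rw [he]
    exact ⟨fun a b => TopCat.Presheaf.section_ext (C := AddCommGrpCat.{u}) ⟨M.presheaf, M.isSheaf⟩ ⊥ a b
      fun z hz => hz.elim⟩
  refine (TopCat.Presheaf.germ_res_apply (C := AddCommGrpCat.{u})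
    ((Scheme.Modules.pushforward f).obj M).presheaf (homOfLE (inf_le_right : W ⊓ V ≤ V)) y ⟨hy, hV⟩ s).symm.trans ?_
  have h0 : ((Scheme.Modules.pushforward f).obj M).presheaf.map (homOfLE (inf_le_right : W ⊓ V ≤ V)).op s = 0 :=
    Subsingleton.elim (α := M.presheaf.obj (op (f ⁻¹ᵁ (W ⊓ V)))) _ _
  erw [h0, map_zero]
  rfl

omit [IsClosedImmersion f] in
/-- The unit of pullback and direct image, on stalks. -/
theorem pushStalk_unit (G : Y.Modules) (m : (DerSch.stalkFunctor Y (f.base x)).obj G) :
    (stalkPullIso f x).hom.app G (pushStalkHom f x ((Scheme.Modules.pullback f).obj G)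
      ((DerSch.stalkFunctor Y (f.base x)).map
        ((Scheme.Modules.pullbackPushforwardAdjunction f).unit.app G) m)) =
      (ModuleCat.extendRestrictScalarsAdj.{u, u, u} (stφ f x)).unit.app _ m := by
  obtain ⟨V, hV, s, rfl⟩ := TopCat.Presheaf.exists_germ_eq (C := AddCommGrpCat.{u}) G.presheaf (x := f.base x) m
  let η := (Scheme.Modules.pullbackPushforwardAdjunction f).unit.app G
  refine (congrArg (fun t => (stalkPullIso f x).hom.app G (pushStalkHom f x _ t))
    (DerSch.stalkFunctor_map_germ (f.base x) η V hV s)).trans ?_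
  refine (congrArg (fun t => (stalkPullIso f x).hom.app G t)
    (pushStalkHom_germ f x ((Scheme.Modules.pullback f).obj G) V hV (η.app V s))).trans ?_
  let e := Adjunction.homEquiv_leftAdjointUniq_hom_app
    ((Scheme.Modules.pullbackPushforwardAdjunction f).comp (stalkSkyAdj x))
    (((stalkSkyAdj (f.base x)).comp (ModuleCat.extendRestrictScalarsAdj.{u, u, u} (stφ f x))).ofNatIsoRight
      (pushSkyIso f x).symm) G
  let adjE := ModuleCat.extendRestrictScalarsAdj.{u, u, u} (stφ f x)
  let St := (DerSch.stalkFunctor Y (f.base x)).obj G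
  have hl : (Scheme.Modules.pullbackPushforwardAdjunction f).unit.app G ≫
      (Scheme.Modules.pushforward f).map (toSky ((stalkPullIso f x).hom.app G)) =
      toSky (adjE.unit.app St) ≫ (pushSkyIso f x).inv.app ((extSt f x).obj St) := by
    refine Eq.trans ?_ (e.trans ?_)
    · rw [Adjunction.comp_homEquiv]
      exact ((Scheme.Modules.pullbackPushforwardAdjunction f).homEquiv_unit _ _ _).symm
    · rfl
  have h2 : (Scheme.Modules.pullbackPushforwardAdjunction f).unit.app G ≫
      (Scheme.Modules.pushforward f).map (toSky ((stalkPullIso f x).hom.app G)) ≫ pushSkyHom f x _ =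
        toSky (adjE.unit.app St) := by
    refine (Category.assoc _ _ _).symm.trans ((congrArg (· ≫ pushSkyHom f x _) hl).trans ?_)
    refine (Category.assoc _ _ _).trans ?_
    exact (congrArg (toSky (adjE.unit.app St) ≫ ·) ((pushSkyIso f x).inv_hom_id_app _)).trans (Category.comp_id _)
  exact congrArg (fun g => (g.app V s : SkySec (f.base x) _ (op V)) ⟨hV⟩) h2

end Groth.Agent.DCohBridge
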