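import Groth.Agent.DerCat.MapBifunctor
import Groth.Prelude.Def_KFlatSite
import Mathlib.Algebra.Category.ModuleCat.Monoidal.Adjunction
import Mathlib.Algebra.Homology.QuasiIso

/-!
Base change of K-flat complexes of modules over rings.
-/

set_option backward.isDefEq.respectTransparency false
set_option backward.defeqAttrib.useBackward true

universe u

open CategoryTheory MonoidalCategory Limits TensorProduct

namespace Groth.Agent.DCohBridge

variable {R S : Type u} [CommRing R] [CommRing S] (φ : R →+* S)

/-- Restriction of scalars. -/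
noncomputable abbrev rsc : ModuleCat.{u} S ⥤ ModuleCat.{u} R := ModuleCat.restrictScalars φ

/-- Extension of scalars. -/
noncomputable abbrev esc : ModuleCat.{u} R ⥤ ModuleCat.{u} S := ModuleCat.extendScalars.{u, u, u} φ

section

variable (M : ModuleCat.{u} S) (N : ModuleCat.{u} R)

/-- `1 ⊗ n`. -/
noncomputable def one' : N →ₗ[R] (rsc φ).obj ((esc φ).obj N) :=
  ((ModuleCat.extendRestrictScalarsAdj φ).unit.app N).hom

/-- The projection formula map. -/
noncomputable def projFwd : (rsc φ).obj M ⊗ N ⟶ (rsc φ).obj (M ⊗ (esc φ).obj N) :=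
  ModuleCat.MonoidalCategory.tensorLift
    (fun (m : M) (n : N) => m ⊗ₜ[S] (show (esc φ).obj N from one' φ N n))
    (fun m m' n => TensorProduct.add_tmul _ _ _)
    (fun r m n => (TensorProduct.smul_tmul' (φ r) m (show (esc φ).obj N from one' φ N n)).symm)
    (fun m n n' => by
      change m ⊗ₜ[S] (show (esc φ).obj N from one' φ N (n + n')) = _
      rw [map_add]
      exact TensorProduct.tmul_add _ _ _)
    (fun r m n => by
      change m ⊗ₜ[S] (show (esc φ).obj N from one' φ N (r • n)) = _
      rw [map_smul]
      exact (TensorProduct.tmul_smul (φ r) m (show (esc φ).obj N from one' φ N n)))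

lemma projFwd_tmul (m : M) (n : N) :
    projFwd φ M N (m ⊗ₜ n) = m ⊗ₜ[S] (show (esc φ).obj N from one' φ N n) := rfl

/-- Multiplication into the tensor product, for a fixed element of `M`. -/
noncomputable def projInner (m : M) : (esc φ).obj N →+ (rsc φ).obj M ⊗[R] N :=
  show (rsc φ).obj (ModuleCat.of S S) ⊗[R] N →+ _ from
  TensorProduct.liftAddHom
    (AddMonoidHom.mk' (fun s : (rsc φ).obj (ModuleCat.of S S) => AddMonoidHom.mk'
        (fun n : N => (show (rsc φ).obj M from (show S from s) • m) ⊗ₜ[R] n) (fun n n' => TensorProduct.tmul_add _ _ _))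
      (fun s s' => AddMonoidHom.ext fun n => by
        change (show (rsc φ).obj M from ((show S from s) + (show S from s')) • m) ⊗ₜ[R] n = _
        rw [add_smul]
        exact TensorProduct.add_tmul _ _ _))
    (fun r s n => by
      change (show (rsc φ).obj M from (φ r * (show S from s)) • m) ⊗ₜ[R] n =
        (show (rsc φ).obj M from (show S from s) • m) ⊗ₜ[R] (r • n)
      rw [mul_smul]
      exact TensorProduct.smul_tmul r (show (rsc φ).obj M from (show S from s) • m) n)

lemma projInner_tmul (m : M) (s : S) (n : N) :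
    projInner φ M N m (show (esc φ).obj N from
      (show (rsc φ).obj (ModuleCat.of S S) from s) ⊗ₜ[R] n) = (show (rsc φ).obj M from s • m) ⊗ₜ[R] n := rfl

/-- The inverse of the projection formula map. -/
noncomputable def projBwd : M ⊗[S] (esc φ).obj N →+ (rsc φ).obj M ⊗[R] N :=
  TensorProduct.liftAddHom
    (AddMonoidHom.mk' (fun m => projInner φ M N m) (fun m m' => by
      ext t
      induction t using TensorProduct.induction_on with
      | zero => simp
      | tmul s n =>
        change (show (rsc φ).obj M from (show S from s) • (m + m')) ⊗ₜ[R] n = _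
        rw [smul_add]
        exact TensorProduct.add_tmul _ _ _
      | add a b ha hb => erw [map_add, map_add, ha, hb]))
    (fun c m t => by
      change projInner φ M N (c • m) t = projInner φ M N m (c • t)
      induction t using TensorProduct.induction_on with
      | zero => simp
      | tmul s n =>
        change (show (rsc φ).obj M from (show S from s) • c • m) ⊗ₜ[R] n =
          (show (rsc φ).obj M from (c * (show S from s)) • m) ⊗ₜ[R] n
        rw [smul_smul, mul_comm]
      | add a b ha hb => erw [smul_add, map_add, map_add, ha, hb])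

instance isIso_projFwd : IsIso (projFwd φ M N) := by
  rw [ConcreteCategory.isIso_iff_bijective]
  refine ⟨Function.LeftInverse.injective (g := projBwd φ M N) fun t => ?_, fun t => ?_⟩
  · induction t using TensorProduct.induction_on with
    | zero => simp
    | tmul m n =>
      rw [projFwd_tmul]
      change (show (rsc φ).obj M from (1 : S) • m) ⊗ₜ[R] n = _
      rw [one_smul]
    | add a b ha hb => erw [map_add, map_add, ha, hb]
  · induction t using TensorProduct.induction_on with
    | zero => exact ⟨0, map_zero _⟩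
    | tmul m t =>
      induction t using TensorProduct.induction_on with
      | zero => exact ⟨0, (map_zero _).trans (TensorProduct.tmul_zero _ _).symm⟩
      | tmul s n =>
        refine ⟨(show (rsc φ).obj M from (show S from s) • m) ⊗ₜ[R] n, ?_⟩
        rw [projFwd_tmul]
        refine (TensorProduct.smul_tmul (show S from s) m _).trans (congrArg (m ⊗ₜ[S] ·) ?_)
        exact congrArg (fun z : (rsc φ).obj (ModuleCat.of S S) => z ⊗ₜ[R] n) (mul_one (show S from s))
      | add a b ha hb =>
        obtain ⟨a', ha'⟩ := ha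
        obtain ⟨b', hb'⟩ := hb
        exact ⟨a' + b', (map_add _ _ _).trans ((congrArg₂ (· + ·) ha' hb').trans
          (TensorProduct.tmul_add _ _ _).symm)⟩
    | add a b ha hb =>
      obtain ⟨a', rfl⟩ := ha
      obtain ⟨b', rfl⟩ := hb
      exact ⟨a' + b', map_add _ _ _⟩

end

/-- The projection formula for modules. -/
noncomputable def projIsoR (M : ModuleCat.{u} S) (N : ModuleCat.{u} R) :
    (rsc φ).obj M ⊗ N ≅ (rsc φ).obj (M ⊗ (esc φ).obj N) :=
  asIso (projFwd φ M N)

lemma projFwd_natural {M M' : ModuleCat.{u} S} {N N' : ModuleCat.{u} R} (a : M ⟶ M') (b : N ⟶ N') :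
    ((rsc φ).map a ⊗ₘ b) ≫ projFwd φ M' N' = projFwd φ M N ≫ (rsc φ).map (a ⊗ₘ (esc φ).map b) :=
  ModuleCat.MonoidalCategory.tensor_ext fun m n => by
    change projFwd φ M' N' (a m ⊗ₜ b n) = (a ⊗ₘ (esc φ).map b) (projFwd φ M N (m ⊗ₜ n))
    rw [projFwd_tmul, projFwd_tmul]
    refine Eq.trans ?_ (ModuleCat.MonoidalCategory.tensorHom_tmul _ _ _ _).symm
    rfl

instance preservesColimitsOfSize_rsc : PreservesColimitsOfSize.{0, 0} (rsc φ) :=
  haveI : PreservesColimitsOfSize.{u, u} (rsc φ) :=
    (ModuleCat.restrictCoextendScalarsAdj.{u, u, u} φ).leftAdjoint_preservesColimits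
  preservesColimitsOfSize_shrink.{0, u, 0, u} _

instance additive_esc : (esc φ).Additive :=
  haveI := (ModuleCat.extendRestrictScalarsAdj.{u, u, u} φ).left_adjoint_additive
  inferInstance

/-- The projection formula for complexes. -/
noncomputable def projIsoCx (M : DRing.Cx S) (K : DRing.Cx R) :
    ((rsc φ).mapHomologicalComplex (ComplexShape.up ℤ)).obj M ⊗ K ≅
      ((rsc φ).mapHomologicalComplex (ComplexShape.up ℤ)).obj
        (M ⊗ ((esc φ).mapHomologicalComplex (ComplexShape.up ℤ)).obj K) :=
  DerCat.mapBifunctorCompIso (curriedTensor (ModuleCat.{u} S)) (curriedTensor (ModuleCat.{u} R))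
    (rsc φ) (𝟭 _) (rsc φ) (esc φ) (fun M N => (projIsoR φ M N).symm)
    (fun {M M'} a N => by
      change (rsc φ).map (a ▷ (esc φ).obj N) ≫ inv (projFwd φ M' N) = inv (projFwd φ M N) ≫ (rsc φ).map a ▷ N
      have h := projFwd_natural φ a (𝟙 N)
      rw [CategoryTheory.Functor.map_id, tensorHom_id, tensorHom_id] at h
      rw [IsIso.comp_inv_eq, Category.assoc, IsIso.eq_inv_comp]
      exact h.symm)
    (fun M {N N'} b => by
      change (rsc φ).map (M ◁ (esc φ).map b) ≫ inv (projFwd φ M N') = inv (projFwd φ M N) ≫ (rsc φ).obj M ◁ b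
      have h := projFwd_natural φ (𝟙 M) b
      rw [CategoryTheory.Functor.map_id, id_tensorHom, id_tensorHom] at h
      rw [IsIso.comp_inv_eq, Category.assoc, IsIso.eq_inv_comp]
      exact h.symm)
    M K

/-- Base change preserves K-flatness. -/
theorem isKFlat_baseChange {K : DRing.Cx R} (hK : DRing.IsKFlat R K) :
    DRing.IsKFlat S (((esc φ).mapHomologicalComplex (ComplexShape.up ℤ)).obj K) := by
  intro M hM n
  have hM' : ∀ i, IsZero ((((rsc φ).mapHomologicalComplex (ComplexShape.up ℤ)).obj M).homology i) := fun i =>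
    ((rsc φ).map_isZero (hM i)).of_iso ((M.sc i).mapHomologyIso (rsc φ))
  have h := (hK _ hM' n).of_iso (HomologicalComplex.homologyMapIso (projIsoCx φ M K).symm n)
  have h' := h.of_iso ((((M ⊗ ((esc φ).mapHomologicalComplex (ComplexShape.up ℤ)).obj K)).sc n).mapHomologyIso
    (rsc φ)).symm
  haveI : Subsingleton ((M ⊗ ((esc φ).mapHomologicalComplex (ComplexShape.up ℤ)).obj K).homology n) :=
    show Subsingleton ((rsc φ).obj ((M ⊗ ((esc φ).mapHomologicalComplex (ComplexShape.up ℤ)).obj K).sc n).homology)
      from ModuleCat.subsingleton_of_isZero h'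
  exact ModuleCat.isZero_of_subsingleton _

end Groth.Agent.DCohBridge
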