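import Groth.Agent.DCohBridge.StalkKFlat
import Groth.Agent.DCohBridge.RingBC
import Mathlib.AlgebraicGeometry.Modules.Tilde

/-!
The stalk of `M~` is the base change of `M`; tilde preserves K-flat complexes.
-/

set_option backward.isDefEq.respectTransparency false
set_option backward.defeqAttrib.useBackward true

universe u

open CategoryTheory MonoidalCategory Limits Opposite TopologicalSpace AlgebraicGeometry

namespace Groth.Agent.DCohBridge

variable (R : CommRingCat.{u}) (p : Spec (CommRingCat.of R))

/-- `R → O_p`. -/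
noncomputable abbrev tildeφ : R →+* (Spec (CommRingCat.of R)).presheaf.stalk p :=
  ((Scheme.ΓSpecIso R).inv ≫ (Spec (CommRingCat.of R)).presheaf.germ ⊤ p trivial).hom

/-- Global sections of a skyscraper. -/
noncomputable def gammaSkyHom (N : ModuleCat.{u} ((Spec (CommRingCat.of R)).presheaf.stalk p)) :
    moduleSpecΓFunctor.obj ((sky p).obj N) ⟶ (ModuleCat.restrictScalars (tildeφ R p)).obj N :=
  ModuleCat.ofHom (X := moduleSpecΓFunctor.obj ((sky p).obj N))
    (Y := (ModuleCat.restrictScalars (tildeφ R p)).obj N)
    { toFun := fun g => (g : SkySec p N (op ⊤)) ⟨trivial⟩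
      map_add' := fun g g' => rfl
      map_smul' := fun r g => by
        change (Spec (CommRingCat.of R)).presheaf.germ ⊤ p trivial
            ((Spec (CommRingCat.of R)).presheaf.map
              ((initialOpOfTerminal isTerminalTop).to (op ⊤)) ((Scheme.ΓSpecIso R).inv r)) •
              (g : SkySec p N (op ⊤)) ⟨trivial⟩ =
          tildeφ R p r • (g : SkySec p N (op ⊤)) ⟨trivial⟩
        congr 1 }

instance isIso_gammaSkyHom (N : ModuleCat.{u} ((Spec (CommRingCat.of R)).presheaf.stalk p)) :
    IsIso (gammaSkyHom R p N) := by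
  rw [ConcreteCategory.isIso_iff_bijective]
  exact ⟨fun g g' e => funext fun h => e, fun n => ⟨fun _ => n, rfl⟩⟩

/-- Global sections of skyscrapers, naturally. -/
noncomputable def gammaSkyIso :
    sky p ⋙ moduleSpecΓFunctor ≅ ModuleCat.restrictScalars (tildeφ R p) :=
  NatIso.ofComponents (fun N => asIso (gammaSkyHom R p N)) (fun φ => rfl)

/-- The stalk of `M~`. -/
noncomputable def stalkTildeIso :
    tilde.functor R ⋙ DerSch.stalkFunctor (Spec (CommRingCat.of R)) p ≅
      ModuleCat.extendScalars.{u, u, u} (tildeφ R p) :=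
  Adjunction.leftAdjointUniq (tilde.adjunction.comp (stalkSkyAdj p))
    ((ModuleCat.extendRestrictScalarsAdj.{u, u, u} (tildeφ R p)).ofNatIsoRight (gammaSkyIso R p).symm)

/-- The stalk complex of `K~`. -/
noncomputable def stCxTildeIso (K : DRing.Cx R) :
    (stCx p).obj (((tilde.functor R).mapHomologicalComplex (ComplexShape.up ℤ)).obj K) ≅
      ((esc (tildeφ R p)).mapHomologicalComplex (ComplexShape.up ℤ)).obj K :=
  HomologicalComplex.Hom.isoOfComponents (fun n => (stalkTildeIso R p).app (K.X n))
    (fun i j _ => ((stalkTildeIso R p).hom.naturality (K.d i j)).symm)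

variable {R}

/-- Tilde preserves K-flatness. -/
theorem isKFlat_tilde {K : DRing.Cx R} (h : DRing.IsKFlat R K) :
    DCoh.IsKFlat (((tilde.functor R).mapHomologicalComplex (ComplexShape.up ℤ)).obj K) :=
  isKFlat_of_stalk fun p M hM i =>
    (isKFlat_baseChange (tildeφ R p) h M hM i).of_iso
      (HomologicalComplex.homologyMapIso (MonoidalCategory.whiskerLeftIso M (stCxTildeIso R p K)) i)

end Groth.Agent.DCohBridge
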