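import Groth.Agent.DCohBridge.PushStalk
import Groth.Agent.DCohBridge.PullTensorMod
import Mathlib.Algebra.Category.ModuleCat.ChangeOfRings

/-!
Closed immersions: exactness of the direct image and the projection formula for modules.
-/

set_option backward.isDefEq.respectTransparency false
set_option backward.defeqAttrib.useBackward true

universe u

open CategoryTheory MonoidalCategory Limits Opposite TopologicalSpace AlgebraicGeometry TensorProduct

namespace Groth.Agent.DCohBridge

variable {X Y : Scheme.{u}}

/-- A map of modules bijective on stalks is an isomorphism. -/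
theorem isIso_of_stalk_bijective {M N : X.Modules} (φ : M ⟶ N)
    (h : ∀ x, Function.Bijective ((DerSch.stalkFunctor X x).map φ)) : IsIso φ := by
  rw [Scheme.Modules.Hom.isIso_iff_isIso_app]
  intro U
  let g : (⟨M.presheaf, M.isSheaf⟩ : TopCat.Sheaf Ab X.carrier) ⟶ ⟨N.presheaf, N.isSheaf⟩ :=
    ⟨φ.mapPresheaf⟩
  rw [ConcreteCategory.isIso_iff_bijective]
  exact TopCat.Presheaf.app_bijective_of_stalkFunctor_map_bijective g U fun x _ => h x

/-- A map of modules whose stalks are isomorphisms is an isomorphism. -/
theorem isIso_of_stalk_isIso {M N : X.Modules} (φ : M ⟶ N)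
    (h : ∀ x, IsIso ((DerSch.stalkFunctor X x).map φ)) : IsIso φ :=
  isIso_of_stalk_bijective φ fun x => @ConcreteCategory.bijective_of_isIso _ _ _ _ _ _ _ _ ((DerSch.stalkFunctor X x).map φ) (h x)

/-- Functors into modules are tested for colimits on stalks. -/
theorem preservesColimit_of_stalk {J C : Type*} [Category* J] [Category* C] (D : J ⥤ C) (F : C ⥤ X.Modules)
    [HasColimit (D ⋙ F)] [∀ x : X, PreservesColimit (D ⋙ F) (DerSch.stalkFunctor X x)]
    [∀ x : X, PreservesColimit D (F ⋙ DerSch.stalkFunctor X x)] : PreservesColimit D F := ⟨fun {c} hc => ⟨by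
  let d := colimit.desc (D ⋙ F) (F.mapCocone c)
  haveI : IsIso d := isIso_of_stalk_isIso d fun x => by
    let h1 := isColimitOfPreserves (DerSch.stalkFunctor X x) (colimit.isColimit (D ⋙ F))
    let h2 := isColimitOfPreserves (F ⋙ DerSch.stalkFunctor X x) hc
    have : (DerSch.stalkFunctor X x).map d = (h1.coconePointUniqueUpToIso h2).hom := h1.hom_ext fun j => by
      refine ((DerSch.stalkFunctor X x).map_comp _ _).symm.trans
        (Eq.trans ?_ (h1.comp_coconePointUniqueUpToIso_hom h2 j).symm)
      exact congrArg (DerSch.stalkFunctor X x).map (colimit.ι_desc (F.mapCocone c) j)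
    rw [this]
    infer_instance
  exact IsColimit.ofPointIso (colimit.isColimit _) (i := ‹IsIso d›)⟩⟩

variable (f : X ⟶ Y) [IsClosedImmersion f]

/-- The stalks of a direct image, naturally. -/
noncomputable def pushStalkIso (x : X) :
    Scheme.Modules.pushforward f ⋙ DerSch.stalkFunctor Y (f.base x) ≅
      DerSch.stalkFunctor X x ⋙ ModuleCat.restrictScalars (stφ f x) :=
  NatIso.ofComponents (fun M => @asIso _ _ _ _ (pushStalkHom f x M)
      ((ConcreteCategory.isIso_iff_bijective _).2 (bijective_pushStalkHom f x M)))
    (fun {M M'} a => pushStalkHom_natural f x a)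

theorem preservesColimitsOfSize_push : PreservesColimitsOfSize.{0, 0} (Scheme.Modules.pushforward f) := by
  constructor
  intro J _
  constructor
  intro D
  haveI : ∀ y : Y, PreservesColimitsOfSize.{0, 0} (DerSch.stalkFunctor Y y) := fun y => inferInstance
  haveI : ∀ y : Y, PreservesColimit D (Scheme.Modules.pushforward f ⋙ DerSch.stalkFunctor Y y) := fun y => by
    by_cases hy : y ∈ Set.range f.base
    · obtain ⟨x, rfl⟩ := hy
      haveI : PreservesColimitsOfSize.{0, 0} (ModuleCat.restrictScalars.{u} (stφ f x)) :=
        preservesColimitsOfSize_shrink.{0, u, 0, u} _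
      exact preservesColimit_of_natIso D (pushStalkIso f x).symm
    · exact ⟨fun {c} hc => ⟨{
        desc := fun s => 0
        fac := fun s j => (isZero_stalk_push_of_notMem f hy _).eq_of_src _ _
        uniq := fun s m _ => (isZero_stalk_push_of_notMem f hy _).eq_of_src _ _ }⟩⟩
  exact preservesColimit_of_stalk D (Scheme.Modules.pushforward f)

theorem preservesFiniteColimits_push : PreservesFiniteColimits (Scheme.Modules.pushforward f) := by
  haveI := preservesColimitsOfSize_push f
  exact PreservesColimitsOfSize.preservesFiniteColimits _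

/-- Modules on `Y` with the shape of a direct image. -/
structure IsPushLike (G : Y.Modules) : Prop where
  annihilated : ∀ (x : X) (r : Y.presheaf.stalk (f.base x)), stφ f x r = 0 →
    ∀ m : (DerSch.stalkFunctor Y (f.base x)).obj G, r • m = 0
  isZero : ∀ y, y ∉ Set.range f.base → IsZero ((DerSch.stalkFunctor Y y).obj G)

lemma isPushLike_push (M : X.Modules) : IsPushLike f ((Scheme.Modules.pushforward f).obj M) where
  annihilated x r hr m := by
    refine (bijective_pushStalkHom f x M).1 ?_
    rw [map_smul, map_zero]
    show stφ f x r • (show (DerSch.stalkFunctor X x).obj M from pushStalkHom f x M m) = 0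
    rw [hr, zero_smul]
  isZero y hy := isZero_stalk_push_of_notMem f hy M

lemma isPushLike_tensor {A : Y.Modules} (hA : IsPushLike f A) (N : Y.Modules) :
    IsPushLike f (((ModSite.tensorBi Y.sheaf).obj A).obj N) where
  annihilated x r hr m := by
    let e := stalkTensorIso (f.base x) A N
    refine (ConcreteCategory.bijective_of_isIso e.hom).1 ?_
    rw [map_smul, map_zero]
    generalize e.hom m = t
    induction t using TensorProduct.induction_on with
    | zero => exact smul_zero r
    | tmul a b => rw [TensorProduct.smul_tmul', hA.annihilated x r hr a, TensorProduct.zero_tmul]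
    | add a b ha hb => rw [smul_add, ha, hb, add_zero]
  isZero y hy :=
    ((tensorRight ((DerSch.stalkFunctor Y y).obj N)).map_isZero (hA.isZero y hy)).of_iso (stalkTensorIso y A N)

lemma bijective_extendScalars_unit {R S : Type u} [CommRing R] [CommRing S] (φ : R →+* S)
    (hφ : Function.Surjective φ) (M : ModuleCat.{u} R) (hM : ∀ r, φ r = 0 → ∀ m : M, r • m = 0) :
    Function.Bijective ((ModuleCat.extendRestrictScalarsAdj.{u, u, u} φ).unit.app M) := by
  letI := φ.toAlgebra
  have hs : ∀ r r' : R, φ r = φ r' → ∀ m : M, r • m = r' • m := fun r r' h m =>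
    sub_eq_zero.1 ((sub_smul r r' m).symm.trans (hM _ (by rw [map_sub, h, sub_self]) m))
  let g : S → R := Function.surjInv hφ
  have hg : ∀ s, φ (g s) = s := Function.surjInv_eq hφ
  let B : S →ₗ[R] M →ₗ[R] M := LinearMap.mk₂ R (fun s m => g s • m)
    (fun s s' m => (hs _ (g s + g s') (by rw [map_add, hg, hg, hg]) m).trans (add_smul _ _ _))
    (fun c s m => (hs _ (c * g s) (by rw [map_mul, hg, hg]; rfl) m).trans (mul_smul _ _ _))
    (fun s m m' => smul_add _ _ _) (fun c s m => smul_comm _ _ _)
  have key : ∀ m : M, TensorProduct.lift B ((1 : S) ⊗ₜ[R] m) = m := fun m =>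
    (hs _ 1 (by rw [hg, map_one]) m).trans (one_smul R m)
  refine ⟨fun m m' h => ?_, fun t => ?_⟩
  · exact (key m).symm.trans ((congrArg (TensorProduct.lift B) h).trans (key m'))
  · change S ⊗[R] M at t
    suffices ∃ m : M, (1 : S) ⊗ₜ[R] m = t from this
    induction t using TensorProduct.induction_on with
    | zero => exact ⟨0, TensorProduct.tmul_zero _ _⟩
    | tmul s m =>
      refine ⟨g s • m, ?_⟩
      rw [← TensorProduct.smul_tmul]
      congr 1
      exact (Algebra.smul_def (g s) (1 : S)).trans ((mul_one _).trans (hg s))
    | add a b ha hb =>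
      obtain ⟨p, hp⟩ := ha
      obtain ⟨q, hq⟩ := hb
      exact ⟨p + q, by rw [TensorProduct.tmul_add, hp, hq]⟩

/-- The unit is an isomorphism on modules with the shape of a direct image. -/
theorem isIso_unit_of_pushLike {G : Y.Modules} (hG : IsPushLike f G) :
    IsIso ((Scheme.Modules.pullbackPushforwardAdjunction f).unit.app G) := by
  refine isIso_of_stalk_bijective _ fun y => ?_
  by_cases hy : y ∈ Set.range f.base
  · obtain ⟨x, rfl⟩ := hy
    have hb := bijective_extendScalars_unit (stφ f x) (f.stalkMap_surjective x) _ (hG.annihilated x)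
    have h1 : Function.Bijective ((stalkPullIso f x).hom.app G) :=
      ConcreteCategory.bijective_of_isIso _
    have h2 : Function.Bijective (pushStalkHom f x ((Scheme.Modules.pullback f).obj G)) :=
      bijective_pushStalkHom f x _
    refine (Function.Bijective.of_comp_iff' (h1.comp h2) _).1 ?_
    exact (iff_of_eq (congrArg Function.Bijective (funext fun m => pushStalk_unit f x G m))).2 hb
  · haveI := ModuleCat.subsingleton_of_isZero (hG.isZero y hy)
    haveI := ModuleCat.subsingleton_of_isZero
      (isZero_stalk_push_of_notMem f hy ((Scheme.Modules.pullback f).obj G))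
    exact ⟨fun a b _ => Subsingleton.elim (α := (DerSch.stalkFunctor Y y).obj G) a b,
      fun b => ⟨0, Subsingleton.elim (α := (DerSch.stalkFunctor Y y).obj
        ((Scheme.Modules.pushforward f).obj ((Scheme.Modules.pullback f).obj G))) _ _⟩⟩

/-- The counit of a closed immersion is an isomorphism. -/
theorem isIso_counit_closed (M : X.Modules) :
    IsIso ((Scheme.Modules.pullbackPushforwardAdjunction f).counit.app M) := by
  let adj := Scheme.Modules.pullbackPushforwardAdjunction f
  haveI := isIso_unit_of_pushLike f (isPushLike_push f M)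
  haveI : IsIso ((Scheme.Modules.pushforward f).map (adj.counit.app M)) :=
    IsIso.of_isIso_fac_left (adj.right_triangle_components M)
  refine isIso_of_stalk_bijective _ fun x => ?_
  haveI : IsIso ((ModuleCat.restrictScalars (stφ f x)).map ((DerSch.stalkFunctor X x).map (adj.counit.app M))) :=
    (NatIso.isIso_map_iff (pushStalkIso f x) (adj.counit.app M)).1
      (inferInstanceAs (IsIso ((DerSch.stalkFunctor Y (f.base x)).map ((Scheme.Modules.pushforward f).map _))))
  exact @ConcreteCategory.bijective_of_isIso _ _ _ _ _ _ _ _
    ((ModuleCat.restrictScalars (stφ f x)).map ((DerSch.stalkFunctor X x).map (adj.counit.app M))) this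

/-- The projection formula map: the unit followed by pullback of tensor products and the counit. -/
noncomputable def projModHom (M : X.Modules) (N : Y.Modules) :
    (DCoh.tensorBi.obj ((Scheme.Modules.pushforward f).obj M)).obj N ⟶
      (Scheme.Modules.pushforward f).obj ((DCoh.tensorBi.obj M).obj ((Scheme.Modules.pullback f).obj N)) :=
  (Scheme.Modules.pullbackPushforwardAdjunction f).unit.app _ ≫
    (Scheme.Modules.pushforward f).map ((pullTensorModIso f _ N).hom ≫
      (DCoh.tensorBi.map ((Scheme.Modules.pullbackPushforwardAdjunction f).counit.app M)).app _)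

theorem isIso_projModHom (M : X.Modules) (N : Y.Modules) : IsIso (projModHom f M N) := by
  have hu : IsIso ((Scheme.Modules.pullbackPushforwardAdjunction f).unit.app
      ((DCoh.tensorBi.obj ((Scheme.Modules.pushforward f).obj M)).obj N)) :=
    isIso_unit_of_pushLike f (isPushLike_tensor f (isPushLike_push f M) N)
  haveI := isIso_counit_closed f M
  haveI : IsIso ((pullTensorModIso f ((Scheme.Modules.pushforward f).obj M) N).hom ≫
      (DCoh.tensorBi.map ((Scheme.Modules.pullbackPushforwardAdjunction f).counit.app M)).app
        ((Scheme.Modules.pullback f).obj N)) := inferInstance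
  exact @IsIso.comp_isIso _ _ _ _ _ _ _ hu (Functor.map_isIso _ _)

/-- The projection formula for a closed immersion. -/
noncomputable def projModIso (M : X.Modules) (N : Y.Modules) :
    (DCoh.tensorBi.obj ((Scheme.Modules.pushforward f).obj M)).obj N ≅
      (Scheme.Modules.pushforward f).obj ((DCoh.tensorBi.obj M).obj ((Scheme.Modules.pullback f).obj N)) :=
  @asIso _ _ _ _ (projModHom f M N) (isIso_projModHom f M N)

end Groth.Agent.DCohBridge

namespace Groth.Agent.DCohBridge

variable {X Y : Scheme.{u}} (f : X ⟶ Y) [IsClosedImmersion f]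

lemma projModHom_left {M M' : X.Modules} (a : M ⟶ M') (N : Y.Modules) :
    (DCoh.tensorBi.map ((Scheme.Modules.pushforward f).map a)).app N ≫ projModHom f M' N =
      projModHom f M N ≫
        (Scheme.Modules.pushforward f).map ((DCoh.tensorBi.map a).app ((Scheme.Modules.pullback f).obj N)) := by
  let adj := Scheme.Modules.pullbackPushforwardAdjunction f
  refine (Category.assoc _ _ _).symm.trans ((congrArg (· ≫ _)
    (adj.unit.naturality ((DCoh.tensorBi.map ((Scheme.Modules.pushforward f).map a)).app N))).trans
      (((Category.assoc _ _ _).trans (congrArg (adj.unit.app _ ≫ ·) ?_)).trans (Category.assoc _ _ _).symm))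
  refine ((Scheme.Modules.pushforward f).map_comp _ _).symm.trans
    ((congrArg (Scheme.Modules.pushforward f).map ?_).trans ((Scheme.Modules.pushforward f).map_comp _ _))
  refine (Category.assoc _ _ _).symm.trans ((congrArg (· ≫ _) (pullTensorModIso_left f _ N)).trans
    (((Category.assoc _ _ _).trans (congrArg ((pullTensorModIso f _ N).hom ≫ ·) ?_)).trans
      (Category.assoc _ _ _).symm))
  exact (congr_app (((DCoh.tensorBi (X := X)).map_comp _ _).symm.trans
    ((congrArg (DCoh.tensorBi (X := X)).map (adj.counit.naturality a)).trans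
      ((DCoh.tensorBi (X := X)).map_comp _ _))) ((Scheme.Modules.pullback f).obj N))

lemma projModHom_right (M : X.Modules) {N N' : Y.Modules} (b : N ⟶ N') :
    (DCoh.tensorBi.obj ((Scheme.Modules.pushforward f).obj M)).map b ≫ projModHom f M N' =
      projModHom f M N ≫
        (Scheme.Modules.pushforward f).map ((DCoh.tensorBi.obj M).map ((Scheme.Modules.pullback f).map b)) := by
  let adj := Scheme.Modules.pullbackPushforwardAdjunction f
  refine (Category.assoc _ _ _).symm.trans ((congrArg (· ≫ _)
    (adj.unit.naturality ((DCoh.tensorBi.obj ((Scheme.Modules.pushforward f).obj M)).map b))).trans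
      (((Category.assoc _ _ _).trans (congrArg (adj.unit.app _ ≫ ·) ?_)).trans (Category.assoc _ _ _).symm))
  refine ((Scheme.Modules.pushforward f).map_comp _ _).symm.trans
    ((congrArg (Scheme.Modules.pushforward f).map ?_).trans ((Scheme.Modules.pushforward f).map_comp _ _))
  refine (Category.assoc _ _ _).symm.trans ((congrArg (· ≫ _) (pullTensorModIso_right f _ b)).trans
    (((Category.assoc _ _ _).trans (congrArg ((pullTensorModIso f _ N).hom ≫ ·) ?_)).trans
      (Category.assoc _ _ _).symm))
  exact ((DCoh.tensorBi (X := X)).map (adj.counit.app M)).naturality ((Scheme.Modules.pullback f).map b)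

end Groth.Agent.DCohBridge
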