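import Groth.Agent.DCohBridge.PCRetract

/-!
Retracts of perfect objects.
-/

set_option backward.isDefEq.respectTransparency false
set_option backward.defeqAttrib.useBackward true

universe u

open CategoryTheory Limits AlgebraicGeometry Pretriangulated

attribute [local instance] HasDerivedCategory.standard

namespace Groth.Agent.DCohBridge

variable {X V : Scheme.{u}}

/-- Retracts of finite locally free modules are finite locally free. -/
theorem isFinLocFree_retract {M P : X.Modules} (hP : FlatMod.IsFinLocFree P) (i : M ⟶ P) (p : P ⟶ M)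
    (h : i ≫ p = 𝟙 M) : FlatMod.IsFinLocFree M := by
  intro x
  obtain ⟨U, n, hx, ⟨e⟩⟩ := hP x
  let R := Scheme.Modules.restrictFunctor U.ι
  obtain ⟨W, k, hW, ⟨t⟩⟩ := FlatModLib.isFinLocFree_of_retract (R.obj M) n (R.map i ≫ e.hom) (e.inv ≫ R.map p)
    (by rw [Category.assoc, e.hom_inv_id_assoc, ← R.map_comp, h, R.map_id]) ⟨x, hx⟩
  let j := W.ι ≫ U.ι
  let l := j.isoOpensRange.inv
  exact ⟨j.opensRange, k, ⟨⟨⟨x, hx⟩, hW⟩, rfl⟩,
    ⟨((Scheme.Modules.restrictFunctorCongr (show j.opensRange.ι = l ≫ j by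
        rw [eq_comm, Iso.inv_comp_eq, Scheme.Hom.isoOpensRange_hom_ι])) ≪≫
      Scheme.Modules.restrictFunctorComp l j).app M ≪≫
      (Scheme.Modules.restrictFunctor l).mapIso ((Scheme.Modules.restrictFunctorComp W.ι U.ι).app M ≪≫ t) ≪≫
      TensorMod.restrictFreeModIso l k⟩⟩

lemma isGE_restrictD (j : V ⟶ X) [IsOpenImmersion j] (K : DCoh.D X) (n : ℤ) [K.IsGE n] :
    ((DCoh.restrictD j).obj K).IsGE n := by
  obtain ⟨F, _, ⟨e⟩⟩ := DerivedCategory.exists_iso_Q_obj_of_isGE K n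
  haveI : ((resCx j).obj F).IsGE n := (CochainComplex.isGE_iff _ _).2 fun i hi =>
    exactAt_res j (F.exactAt_of_isGE n i hi)
  exact DerivedCategory.TStructure.t.isGE_of_iso ((DCoh.restrictD j).mapIso e ≪≫ restrictObjIso j F).symm n

lemma isGE_of_retract {K W : DCoh.D X} (i : K ⟶ W) (r : W ⟶ K) (hir : i ≫ r = 𝟙 K) (n : ℤ) [W.IsGE n] :
    K.IsGE n := by
  rw [DerivedCategory.isGE_iff]
  intro q hq
  rw [IsZero.iff_id_eq_zero, ← CategoryTheory.Functor.map_id, ← hir, Functor.map_comp,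
    (DerivedCategory.isZero_of_isGE W n q hq).eq_of_tgt ((DerivedCategory.homologyFunctor _ q).map i) 0, zero_comp]

lemma isGE_Q_of_vanishes {E : CochainComplex X.Modules ℤ} {a : ℤ} (hv : ∀ i, i < a → IsZero (E.X i)) :
    (DCoh.toD X E).IsGE a := by
  haveI : E.IsGE a := (CochainComplex.isGE_iff _ _).2 fun i hi =>
    ShortComplex.exact_of_isZero_X₂ _ (hv i hi)
  infer_instance

lemma perfAt_Q {E : CochainComplex X.Modules ℤ} (hE : DCoh.IsStrictlyPerfect E) (x : X) :
    PerfAt (DCoh.toD X E) x :=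
  ⟨X, 𝟙 X, inferInstance, x, (resCx (𝟙 X)).obj E, rfl, isStrictlyPerfect_res _ hE, ⟨restrictObjIso _ E⟩⟩

/-- A single object which is a retract of a complex of finite locally free modules vanishing below. -/
theorem perfAt_single {P : CochainComplex X.Modules ℤ} (hP : DCoh.IsStrictlyPerfect P) (m : ℤ)
    (hPm : ∀ i, i < m → IsZero (P.X i)) {N : X.Modules}
    (u' : DCoh.toD X ((HomologicalComplex.single X.Modules (ComplexShape.up ℤ) m).obj N) ⟶ DCoh.toD X P)
    (ρ : DCoh.toD X P ⟶ DCoh.toD X ((HomologicalComplex.single X.Modules (ComplexShape.up ℤ) m).obj N))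
    (h : u' ≫ ρ = 𝟙 _) (x : X) :
    PerfAt (DCoh.toD X ((HomologicalComplex.single X.Modules (ComplexShape.up ℤ) m).obj N)) x := by
  let S := (HomologicalComplex.single X.Modules (ComplexShape.up ℤ) m).obj N
  obtain ⟨U, hxU, β, hβ⟩ := exists_chainMap hP ρ x
  let R := DCoh.restrictD U.ι
  let P' := (DCoh.restrictCx U).obj P
  let S' := (DCoh.restrictCx U).obj S
  let uQ : DCoh.toD (U : Scheme.{u}) S' ⟶ DCoh.toD (U : Scheme.{u}) P' :=
    (restrictObjIso U.ι S).inv ≫ R.map u' ≫ (restrictObjIso U.ι P).hom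
  have hu : uQ ≫ DerivedCategory.Q.map β = 𝟙 _ := by
    have h2 : R.map u' ≫ R.map ρ = 𝟙 _ := by rw [← R.map_comp, h, R.map_id]
    rw [hβ] at h2
    simp only [uQ, Category.assoc]
    rw [Iso.inv_comp_eq, Category.comp_id, ← cancel_mono (restrictObjIso U.ι S).inv, Iso.hom_inv_id]
    simp only [Category.assoc]
    exact h2
  let eH := DerivedCategory.homologyFunctorFactors (U : Scheme.{u}).Modules m
  let σ : S'.homology m ⟶ P'.homology m :=
    eH.inv.app S' ≫ (DerivedCategory.homologyFunctor _ m).map uQ ≫ eH.hom.app P'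
  have hσ : σ ≫ HomologicalComplex.homologyMap β m = 𝟙 _ := by
    have hn : eH.hom.app P' ≫ HomologicalComplex.homologyMap β m =
        (DerivedCategory.homologyFunctor _ m).map (DerivedCategory.Q.map β) ≫ eH.hom.app S' :=
      (eH.hom.naturality β).symm
    simp only [σ, Category.assoc]
    rw [hn, ← Functor.map_comp_assoc, hu, CategoryTheory.Functor.map_id, Category.id_comp]
    exact eH.inv_hom_id_app S'
  have hz : IsZero (P'.X (m - 1)) := (Scheme.Modules.restrictFunctor U.ι).map_isZero (hPm (m - 1) (by lia))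
  haveI : IsIso (P'.homologyπ m) := P'.isIso_homologyπ (m - 1) m (by simp) (hz.eq_of_src _ _)
  have hzS : ∀ i, i ≠ m → IsZero (S'.X i) := fun i hi =>
    (Scheme.Modules.restrictFunctor U.ι).map_isZero (HomologicalComplex.isZero_single_obj_X _ _ _ _ hi)
  haveI : IsIso (S'.homologyπ m) := S'.isIso_homologyπ (m - 1) m (by simp) ((hzS _ (by lia)).eq_of_src _ _)
  haveI : IsIso (S'.iCycles m) := S'.isIso_iCycles m (m + 1) (by simp) ((hzS _ (by lia)).eq_of_tgt _ _)
  let s : S'.X m ⟶ P'.X m :=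
    inv (S'.iCycles m) ≫ S'.homologyπ m ≫ σ ≫ inv (P'.homologyπ m) ≫ P'.iCycles m
  have hs : s ≫ β.f m = 𝟙 _ := by
    simp only [s, Category.assoc]
    rw [← HomologicalComplex.cyclesMap_i β m, IsIso.inv_comp_eq, Category.comp_id]
    have : inv (P'.homologyπ m) ≫ HomologicalComplex.cyclesMap β m =
        HomologicalComplex.homologyMap β m ≫ inv (S'.homologyπ m) := by
      rw [IsIso.inv_comp_eq, ← Category.assoc, IsIso.eq_comp_inv]
      exact (HomologicalComplex.homologyπ_naturality β m).symm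
    rw [reassoc_of% this, reassoc_of% hσ, IsIso.hom_inv_id_assoc]
  have hS' : DCoh.IsStrictlyPerfect S' := by
    refine ⟨⟨m, m, fun i hi => hzS i (by lia)⟩, fun i => ?_⟩
    by_cases hi : i = m
    · subst hi
      exact isFinLocFree_retract (isFinLocFree_res U.ι hP i) s (β.f i) hs
    · exact TensorMod.isFinLocFree_of_iso (IsZero.iso (by
        rw [IsZero.iff_id_eq_zero]
        exact Sigma.hom_ext _ _ fun k => k.elim0) (hzS i hi)) (TensorMod.isFinLocFree_freeMod _ 0)
  exact ⟨U, U.ι, inferInstance, ⟨x, hxU⟩, S', rfl, hS', ⟨restrictObjIso U.ι S⟩⟩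

/-- A retract of a strictly perfect complex with a pseudo-coherence datum is perfect. -/
theorem perfAt_of_retract_Q {K : DCoh.D X} {E P : CochainComplex X.Modules ℤ} (hE : DCoh.IsStrictlyPerfect E)
    (hP : DCoh.IsStrictlyPerfect P) (a m : ℤ) (ham : m + 1 < a) (hEa : ∀ i, i < a → IsZero (E.X i))
    (hPm : ∀ i, i < m → IsZero (P.X i)) (i : K ⟶ DCoh.toD X E) (r : DCoh.toD X E ⟶ K) (hir : i ≫ r = 𝟙 K)
    (f : DCoh.toD X P ⟶ K) (hf : Cond m f) (x : X) : PerfAt K x := by
  haveI := isGE_Q_of_vanishes hEa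
  haveI := isGE_of_retract i r hir a
  haveI := isGE_Q_of_vanishes hPm
  obtain ⟨C, δ, d₃, hT⟩ := distinguished_cocone_triangle f
  haveI hC : C.IsLE (m - 1) := (cond_iff_isLE (T := Triangle.mk f δ d₃) hT m).1 hf
  haveI := isLE_mono (K := C) (m - 1) (a - 1) (by lia)
  obtain ⟨U, hxU, W, hxW, hzero⟩ := exists_map_eq_zero hE a hEa (r ≫ δ) x
  let G := DCoh.restrictD U.ι ⋙ DCoh.restrictD W.ι
  have hGδ : G.map δ = 0 := by
    have : δ = i ≫ r ≫ δ := by rw [← Category.assoc, hir, Category.id_comp]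
    rw [this, G.map_comp]
    exact (congrArg (G.map i ≫ ·) hzero).trans comp_zero
  obtain ⟨s, hs⟩ := Triangle.coyoneda_exact₂ _ (G.map_distinguished _ hT) (𝟙 (G.obj K))
    (by exact (Category.id_comp _).trans hGδ)
  obtain ⟨A, B, hA, hB, u', v, w, hd⟩ := DerivedCategory.TStructure.t.exists_triangle (DCoh.toD X P) m (m + 1) rfl
  haveI : A.IsLE m := ⟨hA⟩
  haveI : B.IsGE (m + 1) := ⟨hB⟩
  obtain ⟨g, hg⟩ := Triangle.yoneda_exact₂ _ hd f (DerivedCategory.TStructure.t.zero (u' ≫ f) m a (by lia))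
  replace hg : f = v ≫ g := hg
  have hge : A.IsGE m := by
    rw [DerivedCategory.isGE_iff]
    intro q hq
    exact (DerivedCategory.HomologySequence.exact₁ _ hd (q - 1) q (by lia)).isZero_of_both_zeros
      ((DerivedCategory.isZero_of_isGE B (m + 1) (q - 1) (by lia)).eq_of_src _ _)
      ((DerivedCategory.isZero_of_isGE (DCoh.toD X P) m q hq).eq_of_tgt _ _)
  haveI := hge
  haveI : IsIso g := by
    rw [DerivedCategory.isIso_iff]
    intro q
    by_cases hq : m < q
    · haveI := hf.1 q hq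
      have hzA : ∀ p, m < p → IsZero ((DerivedCategory.homologyFunctor X.Modules p).obj A) := fun p hp =>
        DerivedCategory.isZero_of_isLE A m p hp
      haveI : Mono ((DerivedCategory.homologyFunctor X.Modules q).map v) :=
        (DerivedCategory.HomologySequence.exact₂ _ hd q).mono_g ((hzA q hq).eq_of_src _ _)
      haveI : Epi ((DerivedCategory.homologyFunctor X.Modules q).map v) :=
        (DerivedCategory.HomologySequence.exact₃ _ hd q (q + 1) rfl).epi_f ((hzA (q + 1) (by lia)).eq_of_tgt _ _)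
      haveI := isIso_of_mono_of_epi ((DerivedCategory.homologyFunctor X.Modules q).map v)
      haveI : IsIso ((DerivedCategory.homologyFunctor X.Modules q).map v ≫
          (DerivedCategory.homologyFunctor X.Modules q).map g) := by
        rw [← Functor.map_comp, ← hg]; infer_instance
      exact IsIso.of_isIso_comp_left ((DerivedCategory.homologyFunctor X.Modules q).map v) _
    · exact ⟨0, (DerivedCategory.isZero_of_isGE B (m + 1) q (by lia)).eq_of_src _ _,
        (DerivedCategory.isZero_of_isGE K a q (by lia)).eq_of_src _ _⟩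
  have hdG := G.map_distinguished _ hd
  haveI : Epi (G.map v) := by
    haveI : Epi (G.map v ≫ G.map g) := by
      rw [← G.map_comp, ← hg]
      exact (SplitEpi.mk s hs.symm).epi
    have e : G.map v = (G.map v ≫ G.map g) ≫ inv (G.map g) := by simp
    rw [e]; infer_instance
  obtain ⟨ρ, hρ⟩ := Triangle.yoneda_exact₂ _ (inv_rot_of_distTriang _ hdG) (𝟙 (G.obj A)) (by
    have hw : G.map w = 0 := by
      rw [← cancel_epi (G.map v), comp_zero, ← G.map_comp]
      exact (congrArg G.map (comp_distTriang_mor_zero₂₃ _ hd)).trans (G.map_zero _ _)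
    simp [Triangle.invRotate, hw])
  haveI := isLE_restrictD U.ι A m
  haveI := isGE_restrictD U.ι A m
  haveI := isLE_restrictD W.ι ((DCoh.restrictD U.ι).obj A) m
  haveI := isGE_restrictD W.ι ((DCoh.restrictD U.ι).obj A) m
  haveI : (G.obj A).IsLE m := ‹((DCoh.restrictD W.ι).obj ((DCoh.restrictD U.ι).obj A)).IsLE m›
  haveI : (G.obj A).IsGE m := ‹((DCoh.restrictD W.ι).obj ((DCoh.restrictD U.ι).obj A)).IsGE m›
  obtain ⟨N, ⟨eA₀⟩⟩ := DerivedCategory.exists_iso_singleFunctor_obj_of_isGE_of_isLE (G.obj A) m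
  let eA := eA₀ ≪≫ (DerivedCategory.singleFunctorIsoCompQ _ m).app N
  let eP : G.obj (DCoh.toD X P) ≅ DCoh.toD (W : Scheme.{u}) ((resCx W.ι).obj ((resCx U.ι).obj P)) :=
    (DCoh.restrictD W.ι).mapIso (restrictObjIso U.ι P) ≪≫ restrictObjIso W.ι _
  let z : (W : Scheme.{u}) := ⟨⟨x, hxU⟩, hxW⟩
  have hP' := isStrictlyPerfect_res W.ι (isStrictlyPerfect_res U.ι hP)
  have hN := perfAt_single hP' m (fun i hi => (Scheme.Modules.restrictFunctor W.ι).map_isZero
    ((Scheme.Modules.restrictFunctor U.ι).map_isZero (hPm i hi))) (eA.inv ≫ G.map u' ≫ eP.hom)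
    (eP.inv ≫ ρ ≫ eA.hom) (by
      have hρ' : G.map u' ≫ ρ = 𝟙 _ := hρ.symm
      simp only [Category.assoc, Iso.hom_inv_id_assoc, reassoc_of% hρ', Iso.inv_hom_id]) z
  refine PerfAt.of_res U.ι (v := ⟨x, hxU⟩) rfl (PerfAt.of_res W.ι (v := z) rfl ?_)
  refine PerfAt.of_iso (G.mapIso (asIso g)) ?_
  exact PerfAt.obj₃ (G.mapTriangle.obj (Triangle.mk u' v w)) hdG (hN.of_iso eA.symm)
    ((perfAt_Q hP' z).of_iso eP.symm)

/-- A retract of a perfect object is perfect. -/
theorem PerfAt.retract {K W : DCoh.D X} (i : K ⟶ W) (r : W ⟶ K) (hir : i ≫ r = 𝟙 K) {x : X}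
    (hW : PerfAt W x) : PerfAt K x := by
  obtain ⟨U, hxU, g⟩ := hW.exists_le
  obtain ⟨E₀, hE₀, ⟨e₀⟩⟩ := g U le_rfl
  obtain ⟨a, b, hv⟩ := hE₀.1
  refine PerfAt.of_res U.ι (v := ⟨x, hxU⟩) rfl ?_
  let i₀ := (DCoh.restrictD U.ι).map i ≫ e₀.hom
  let r₀ := e₀.inv ≫ (DCoh.restrictD U.ι).map r
  have h₀ : i₀ ≫ r₀ = 𝟙 _ := by
    simp only [i₀, r₀, Category.assoc, e₀.hom_inv_id_assoc, ← Functor.map_comp, hir, CategoryTheory.Functor.map_id]
  obtain ⟨U', hxU', g'⟩ := ((perfAt_Q hE₀ (⟨x, hxU⟩ : (U : Scheme.{u}))).pcAt (a - 2)).retract i₀ r₀ h₀ |>.exists_le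
  obtain ⟨P, f, hP, hPm, hf⟩ := g' U' le_rfl
  refine PerfAt.of_res U'.ι (v := ⟨⟨x, hxU⟩, hxU'⟩) rfl ?_
  let eE := restrictObjIso U'.ι E₀
  exact perfAt_of_retract_Q (isStrictlyPerfect_res U'.ι hE₀) hP a (a - 2) (by lia)
    (fun q hq => (Scheme.Modules.restrictFunctor U'.ι).map_isZero (hv q (Or.inl hq))) hPm
    ((DCoh.restrictD U'.ι).map i₀ ≫ eE.hom) (eE.inv ≫ (DCoh.restrictD U'.ι).map r₀)
    (by rw [Category.assoc, eE.hom_inv_id_assoc, ← Functor.map_comp, h₀, CategoryTheory.Functor.map_id]) f hf _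

end Groth.Agent.DCohBridge
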