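import Groth.Agent.DCohBridge.PullTensorMod
import Groth.Agent.QCohBase.Criteria
import Groth.Agent.TensorMod.Invertible
import Groth.Agent.SiteBase.ModFlat

/-!
Tensor products of quasi-coherent modules are quasi-coherent.
-/

set_option backward.isDefEq.respectTransparency false
set_option backward.defeqAttrib.useBackward true

universe u

open CategoryTheory Limits AlgebraicGeometry Opposite TopologicalSpace

namespace Groth.Agent.DCohBridge

variable {X : Scheme.{u}}

/-- `- ⊗ N`. -/
noncomputable abbrev tensR (N : X.Modules) : X.Modules ⥤ X.Modules := (DCoh.tensorBi (X := X)).flip.obj N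

instance preservesColimits_tensR (N : X.Modules) : PreservesColimitsOfSize.{u, u} (tensR N) :=
  inferInstanceAs (PreservesColimitsOfSize.{u, u} ((ModSite.tensorBi X.sheaf).flip.obj N))

/-- `O ⊗ N ≅ N`. -/
noncomputable def tensRUnitIso (N : X.Modules) : (tensR N).obj (Coh.structureModule X) ≅ N :=
  TensorMod.unitLeftIso N

theorem isQCoh_tensR_free {R : CommRingCat.{u}} {N : (Spec R).Modules} (hN : Coh.IsQCoh N) (I : Type u) :
    Coh.IsQCoh ((tensR N).obj (SheafOfModules.free.{u} I)) := by
  let D : Discrete I ⥤ (Spec R).Modules := Discrete.functor fun _ : I => Coh.structureModule (Spec R)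
  have hq : Coh.IsQCoh (colimit (D ⋙ tensR N)) :=
    QCohBase.isQuasicoherent_colimit_spec _ fun j => TensorMod.isQCoh_of_iso (tensRUnitIso N).symm hN
  exact TensorMod.isQCoh_of_iso (preservesColimitIso (tensR N) D).symm hq

theorem isQCoh_tensR_spec {R : CommRingCat.{u}} {N : (Spec R).Modules} (hN : Coh.IsQCoh N)
    (M : (Spec R).Modules) (hM : Coh.IsQCoh M) : Coh.IsQCoh ((tensR N).obj M) := by
  haveI := hM
  let a := (moduleSpecΓFunctor (R := R)).obj M
  haveI : IsIso M.fromTildeΓ := inferInstance
  let P : (tilde a).Presentation :=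
    presentationTilde a Set.univ (by simp) _ (Submodule.span_eq _)
  let f := (SheafOfModules.freeHomEquiv _).symm P.relations.s ≫ kernel.ι P.generators.π
  haveI : (tensR N).Additive := inferInstanceAs ((ModSite.tensorBi (Spec R).sheaf).flip.obj N).Additive
  haveI : PreservesFiniteColimits (tensR N) := PreservesColimitsOfSize.preservesFiniteColimits _
  let e₁ : cokernel f ≅ tilde a := IsColimit.coconePointUniqueUpToIso (colimit.isColimit _) P.isColimit
  exact TensorMod.isQCoh_of_iso
    ((PreservesCokernel.iso (tensR N) f).symm ≪≫ (tensR N).mapIso (e₁ ≪≫ asIso M.fromTildeΓ))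
    (QCohBase.isQuasicoherent_cokernel ((tensR N).map f) (isQCoh_tensR_free hN _) (isQCoh_tensR_free hN _))

/-- The tensor product of quasi-coherent modules is quasi-coherent. -/
theorem isQCoh_tensorBi {M N : X.Modules} (hM : Coh.IsQCoh M) (hN : Coh.IsQCoh N) :
    Coh.IsQCoh ((DCoh.tensorBi.obj M).obj N) := by
  refine QCohBase.isQuasicoherent_of_affine fun x => ?_
  obtain ⟨U, hU, hxU, -⟩ :=
    Opens.isBasis_iff_nbhd.1 X.isBasis_affineOpens (U := ⊤) (Opens.mem_top x)
  refine ⟨U, hU, hxU, ?_⟩
  haveI := hM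
  haveI := hN
  let e := Scheme.Modules.restrictFunctorIsoPullback hU.fromSpec
  have hM' : Coh.IsQCoh ((Scheme.Modules.pullback hU.fromSpec).obj M) :=
    TensorMod.isQCoh_of_iso (e.app M) (inferInstanceAs ((Scheme.Modules.restrictFunctor hU.fromSpec).obj M).IsQuasicoherent)
  have hN' : Coh.IsQCoh ((Scheme.Modules.pullback hU.fromSpec).obj N) :=
    TensorMod.isQCoh_of_iso (e.app N) (inferInstanceAs ((Scheme.Modules.restrictFunctor hU.fromSpec).obj N).IsQuasicoherent)
  have : (((DCoh.tensorBi.obj M).obj N).restrict hU.fromSpec).IsQuasicoherent :=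
    TensorMod.isQCoh_of_iso ((e.app _) ≪≫ pullTensorModIso hU.fromSpec M N).symm
      (isQCoh_tensR_spec hN' _ hM')
  infer_instance

/-- The tensor product of quasi-coherent modules is quasi-coherent. -/
theorem isQCoh_cohb1TensorMod {M N : X.Modules} (hM : Coh.IsQCoh M) (hN : Coh.IsQCoh N) :
    Coh.IsQCoh (CohB1.tensorMod M N) := isQCoh_tensorBi hM hN

end Groth.Agent.DCohBridge
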