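import Groth.Prelude.Def_FlatMod2
import Groth.Agent.SiteBase.ModFlat
import Mathlib.Algebra.Category.ModuleCat.Stalk
import Mathlib.RingTheory.Flat.Tensor
import Mathlib.CategoryTheory.Sites.Spaces

/-!
Stalkwise flatness of modules on a scheme agrees with flatness for the tensor product of the ringed site.
-/

set_option backward.isDefEq.respectTransparency false
set_option backward.defeqAttrib.useBackward true

universe u

open CategoryTheory MonoidalCategory Limits Opposite TopologicalSpace AlgebraicGeometry TensorProduct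

namespace Groth.Agent.DCohBridge

variable {X : Scheme.{u}}

/-- Presheaves of modules on `X`. -/
abbrev PM (X : Scheme.{u}) := SiteBase.PMod X.sheaf

/-- The stalk of a presheaf of modules. -/
abbrev St (P : PM X) (x : X) : Type u := ↑(TopCat.Presheaf.stalk (C := AddCommGrpCat.{u}) P.presheaf x)

section

variable (P Q : PM X) (x : X)

/-- The germ of a section. -/
noncomputable def gm (U : X.Opens) (hx : x ∈ U) : P.obj (op U) →+ St P x :=
  (TopCat.Presheaf.germ (C := AddCommGrpCat.{u}) P.presheaf U x hx).hom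

lemma gm_smul (U : X.Opens) (hx : x ∈ U) (r : X.presheaf.obj (op U)) (p : P.obj (op U)) :
    gm P x U hx (r • p) = X.presheaf.germ U x hx r • gm P x U hx p :=
  PresheafOfModules.germ_smul P x U hx r p

lemma gm_map {U V : X.Opens} (h : V ≤ U) (hx : x ∈ V) (p : P.obj (op U)) :
    gm P x V hx (P.map (homOfLE h).op p) = gm P x U (h hx) p :=
  TopCat.Presheaf.germ_res_apply (C := AddCommGrpCat.{u}) P.presheaf (homOfLE h) x hx p

lemma exists_gm (s : St P x) : ∃ (U : X.Opens) (hx : x ∈ U) (p : P.obj (op U)), gm P x U hx p = s :=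
  TopCat.Presheaf.exists_germ_eq (C := AddCommGrpCat.{u}) P.presheaf s

lemma exists_eq_of_gm_eq {U V : X.Opens} (hU : x ∈ U) (hV : x ∈ V) {p : P.obj (op U)}
    {p' : P.obj (op V)} (h : gm P x U hU p = gm P x V hV p') :
    ∃ (W : X.Opens) (_ : x ∈ W) (h₁ : W ≤ U) (h₂ : W ≤ V),
      P.map (homOfLE h₁).op p = P.map (homOfLE h₂).op p' := by
  obtain ⟨W, hW, i, j, e⟩ := TopCat.Presheaf.germ_eq (C := AddCommGrpCat.{u}) P.presheaf x hU hV p p' h
  exact ⟨W, hW, leOfHom i, leOfHom j, e⟩

/-- The tensor of two sections. -/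
noncomputable def tm (U : X.Opens) (p : P.obj (op U)) (q : Q.obj (op U)) : (P ⊗ Q).obj (op U) :=
  p ⊗ₜ[X.presheaf.obj (op U)] q

lemma tm_map {U V : X.Opens} (h : V ≤ U) (p : P.obj (op U)) (q : Q.obj (op U)) :
    (P ⊗ Q).map (homOfLE h).op (tm P Q U p q) =
      tm P Q V (P.map (homOfLE h).op p) (Q.map (homOfLE h).op q) :=
  PresheafOfModules.Monoidal.tensorObj_map_tmul (homOfLE h).op p q

lemma gm_tm_congr {U V : X.Opens} (hU : x ∈ U) (hV : x ∈ V) {p : P.obj (op U)} {q : Q.obj (op U)}
    {p' : P.obj (op V)} {q' : Q.obj (op V)} (hp : gm P x U hU p = gm P x V hV p')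
    (hq : gm Q x U hU q = gm Q x V hV q') :
    gm (P ⊗ Q) x U hU (tm P Q U p q) = gm (P ⊗ Q) x V hV (tm P Q V p' q') := by
  obtain ⟨W, hW, h₁, h₂, e⟩ := exists_eq_of_gm_eq P x hU hV hp
  rw [← gm_map Q x h₁ hW, ← gm_map Q x h₂ hW] at hq
  obtain ⟨W', hW', k₁, k₂, e'⟩ := exists_eq_of_gm_eq Q x hW hW hq
  rw [← gm_map (P ⊗ Q) x h₁ hW, ← gm_map (P ⊗ Q) x h₂ hW, tm_map, tm_map, e,
    ← gm_map (P ⊗ Q) x k₁ hW', tm_map, e', ← tm_map, gm_map]

/-- The product of two germs. -/
noncomputable def b (s : St P x) (t : St Q x) : St (P ⊗ Q) x :=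
  let hs := exists_gm P x s
  let ht := exists_gm Q x t
  gm (P ⊗ Q) x (hs.choose ⊓ ht.choose) ⟨hs.choose_spec.choose, ht.choose_spec.choose⟩
    (tm P Q _ (P.map (homOfLE inf_le_left).op hs.choose_spec.choose_spec.choose)
      (Q.map (homOfLE inf_le_right).op ht.choose_spec.choose_spec.choose))

lemma b_spec {U : X.Opens} (hx : x ∈ U) (p : P.obj (op U)) (q : Q.obj (op U)) :
    b P Q x (gm P x U hx p) (gm Q x U hx q) = gm (P ⊗ Q) x U hx (tm P Q U p q) := by
  refine gm_tm_congr P Q x _ hx ?_ ?_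
  · rw [gm_map]
    exact (exists_gm P x (gm P x U hx p)).choose_spec.choose_spec.choose_spec
  · rw [gm_map]
    exact (exists_gm Q x (gm Q x U hx q)).choose_spec.choose_spec.choose_spec

lemma exists_common (s : St P x) (t : St Q x) : ∃ (U : X.Opens) (hx : x ∈ U) (p : P.obj (op U))
    (q : Q.obj (op U)), gm P x U hx p = s ∧ gm Q x U hx q = t := by
  obtain ⟨U, hU, p, rfl⟩ := exists_gm P x s
  obtain ⟨V, hV, q, rfl⟩ := exists_gm Q x t
  exact ⟨U ⊓ V, ⟨hU, hV⟩, _, _, gm_map P x inf_le_left _ p, gm_map Q x inf_le_right _ q⟩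

lemma b_add_left (s s' : St P x) (t : St Q x) : b P Q x (s + s') t = b P Q x s t + b P Q x s' t := by
  obtain ⟨U, hU, p, q, rfl, rfl⟩ := exists_common P Q x s t
  obtain ⟨V, hV, p', rfl⟩ := exists_gm P x s'
  rw [← gm_map P x (inf_le_left : U ⊓ V ≤ U) ⟨hU, hV⟩, ← gm_map P x (inf_le_right : U ⊓ V ≤ V) ⟨hU, hV⟩,
    ← gm_map Q x (inf_le_left : U ⊓ V ≤ U) ⟨hU, hV⟩, ← map_add, b_spec, b_spec, b_spec, ← map_add]
  exact congrArg _ (TensorProduct.add_tmul _ _ _)

lemma b_add_right (s : St P x) (t t' : St Q x) : b P Q x s (t + t') = b P Q x s t + b P Q x s t' := by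
  obtain ⟨U, hU, p, q, rfl, rfl⟩ := exists_common P Q x s t
  obtain ⟨V, hV, q', rfl⟩ := exists_gm Q x t'
  rw [← gm_map P x (inf_le_left : U ⊓ V ≤ U) ⟨hU, hV⟩, ← gm_map Q x (inf_le_right : U ⊓ V ≤ V) ⟨hU, hV⟩,
    ← gm_map Q x (inf_le_left : U ⊓ V ≤ U) ⟨hU, hV⟩, ← map_add, b_spec, b_spec, b_spec, ← map_add]
  exact congrArg _ (TensorProduct.tmul_add _ _ _)

lemma b_smul (σ : X.presheaf.stalk x) (s : St P x) (t : St Q x) :
    b P Q x (σ • s) t = b P Q x s (σ • t) := by
  obtain ⟨U, hU, p, q, rfl, rfl⟩ := exists_common P Q x s t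
  obtain ⟨V, hV, r, rfl⟩ := TopCat.Presheaf.exists_germ_eq X.presheaf σ
  rw [← gm_map P x (inf_le_left : U ⊓ V ≤ U) ⟨hU, hV⟩, ← gm_map Q x (inf_le_left : U ⊓ V ≤ U) ⟨hU, hV⟩,
    ← X.presheaf.germ_res_apply (homOfLE (inf_le_right : U ⊓ V ≤ V)) x ⟨hU, hV⟩ r,
    ← gm_smul, ← gm_smul, b_spec, b_spec]
  exact congrArg _ (TensorProduct.smul_tmul _ _ _)

/-- From the tensor product of stalks to the stalk of the tensor product. -/
noncomputable def ψ : St P x ⊗[X.presheaf.stalk x] St Q x →+ St (P ⊗ Q) x :=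
  TensorProduct.liftAddHom
    (AddMonoidHom.mk' (fun s ↦ AddMonoidHom.mk' (b P Q x s) (b_add_right P Q x s))
      (fun s s' ↦ AddMonoidHom.ext (b_add_left P Q x s s')))
    (fun σ s t ↦ (b_smul P Q x σ s t))

/-- Germ of a section of the tensor product in the tensor product of the stalks. -/
noncomputable def φ (U : X.Opens) (hx : x ∈ U) :
    (P ⊗ Q).obj (op U) →+ St P x ⊗[X.presheaf.stalk x] St Q x :=
  show P.obj (op U) ⊗[X.presheaf.obj (op U)] Q.obj (op U) →+ _ from
  TensorProduct.liftAddHom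
    (AddMonoidHom.mk' (fun p ↦ AddMonoidHom.mk' (fun q ↦ gm P x U hx p ⊗ₜ gm Q x U hx q)
        (fun q q' ↦ by simp [TensorProduct.tmul_add]))
      (fun p p' ↦ AddMonoidHom.ext fun q ↦ by simp [TensorProduct.add_tmul]))
    (fun r p q ↦ by
      simp only [AddMonoidHom.mk'_apply]
      erw [gm_smul, gm_smul]
      rw [TensorProduct.smul_tmul])

lemma φ_tm (U : X.Opens) (hx : x ∈ U) (p : P.obj (op U)) (q : Q.obj (op U)) :
    φ P Q x U hx (tm P Q U p q) = gm P x U hx p ⊗ₜ gm Q x U hx q := rfl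

lemma tm_induction {U : X.Opens} {motive : (P ⊗ Q).obj (op U) → Prop} (h0 : motive 0)
    (ht : ∀ p q, motive (tm P Q U p q)) (ha : ∀ a c, motive a → motive c → motive (a + c))
    (s : (P ⊗ Q).obj (op U)) : motive s :=
  TensorProduct.induction_on (motive := motive) s h0 ht ha

lemma ψ_φ (U : X.Opens) (hx : x ∈ U) (s : (P ⊗ Q).obj (op U)) :
    ψ P Q x (φ P Q x U hx s) = gm (P ⊗ Q) x U hx s := by
  induction s using tm_induction P Q with
  | h0 => simp
  | ht p q =>
    rw [φ_tm]
    exact b_spec P Q x hx p q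
  | ha a c ha hc => simp [ha, hc]

lemma exists_φ (t : St P x ⊗[X.presheaf.stalk x] St Q x) :
    ∃ (U : X.Opens) (hx : x ∈ U) (s : (P ⊗ Q).obj (op U)), φ P Q x U hx s = t := by
  induction t using TensorProduct.induction_on with
  | zero => exact ⟨⊤, trivial, 0, map_zero _⟩
  | tmul a c =>
    obtain ⟨U, hU, p, q, rfl, rfl⟩ := exists_common P Q x a c
    exact ⟨U, hU, tm P Q U p q, rfl⟩
  | add a c ha hc =>
    obtain ⟨U, hU, s, rfl⟩ := ha
    obtain ⟨V, hV, s', rfl⟩ := hc
    refine ⟨U ⊓ V, ⟨hU, hV⟩, (P ⊗ Q).map (homOfLE inf_le_left).op s +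
      (P ⊗ Q).map (homOfLE inf_le_right).op s', ?_⟩
    have hres : ∀ {W W' : X.Opens} (h : W' ≤ W) (hW' : x ∈ W') (z : (P ⊗ Q).obj (op W)),
        φ P Q x W' hW' ((P ⊗ Q).map (homOfLE h).op z) = φ P Q x W (h hW') z := by
      intro W W' h hW' z
      induction z using tm_induction P Q with
      | h0 => erw [map_zero]
      | ht p q => rw [tm_map, φ_tm, φ_tm, gm_map, gm_map]
      | ha a c ha hc => simp only [map_add, ha, hc]
    rw [map_add, hres, hres]

lemma φ_map {U V : X.Opens} (h : V ≤ U) (hx : x ∈ V) (s : (P ⊗ Q).obj (op U)) :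
    φ P Q x V hx ((P ⊗ Q).map (homOfLE h).op s) = φ P Q x U (h hx) s := by
  induction s using tm_induction P Q with
  | h0 => erw [map_zero]
  | ht p q => rw [tm_map, φ_tm, φ_tm, gm_map, gm_map]
  | ha a c ha hc => simp only [map_add, ha, hc]

end

section

variable {P P' : PM X} (α : P ⟶ P') (x : X)

/-- The map of stalks. -/
noncomputable def stMap : St P x →ₗ[X.presheaf.stalk x] St P' x where
  toFun := ((TopCat.Presheaf.stalkFunctor AddCommGrpCat.{u} x).map
    ((PresheafOfModules.toPresheaf _).map α)).hom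
  map_add' := map_add _
  map_smul' σ s := by
    obtain ⟨U, hU, p, rfl⟩ := exists_gm P x s
    obtain ⟨V, hV, r, rfl⟩ := TopCat.Presheaf.exists_germ_eq X.presheaf σ
    have key : ∀ (W : X.Opens) (hW : x ∈ W) (p : P.obj (op W)),
        ((TopCat.Presheaf.stalkFunctor AddCommGrpCat.{u} x).map
          ((PresheafOfModules.toPresheaf _).map α)).hom (gm P x W hW p) =
          gm P' x W hW (α.app (op W) p) := fun W hW p ↦
      TopCat.Presheaf.stalkFunctor_map_germ_apply (C := AddCommGrpCat.{u}) W x hW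
        ((PresheafOfModules.toPresheaf _).map α) p
    rw [RingHom.id_apply, ← gm_map P x (inf_le_left : U ⊓ V ≤ U) ⟨hU, hV⟩,
      ← X.presheaf.germ_res_apply (homOfLE (inf_le_right : U ⊓ V ≤ V)) x ⟨hU, hV⟩ r,
      ← gm_smul, key, key, ← gm_smul]
    exact congrArg _ (map_smul (α.app (op (U ⊓ V))).hom _ _)

lemma stMap_gm (U : X.Opens) (hx : x ∈ U) (p : P.obj (op U)) :
    stMap α x (gm P x U hx p) = gm P' x U hx (α.app (op U) p) :=
  TopCat.Presheaf.stalkFunctor_map_germ_apply (C := AddCommGrpCat.{u}) U x hx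
    ((PresheafOfModules.toPresheaf _).map α) p

lemma stMap_injective (h : ∀ U, Function.Injective (α.app (op U))) :
    Function.Injective (stMap α x) := by
  rw [injective_iff_map_eq_zero]
  intro s hs
  obtain ⟨U, hU, p, rfl⟩ := exists_gm P x s
  rw [stMap_gm, ← map_zero (gm P' x U hU)] at hs
  obtain ⟨W, hW, h₁, h₂, e⟩ := exists_eq_of_gm_eq P' x hU hU hs
  rw [map_zero, ← PresheafOfModules.naturality_apply α (homOfLE h₁).op p] at e
  rw [← gm_map P x h₁ hW, h W (e.trans (map_zero _).symm), map_zero]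

lemma φ_whiskerRight (Q : PM X) (U : X.Opens) (hx : x ∈ U) (s : (P ⊗ Q).obj (op U)) :
    φ P' Q x U hx ((α ▷ Q).app (op U) s) =
      (stMap α x).rTensor (St Q x) (φ P Q x U hx s) := by
  induction s using tm_induction P Q with
  | h0 => simp
  | ht p q =>
    change φ P' Q x U hx (tm P' Q U (α.app (op U) p) q) = _
    rw [φ_tm, φ_tm, LinearMap.rTensor_tmul, stMap_gm]
  | ha a c ha hc => simp only [map_add, ha, hc]

/-- Tensoring an injective map with a stalkwise flat presheaf gives a locally injective map. -/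
lemma isLocallyInjective_whiskerRight (h : ∀ U, Function.Injective (α.app (op U))) (Q : PM X)
    (hQ : ∀ x : X, Module.Flat (X.presheaf.stalk x) (St Q x)) :
    Presheaf.IsLocallyInjective (Opens.grothendieckTopology X)
      ((PresheafOfModules.toPresheaf _).map (α ▷ Q)) where
  equalizerSieve_mem {U} s s' hss := by
    intro x hx
    obtain ⟨U⟩ := U
    have hd : φ P Q x U hx ((show (P ⊗ Q).obj (op U) from s) - (show (P ⊗ Q).obj (op U) from s')) = 0 := by
      haveI := hQ x
      refine Module.Flat.rTensor_preserves_injective_linearMap (stMap α x) (stMap_injective α x h) ?_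
      rw [← φ_whiskerRight, map_sub, map_zero]
      have hss' : (α ▷ Q).app (op U) s = (α ▷ Q).app (op U) s' := hss
      rw [hss', sub_self, map_zero]
    have hg := congrArg (ψ P Q x) hd
    rw [ψ_φ, map_zero, map_sub, sub_eq_zero] at hg
    obtain ⟨W, hW, h₁, h₂, e⟩ := exists_eq_of_gm_eq (P ⊗ Q) x hx hx hg
    exact ⟨W, homOfLE h₁, e, hW⟩

end

section

variable {P P' : PM X} (α : P ⟶ P')

open SiteBase

local notation "J" => Opens.grothendieckTopology X

lemma mono_sh_map
    [Presheaf.IsLocallyInjective J ((PresheafOfModules.toPresheaf _).map α)] :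
    Mono ((sh X.sheaf).map α) := by
  let g := (PresheafOfModules.toPresheaf _).map ((incl X.sheaf).map ((sh X.sheaf).map α))
  have hn : (PresheafOfModules.toPresheaf _).map α ≫
      (PresheafOfModules.toPresheaf _).map ((shAdj X.sheaf).unit.app P') =
      (PresheafOfModules.toPresheaf _).map ((shAdj X.sheaf).unit.app P) ≫ g := by
    rw [← Functor.map_comp, ← Functor.map_comp]
    exact congrArg _ ((shAdj X.sheaf).unit.naturality α)
  haveI : Presheaf.IsLocallyInjective J
      ((PresheafOfModules.toPresheaf _).map ((shAdj X.sheaf).unit.app P) ≫ g) := by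
    rw [← hn]
    haveI := SiteBase.isLocallyInjective_unit (O := X.sheaf) P'
    exact Presheaf.isLocallyInjective_comp J _ _
  haveI : Presheaf.IsLocallyInjective J g :=
    Presheaf.isLocallyInjective_of_isLocallyInjective_of_isLocallySurjective
      J ((PresheafOfModules.toPresheaf _).map ((shAdj X.sheaf).unit.app P)) g
  haveI : Sheaf.IsLocallyInjective
      ((SheafOfModules.toSheaf (ModSite.ringSh X.sheaf)).map ((sh X.sheaf).map α)) :=
    inferInstanceAs (Presheaf.IsLocallyInjective J g)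
  haveI := Sheaf.mono_of_isLocallyInjective
    ((SheafOfModules.toSheaf (ModSite.ringSh X.sheaf)).map ((sh X.sheaf).map α))
  exact (SheafOfModules.toSheaf (ModSite.ringSh X.sheaf)).mono_of_mono_map inferInstance

lemma isLocallyInjective_of_mono_sh [Mono ((sh X.sheaf).map α)] :
    Presheaf.IsLocallyInjective J ((PresheafOfModules.toPresheaf _).map α) := by
  haveI : (incl X.sheaf).IsRightAdjoint := ⟨_, ⟨shAdj X.sheaf⟩⟩
  let g := (PresheafOfModules.toPresheaf _).map ((incl X.sheaf).map ((sh X.sheaf).map α))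
  have hn : (PresheafOfModules.toPresheaf _).map α ≫
      (PresheafOfModules.toPresheaf _).map ((shAdj X.sheaf).unit.app P') =
      (PresheafOfModules.toPresheaf _).map ((shAdj X.sheaf).unit.app P) ≫ g := by
    rw [← Functor.map_comp, ← Functor.map_comp]
    exact congrArg _ ((shAdj X.sheaf).unit.naturality α)
  haveI : Mono g := inferInstanceAs (Mono ((PresheafOfModules.toPresheaf _).map _))
  haveI : Presheaf.IsLocallyInjective J g := by
    haveI : ∀ U, Mono (g.app U) := fun U ↦ inferInstanceAs (Mono (((evaluation _ _).obj U).map g))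
    exact Presheaf.isLocallyInjective_of_injective J g fun U ↦
      (AddCommGrpCat.mono_iff_injective _).1 inferInstance
  haveI : Presheaf.IsLocallyInjective J ((PresheafOfModules.toPresheaf _).map α ≫
      (PresheafOfModules.toPresheaf _).map ((shAdj X.sheaf).unit.app P')) := by
    rw [hn]; infer_instance
  exact Presheaf.isLocallyInjective_of_isLocallyInjective J _
    ((PresheafOfModules.toPresheaf _).map ((shAdj X.sheaf).unit.app P'))

end

/-- A stalkwise flat module is flat on the ringed site. -/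
theorem siteFlat_of_isFlat {M : X.Modules} (h : FlatMod.IsFlat M) :
    ModSite.IsFlat (O := X.sheaf) M := by
  refine SiteBase.isFlat_iff.2 ⟨fun {G G'} a _ ↦ ?_⟩
  haveI : (SiteBase.incl X.sheaf).IsRightAdjoint := ⟨_, ⟨SiteBase.shAdj X.sheaf⟩⟩
  let α : (SiteBase.incl X.sheaf).obj G ⟶ (SiteBase.incl X.sheaf).obj G' := (SiteBase.incl X.sheaf).map a
  have hinj : ∀ U, Function.Injective (α.app (op U)) := fun U ↦ by
    haveI : Mono ((PresheafOfModules.toPresheaf _).map α) := inferInstance
    haveI : Mono (((evaluation _ _).obj (op U)).map ((PresheafOfModules.toPresheaf _).map α)) :=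
      inferInstance
    exact (AddCommGrpCat.mono_iff_injective _).1 this
  haveI := isLocallyInjective_whiskerRight α hinj ((SiteBase.incl X.sheaf).obj M) (fun x ↦ h x)
  exact mono_sh_map (α ▷ (SiteBase.incl X.sheaf).obj M)

section Converse

variable (x : X) (I : Ideal (X.presheaf.stalk x))

/-- Sections whose germ at `x` lies in a given ideal. -/
def idealSec (U : X.Opens) : Submodule (X.presheaf.obj (op U)) (X.presheaf.obj (op U)) where
  carrier := { r | ∀ hx : x ∈ U, X.presheaf.germ U x hx r ∈ I }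
  add_mem' {a c} ha hc hx := by rw [map_add]; exact I.add_mem (ha hx) (hc hx)
  zero_mem' hx := by rw [map_zero]; exact I.zero_mem
  smul_mem' r a ha hx := by rw [smul_eq_mul, map_mul]; exact I.mul_mem_left _ (ha hx)

lemma idealSec_res {U V : X.Opens} (h : V ⟶ U) {r : X.presheaf.obj (op U)}
    (hr : r ∈ idealSec x I U) : X.presheaf.map h.op r ∈ idealSec x I V := fun hx ↦ by
  rw [X.presheaf.germ_res_apply h x hx r]
  exact hr (leOfHom h hx)

lemma res_res {P : PM X} {U V W : X.Opens} (h : V ≤ U) (h' : W ≤ V) (p : P.obj (op U)) :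
    P.map (homOfLE h').op (P.map (homOfLE h).op p) = P.map (homOfLE (h'.trans h)).op p := by
  refine (P.map_comp_apply (homOfLE h).op (homOfLE h').op p).symm.trans ?_
  rfl

/-- The presheaf of ideals of sections with germ in `I`. -/
noncomputable def idealPM : PM X where
  obj U := ModuleCat.of (X.presheaf.obj U) (idealSec x I U.unop)
  map {U V} h := ModuleCat.ofHom (Y := (ModuleCat.restrictScalars (X.presheaf.map h).hom).obj
      (ModuleCat.of (X.presheaf.obj V) (idealSec x I V.unop)))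
    { toFun := fun r ↦ ⟨X.presheaf.map h r.1, idealSec_res x I h.unop r.2⟩
      map_add' := fun r r' ↦ Subtype.ext (map_add (X.presheaf.map h).hom _ _)
      map_smul' := fun c r ↦ Subtype.ext (map_mul (X.presheaf.map h).hom _ _) }
  map_id U := by
    ext r
    exact Subtype.ext (ConcreteCategory.congr_hom (X.presheaf.map_id U) r.1)
  map_comp {U V W} f g := by
    ext r
    exact Subtype.ext (ConcreteCategory.congr_hom (X.presheaf.map_comp f g) r.1)

/-- The inclusion in the structure sheaf. -/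
noncomputable def idealIncl : idealPM x I ⟶ PresheafOfModules.unit _ where
  app U := ModuleCat.ofHom (Y := ModuleCat.of (X.presheaf.obj U) (X.presheaf.obj U))
    (idealSec x I U.unop).subtype
  naturality {U V} h := by
    ext r
    rfl

/-- The germ at `x` of a section of `idealPM ⊗ Q`, in `I ⊗ Q_x`. -/
noncomputable def evI (Q : PM X) (U : X.Opens) (hx : x ∈ U) :
    (idealPM x I ⊗ Q).obj (op U) →+ I ⊗[X.presheaf.stalk x] St Q x :=
  show idealSec x I U ⊗[X.presheaf.obj (op U)] Q.obj (op U) →+ _ from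
  TensorProduct.liftAddHom
    (AddMonoidHom.mk' (fun r ↦ AddMonoidHom.mk'
        (fun q ↦ (⟨X.presheaf.germ U x hx r.1, r.2 hx⟩ : I) ⊗ₜ gm Q x U hx q)
        (fun q q' ↦ by simp [TensorProduct.tmul_add]))
      (fun r r' ↦ AddMonoidHom.ext fun q ↦ by
        simp only [AddMonoidHom.mk'_apply, AddMonoidHom.add_apply, ← TensorProduct.add_tmul]
        refine congrArg (fun a : I ↦ a ⊗ₜ[X.presheaf.stalk x] gm Q x U hx q) (Subtype.ext ?_)
        exact map_add _ _ _))
    (fun c r q ↦ by
      simp only [AddMonoidHom.mk'_apply]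
      erw [gm_smul, ← TensorProduct.smul_tmul]
      refine congrArg (fun a : I ↦ a ⊗ₜ[X.presheaf.stalk x] gm Q x U hx q) (Subtype.ext ?_)
      exact map_mul _ _ _)

lemma evI_tm (Q : PM X) (U : X.Opens) (hx : x ∈ U) (r : idealSec x I U) (q : Q.obj (op U)) :
    evI x I Q U hx (tm (idealPM x I) Q U r q) =
      (⟨X.presheaf.germ U x hx r.1, r.2 hx⟩ : I) ⊗ₜ gm Q x U hx q := rfl

/-- The germ at `x` of a section of `O ⊗ Q`, in `Q_x`. -/
noncomputable def evO (Q : PM X) (U : X.Opens) (hx : x ∈ U) :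
    (PresheafOfModules.unit (X.sheaf.obj ⋙ forget₂ CommRingCat.{u} RingCat.{u}) ⊗ Q).obj (op U) →+ St Q x :=
  show X.presheaf.obj (op U) ⊗[X.presheaf.obj (op U)] Q.obj (op U) →+ _ from
  (gm Q x U hx).comp (TensorProduct.lid (X.presheaf.obj (op U)) (Q.obj (op U))).toLinearMap.toAddMonoidHom

lemma evO_whisker (Q : PM X) (U : X.Opens) (hx : x ∈ U) (s : (idealPM x I ⊗ Q).obj (op U)) :
    evO x Q U hx ((idealIncl x I ▷ Q).app (op U) s) =
      TensorProduct.lid _ _ (I.subtype.rTensor (St Q x) (evI x I Q U hx s)) := by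
  induction s using tm_induction (idealPM x I) Q with
  | h0 => simp
  | ht r q =>
    change gm Q x U hx ((TensorProduct.lid (X.presheaf.obj (op U)) (Q.obj (op U)))
      ((r : idealSec x I U).1 ⊗ₜ q)) = _
    rw [evI_tm, LinearMap.rTensor_tmul, TensorProduct.lid_tmul, TensorProduct.lid_tmul, gm_smul]
    rfl
  | ha a c ha hc => simp only [map_add, ha, hc]

lemma exists_zero_of_evO (Q : PM X) (U : X.Opens) (hx : x ∈ U)
    (z : (PresheafOfModules.unit (X.sheaf.obj ⋙ forget₂ CommRingCat.{u} RingCat.{u}) ⊗ Q).obj (op U))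
    (h : evO x Q U hx z = 0) :
    ∃ (W : X.Opens) (_ : x ∈ W) (hW : W ≤ U),
      (PresheafOfModules.unit _ ⊗ Q).map (homOfLE hW).op z = 0 := by
  change gm Q x U hx ((TensorProduct.lid (X.presheaf.obj (op U)) (Q.obj (op U))) z) = 0 at h
  rw [← map_zero (gm Q x U hx)] at h
  obtain ⟨W, hW, h₁, h₂, e⟩ := exists_eq_of_gm_eq Q x hx hx h
  refine ⟨W, hW, h₁, ?_⟩
  apply (TensorProduct.lid (X.presheaf.obj (op W)) (Q.obj (op W))).injective
  rw [map_zero (Q.map (homOfLE h₂).op).hom] at e
  rw [LinearEquiv.map_zero, ← e]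
  have := PresheafOfModules.naturality_apply (λ_ Q).hom (homOfLE h₁).op z
  exact this

/-- A module flat on the ringed site is stalkwise flat. -/
theorem isFlat_of_siteFlat {M : X.Modules} (h : ModSite.IsFlat (O := X.sheaf) M) :
    FlatMod.IsFlat M := by
  intro x
  refine Module.Flat.iff_rTensor_injective.2 fun I _ ↦ ?_
  let Q : PM X := (SiteBase.incl X.sheaf).obj M
  let α := idealIncl x I
  haveI := SiteBase.preservesMono_of_isFlat h
  haveI : Presheaf.IsLocallyInjective (Opens.grothendieckTopology X)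
      ((PresheafOfModules.toPresheaf _).map α) :=
    Presheaf.isLocallyInjective_of_injective _ _ fun U r r' e ↦ Subtype.ext e
  haveI := mono_sh_map α
  haveI : Mono ((SiteBase.sh X.sheaf).map (α ▷ Q)) := by
    haveI : Mono (((ModSite.tensorBi X.sheaf).flip.obj M).map ((SiteBase.sh X.sheaf).map α)) :=
      Functor.map_mono _ _
    have e := (SiteBase.tensorDescIso X.sheaf Q).hom.naturality α
    have e' : Mono ((SiteBase.tensorDescIso X.sheaf Q).hom.app (idealPM x I) ≫
        ((ModSite.tensorBi X.sheaf).flip.obj M).map ((SiteBase.sh X.sheaf).map α)) := mono_comp _ _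
    have e'' : Mono ((tensorRight Q ⋙ SiteBase.sh X.sheaf).map α ≫
        (SiteBase.tensorDescIso X.sheaf Q).hom.app
          (PresheafOfModules.unit (X.sheaf.obj ⋙ forget₂ CommRingCat.{u} RingCat.{u}))) :=
      (congrArg Mono e).mpr e'
    exact @mono_of_mono _ _ _ _ _ _ _ e''
  have hLI := isLocallyInjective_of_mono_sh (α ▷ Q)
  rw [injective_iff_map_eq_zero]
  intro t ht
  -- lift `t` to the stalks of the presheaf of ideals
  have hlift : ∀ t : I ⊗[X.presheaf.stalk x] St Q x, ∃ (U : X.Opens) (hx : x ∈ U)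
      (s : (idealPM x I ⊗ Q).obj (op U)), ∀ (V : X.Opens) (h : V ≤ U) (hV : x ∈ V),
        evI x I Q V hV ((idealPM x I ⊗ Q).map (homOfLE h).op s) = t := by
    intro t
    induction t using TensorProduct.induction_on with
    | zero => exact ⟨⊤, trivial, 0, fun V h hV ↦ by rw [map_zero, map_zero]⟩
    | tmul a m =>
      obtain ⟨a, ha⟩ := a
      obtain ⟨U, hU, r, rfl⟩ := TopCat.Presheaf.exists_germ_eq X.presheaf a
      obtain ⟨V, hV, q, rfl⟩ := exists_gm Q x m
      refine ⟨U ⊓ V, ⟨hU, hV⟩, tm _ _ _ ⟨X.presheaf.map (homOfLE inf_le_left).op r, fun hx ↦ by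
        rw [X.presheaf.germ_res_apply]; exact ha⟩ (Q.map (homOfLE inf_le_right).op q),
        fun W hWU hW ↦ ?_⟩
      rw [tm_map, evI_tm]
      refine congrArg₂ (fun (a : I) (m : St Q x) ↦ a ⊗ₜ[X.presheaf.stalk x] m) (Subtype.ext ?_) ?_
      · change X.presheaf.germ W x hW (X.presheaf.map (homOfLE hWU).op
          (X.presheaf.map (homOfLE inf_le_left).op r)) = _
        rw [X.presheaf.germ_res_apply, X.presheaf.germ_res_apply]
      · rw [gm_map, gm_map]
    | add a c ha hc =>
      obtain ⟨U, hU, s, hs⟩ := ha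
      obtain ⟨V, hV, s', hs'⟩ := hc
      refine ⟨U ⊓ V, ⟨hU, hV⟩, (idealPM x I ⊗ Q).map (homOfLE inf_le_left).op s +
        (idealPM x I ⊗ Q).map (homOfLE inf_le_right).op s', fun W hWU hW ↦ ?_⟩
      rw [map_add, map_add, ← hs W (hWU.trans inf_le_left) hW, ← hs' W (hWU.trans inf_le_right) hW]
      rw [res_res, res_res]
  obtain ⟨U, hx, s, hs⟩ := hlift t
  -- its image in `M` has zero germ
  have h0 : evO x Q U hx ((α ▷ Q).app (op U)
      ((idealPM x I ⊗ Q).map (homOfLE (le_refl U)).op s)) = 0 := by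
    rw [evO_whisker, hs U le_rfl hx]
    exact (congrArg (TensorProduct.lid _ _) ht).trans (map_zero _)
  obtain ⟨W, hW, hWU, hz⟩ := exists_zero_of_evO x Q U hx _ h0
  rw [← PresheafOfModules.naturality_apply, ← map_zero ((α ▷ Q).app (op W)).hom] at hz
  rw [res_res] at hz
  let a : ((PresheafOfModules.toPresheaf _).obj (idealPM x I ⊗ Q)).obj (op W) :=
    (idealPM x I ⊗ Q).map (homOfLE hWU).op s
  obtain ⟨Z, k, hk, hZ⟩ := hLI.equalizerSieve_mem a 0 (hz.trans rfl) x hW
  have hkk : (idealPM x I ⊗ Q).map k.op ((idealPM x I ⊗ Q).map (homOfLE hWU).op s) = 0 :=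
    hk.trans (map_zero _)
  have := hs Z ((leOfHom k).trans hWU) hZ
  rw [← this, ← res_res hWU (leOfHom k)]
  rw [show k = homOfLE (leOfHom k) from Subsingleton.elim _ _] at hkk
  rw [hkk, map_zero]

end Converse

end Groth.Agent.DCohBridge
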