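import Groth.Agent.DCohBridge.PerfectFree

/-!
Pseudo-coherent objects in triangles.
-/

set_option backward.isDefEq.respectTransparency false
set_option backward.defeqAttrib.useBackward true

universe u

open CategoryTheory Limits AlgebraicGeometry Pretriangulated

attribute [local instance] HasDerivedCategory.standard

namespace Groth.Agent.DCohBridge

variable {X V W : Scheme.{u}}

section Trunc

variable (E : CochainComplex X.Modules ℤ) (p : ℤ)

open Classical in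
/-- The brutal truncation in degrees `≥ p`. -/
noncomputable def cutGE : CochainComplex X.Modules ℤ where
  X i := if p ≤ i then E.X i else FlatMod.freeMod X 0
  d i j := if hi : p ≤ i then (if hj : p ≤ j then eqToHom (if_pos hi) ≫ E.d i j ≫ eqToHom (if_pos hj).symm else 0)
    else 0
  shape i j h := by
    split_ifs <;> first | simp [E.shape i j h] | rfl
  d_comp_d' i j k hij hjk := by
    simp only [ComplexShape.up_Rel] at hij hjk
    by_cases hi : p ≤ i
    · rw [dif_pos hi, dif_pos (show p ≤ j by lia), dif_pos (show p ≤ j by lia), dif_pos (show p ≤ k by lia)]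
      simp
    · rw [dif_neg hi]; exact zero_comp

lemma isZero_cutGE {i : ℤ} (h : i < p) : IsZero ((cutGE E p).X i) := by
  refine IsZero.of_iso ?_ (eqToIso (if_neg (by lia)))
  rw [IsZero.iff_id_eq_zero]
  exact Sigma.hom_ext _ _ fun k => k.elim0

/-- The inclusion of the brutal truncation. -/
noncomputable def cutGEι : cutGE E p ⟶ E where
  f i := if hi : p ≤ i then eqToHom (if_pos hi) else 0
  comm' i j hij := by
    by_cases hi : p ≤ i
    · have hj : p ≤ j := by simp at hij; lia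
      simp [cutGE, hi, hj]
    · exact (isZero_cutGE E p (by lia)).eq_of_src _ _

lemma isIso_cutGEι_f {i : ℤ} (h : p ≤ i) : IsIso ((cutGEι E p).f i) := by
  simp only [cutGEι, dif_pos h]
  infer_instance

lemma isStrictlyPerfect_cutGE (hE : DCoh.IsStrictlyPerfect E) : DCoh.IsStrictlyPerfect (cutGE E p) := by
  obtain ⟨⟨a, b, hv⟩, hE⟩ := hE
  refine ⟨⟨a, b, fun i hi => ?_⟩, fun i => ?_⟩
  · by_cases h : p ≤ i
    · exact (hv i hi).of_iso (eqToIso (if_pos h))
    · exact isZero_cutGE E p (by lia)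
  · by_cases h : p ≤ i
    · exact TensorMod.isFinLocFree_of_iso (eqToIso (if_pos h)).symm (hE i)
    · exact TensorMod.isFinLocFree_of_iso (eqToIso (if_neg h)).symm (TensorMod.isFinLocFree_freeMod X 0)

lemma cond_cutGEι : Cond p (DerivedCategory.Q.map (cutGEι E p)) := by
  let e := fun i => DerivedCategory.homologyFunctorFactors X.Modules i
  refine ⟨fun i hi => (NatIso.isIso_map_iff (e i) _).2 ?_, ?_⟩
  · refine ShortComplex.isIso_homologyMap_of_epi_of_isIso_of_mono' _ ?_ ?_ ?_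
    · haveI := isIso_cutGEι_f E p (i := (ComplexShape.up ℤ).prev i) (by simp; lia)
      dsimp; infer_instance
    · exact isIso_cutGEι_f E p (by lia)
    · haveI := isIso_cutGEι_f E p (i := (ComplexShape.up ℤ).next i) (by simp; lia)
      dsimp; infer_instance
  · have hn : (DerivedCategory.homologyFunctor X.Modules p).map (DerivedCategory.Q.map (cutGEι E p)) =
        (e p).hom.app _ ≫ HomologicalComplex.homologyMap (cutGEι E p) p ≫ (e p).inv.app E :=
      (NatIso.naturality_2 (e p) _).symm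
    haveI : IsIso (HomologicalComplex.cyclesMap (cutGEι E p) p) := by
      refine ShortComplex.isIso_cyclesMap_of_isIso_of_mono' _ (isIso_cutGEι_f E p le_rfl) ?_
      haveI := isIso_cutGEι_f E p (i := (ComplexShape.up ℤ).next p) (by simp)
      dsimp; infer_instance
    haveI : Epi (HomologicalComplex.homologyMap (cutGEι E p) p) := by
      haveI : Epi ((cutGE E p).homologyπ p ≫ HomologicalComplex.homologyMap (cutGEι E p) p) := by
        rw [HomologicalComplex.homologyπ_naturality]; infer_instance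
      exact epi_of_epi ((cutGE E p).homologyπ p) _
    rw [hn]
    infer_instance

end Trunc

/-- A map from a strictly perfect complex in degrees `≥ a` to an object with cohomology in degrees `< a`
vanishes locally. -/
theorem exists_map_eq_zero {E : CochainComplex X.Modules ℤ} (hE : DCoh.IsStrictlyPerfect E) (a : ℤ)
    (hEa : ∀ i, i < a → IsZero (E.X i)) {C : DCoh.D X} [C.IsLE (a - 1)] (f : DCoh.toD X E ⟶ C) (x : X) :
    ∃ (U : X.Opens) (hx : x ∈ U) (W : (U : Scheme.{u}).Opens), (⟨x, hx⟩ : (U : Scheme.{u})) ∈ W ∧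
      (DCoh.restrictD W.ι).map ((DCoh.restrictD U.ι).map f) = 0 := by
  obtain ⟨F, hF, ⟨e⟩⟩ := DerivedCategory.exists_iso_Q_obj_of_isLE C (a - 1)
  obtain ⟨U, hxU, β, hβ⟩ := exists_chainMap hE (f ≫ e.hom) x
  obtain ⟨W, hxW, ⟨H⟩⟩ := exists_nullHomotopy β (isStrictlyPerfect_res U.ι hE) a
    (fun i hi => (Scheme.Modules.restrictFunctor U.ι).map_isZero (hEa i hi))
    (fun i hi => exactAt_res U.ι (F.exactAt_of_isLE (a - 1) i (by lia))) ⟨x, hxU⟩
  let j := W.ι ≫ U.ι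
  have hQ : DerivedCategory.Q.map ((DCoh.restrictCx W).map β) = 0 := by
    have nat := fun {A B : CochainComplex (W : Scheme.{u}).Modules ℤ} (φ : A ⟶ B) =>
      (NatIso.naturality_2 (DerivedCategory.quotientCompQhIso (W : Scheme.{u}).Modules) φ)
    exact (nat _).symm.trans ((congrArg (fun t => _ ≫ DerivedCategory.Qh.map t ≫ _)
      (HomotopyCategory.eq_of_homotopy _ _ H)).trans ((nat _).trans (Functor.map_zero _ _ _)))
  have h1 : (DCoh.restrictD W.ι).map ((DCoh.restrictD U.ι).map (f ≫ e.hom)) = 0 := by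
    let eW := (Scheme.Modules.restrictFunctor W.ι).mapDerivedCategoryFactors
    have hn : (DCoh.restrictD W.ι).map (DerivedCategory.Q.map β) = 0 :=
      (NatIso.naturality_2 eW β).symm.trans (by
        erw [hQ]; simp)
    rw [hβ, Functor.map_comp, Functor.map_comp, hn, zero_comp, comp_zero]
  refine ⟨U, hxU, W, hxW, ?_⟩
  rw [Functor.map_comp, Functor.map_comp] at h1
  exact (cancel_mono ((DCoh.restrictD W.ι).map ((DCoh.restrictD U.ι).map e.hom))).1 (h1.trans Limits.zero_comp.symm)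

lemma PCAt.of_cond {m : ℤ} {K L : DCoh.D X} (g : K ⟶ L) (hg : Cond m g) {x : X} (h : PCAt m K x) : PCAt m L x := by
  obtain ⟨V, j, hj, v, E, f, hv, hE, hf⟩ := h
  exact ⟨V, j, hj, v, E, f ≫ (DCoh.restrictD j).map g, hv, hE, cond_comp hf (cond_restrictD j hg)⟩

lemma PCAt.of_iso {m : ℤ} {K L : DCoh.D X} (e : K ≅ L) {x : X} (h : PCAt m K x) : PCAt m L x :=
  h.of_cond e.hom (cond_isIso m e.hom)

lemma PCAt.mono {m n : ℤ} (hmn : m ≤ n) {K : DCoh.D X} {x : X} (h : PCAt m K x) : PCAt n K x := by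
  obtain ⟨V, j, hj, v, E, f, hv, hE, hf⟩ := h
  exact ⟨V, j, hj, v, E, f, hv, hE, cond_mono hmn hf⟩

lemma PerfAt.pcAt {K : DCoh.D X} {x : X} (h : PerfAt K x) (m : ℤ) : PCAt m K x := by
  obtain ⟨V, j, hj, v, E, hv, hE, ⟨e⟩⟩ := h
  exact ⟨V, j, hj, v, E, e.inv, hv, hE, cond_isIso m _⟩

lemma PCAt.shift {m : ℤ} {K : DCoh.D X} {x : X} (h : PCAt m K x) (n m' : ℤ) (hm : n + m' = m) :
    PCAt m' (K⟦n⟧) x := by
  obtain ⟨V, j, hj, v, E, f, hv, hE, hf⟩ := h
  exact ⟨V, j, hj, v, E⟦n⟧, (DerivedCategory.Q.commShiftIso n).hom.app E ≫ f⟦n⟧' ≫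
    ((DCoh.restrictD j).commShiftIso n).inv.app K, hv, isStrictlyPerfect_shift hE n,
    cond_comp (cond_isIso m' _) (cond_comp (cond_shift hf n m' hm) (cond_isIso m' _))⟩

lemma PCAt.exists_le {m : ℤ} {K : DCoh.D X} {x : X} (h : PCAt m K x) :
    ∃ U : X.Opens, x ∈ U ∧ ∀ V : X.Opens, V ≤ U →
      ∃ (E : CochainComplex (V : Scheme.{u}).Modules ℤ) (f : DCoh.toD (V : Scheme.{u}) E ⟶ (DCoh.restrictD V.ι).obj K),
        DCoh.IsStrictlyPerfect E ∧ (∀ i, i < m → IsZero (E.X i)) ∧ Cond m f := by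
  obtain ⟨W, j, _, w, E, f, hw, hE, hf⟩ := h
  refine ⟨j.opensRange, ⟨w, hw⟩, fun V hV => ?_⟩
  let k := X.homOfLE hV ≫ j.isoOpensRange.inv
  exact ⟨cutGE ((resCx k).obj E) m, DerivedCategory.Q.map (cutGEι _ m) ≫ (restrictObjIso k E).inv ≫
    (DCoh.restrictD k).map f ≫ (compObjIso' k j V.ι (by simp [k]) K).inv,
    isStrictlyPerfect_cutGE _ m (isStrictlyPerfect_res k hE), fun i hi => isZero_cutGE _ m hi,
    cond_comp (cond_cutGEι _ m) (cond_comp (cond_isIso m _) (cond_comp (cond_restrictD k hf) (cond_isIso m _)))⟩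

/-- Pseudo-coherence of the third term. -/
theorem PCAt.obj₃ (m : ℤ) (T : Triangle (DCoh.D X)) (hT : T ∈ distTriang (DCoh.D X)) {x : X}
    (h₁ : PCAt (m + 1) T.obj₁ x) (h₂ : PCAt m T.obj₂ x) : PCAt m T.obj₃ x := by
  obtain ⟨U₁, hx₁, g₁⟩ := h₁.exists_le
  obtain ⟨U₂, hx₂, g₂⟩ := h₂.exists_le
  obtain ⟨E, a, hE, hEa, ha⟩ := g₁ (U₁ ⊓ U₂) inf_le_left
  obtain ⟨F, b, hF, -, hb⟩ := g₂ (U₁ ⊓ U₂) inf_le_right
  let j := (U₁ ⊓ U₂).ι
  obtain ⟨C, g, h, hbT⟩ := distinguished_cocone_triangle b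
  haveI : C.IsLE (m - 1) := (cond_iff_isLE (T := Triangle.mk b g h) hbT m).1 hb
  obtain ⟨U, hxU, W, hxW, hzero⟩ := exists_map_eq_zero hE m (fun i hi => hEa i (by lia))
    ((a ≫ (DCoh.restrictD j).map T.mor₁) ≫ g) ⟨x, hx₁, hx₂⟩
  let G := DCoh.restrictD U.ι ⋙ DCoh.restrictD W.ι
  let T' := G.mapTriangle.obj ((DCoh.restrictD j).mapTriangle.obj T)
  have hT' : T' ∈ distTriang _ := G.map_distinguished _ ((DCoh.restrictD j).map_distinguished _ hT)
  have hG : ∀ {A B : DCoh.D (U₁ ⊓ U₂ : X.Opens)} {q : A ⟶ B} {k : ℤ}, Cond k q → Cond k (G.map q) :=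
    fun hq => cond_restrictD W.ι (cond_restrictD U.ι hq)
  obtain ⟨φ, hφ⟩ := Triangle.coyoneda_exact₂ _ (G.map_distinguished _ hbT)
    (G.map a ≫ T'.mor₁) (by
      refine Eq.trans ?_ hzero
      show (G.map a ≫ G.map ((DCoh.restrictD j).map T.mor₁)) ≫ G.map g = _
      simp [G])
  have hEW := isStrictlyPerfect_res W.ι (isStrictlyPerfect_res U.ι hE)
  have hFW := isStrictlyPerfect_res W.ι (isStrictlyPerfect_res U.ι hF)
  have p : ∀ {A : CochainComplex (U₁ ⊓ U₂ : X.Opens).toScheme.Modules ℤ}, DCoh.IsStrictlyPerfect A →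
      ∀ w, PerfAt (G.obj (DCoh.toD _ A)) w := fun {A} hA w => PerfAt.of_iso
        (((DCoh.restrictD W.ι).mapIso (restrictObjIso U.ι A) ≪≫ restrictObjIso W.ι _).symm)
        ⟨_, 𝟙 _, inferInstance, w, _, rfl,
          isStrictlyPerfect_res (𝟙 _) (isStrictlyPerfect_res W.ι (isStrictlyPerfect_res U.ι hA)),
          ⟨restrictObjIso (𝟙 _) _⟩⟩
  obtain ⟨M', v₁, w₁, hM'⟩ := distinguished_cocone_triangle φ
  obtain ⟨N, v₂, w₂, hN⟩ := distinguished_cocone_triangle (G.map a ≫ T'.mor₁)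
  let O₁ := Triangulated.someOctahedron (u₁₂ := φ) (u₂₃ := G.map b) (show φ ≫ G.map b = G.map a ≫ T'.mor₁ from hφ.symm)
    hM' (G.map_distinguished _ hbT) hN
  have c₁ : Cond m O₁.m₁ :=
    (cond_iff_isLE O₁.mem m).2 ((cond_iff_isLE (G.map_distinguished _ hbT) m).1 (hG hb))
  obtain ⟨A, v₃, w₃, hA⟩ := distinguished_cocone_triangle (G.map a)
  let O₂ := Triangulated.someOctahedron (u₁₂ := G.map a) (u₂₃ := T'.mor₁) rfl hA (show Triangle.mk _ T'.mor₂ T'.mor₃ ∈ distTriang _ from hT') hN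
  have c₂ : Cond m O₂.m₃ := by
    haveI : A.IsLE m := by
      have := (cond_iff_isLE (T := Triangle.mk (G.map a) v₃ w₃) hA (m + 1)).1 (hG ha)
      simpa using this
    exact (cond_iff_isLE (rot_of_distTriang _ O₂.mem) m).2 (DerivedCategory.TStructure.t.isLE_shift A m 1 (m - 1))
  let z : (W : Scheme.{u}) := ⟨⟨⟨x, hx₁, hx₂⟩, hxU⟩, hxW⟩
  obtain ⟨V, k, hk, v, P, hv, hP, ⟨e⟩⟩ := PerfAt.obj₃ (Triangle.mk φ v₁ w₁) hM' (p hE z) (p hF z)
  refine ⟨V, ((k ≫ W.ι) ≫ U.ι) ≫ j, inferInstance, v, P,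
    e.inv ≫ (DCoh.restrictD k).map (O₁.m₁ ≫ O₂.m₃) ≫
      ((compObjIso k W.ι _).inv ≫ (compObjIso (k ≫ W.ι) U.ι _).inv ≫ (compObjIso ((k ≫ W.ι) ≫ U.ι) j T.obj₃).inv),
    by simp [hv, z, j], hP,
    cond_comp (cond_isIso m _) (cond_comp (cond_restrictD k (cond_comp c₁ c₂)) (cond_isIso m _))⟩

theorem PCAt.obj₂ (m : ℤ) (T : Triangle (DCoh.D X)) (hT : T ∈ distTriang (DCoh.D X)) {x : X}
    (h₁ : PCAt m T.obj₁ x) (h₃ : PCAt m T.obj₃ x) : PCAt m T.obj₂ x :=
  PCAt.obj₃ m T.invRotate (inv_rot_of_distTriang _ hT) (h₃.shift (-1) (m + 1) (by lia)) h₁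

theorem PCAt.obj₁ (m : ℤ) (T : Triangle (DCoh.D X)) (hT : T ∈ distTriang (DCoh.D X)) {x : X}
    (h₂ : PCAt (m + 1) T.obj₂ x) (h₃ : PCAt m T.obj₃ x) : PCAt (m + 1) T.obj₁ x :=
  PCAt.obj₂ (m + 1) T.invRotate (inv_rot_of_distTriang _ hT) (h₃.shift (-1) (m + 1) (by lia)) h₂

end Groth.Agent.DCohBridge
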