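import Groth.Agent.DCohBridge.StalkPull
import Groth.Agent.DCohBridge.RingBC
import Groth.Agent.SiteBase.KFlat.Cycles
import Groth.Agent.SiteBase.KFlat.Resolution
import Groth.Agent.DerCat.LeftDeriv
import Mathlib.Algebra.Category.ModuleCat.Monoidal.Symmetric

/-!
Pullback of K-flat complexes; the left derived functors of pullback and tensor product exist.
-/

set_option backward.isDefEq.respectTransparency false
set_option backward.defeqAttrib.useBackward true

universe u

open CategoryTheory MonoidalCategory Limits Opposite TopologicalSpace AlgebraicGeometry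

attribute [local instance] HasDerivedCategory.standard

namespace Groth.Agent.DCohBridge

lemma isKFlat_ring_of_iso {R : Type u} [CommRing R] {K L : DRing.Cx R} (e : K ≅ L) (h : DRing.IsKFlat R K) :
    DRing.IsKFlat R L := fun M hM i =>
  (h M hM i).of_iso (HomologicalComplex.homologyMapIso (MonoidalCategory.whiskerLeftIso M e.symm) i)

lemma quasiIso_iff_acyclic_cone {A : Type*} [Category* A] [Abelian A] [HasDerivedCategory A]
    {K L : CochainComplex A ℤ} (α : K ⟶ L) :
    QuasiIso α ↔ (CochainComplex.mappingCone α).Acyclic := by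
  have hT := DerivedCategory.mappingCone_triangle_distinguished α
  rw [← DerivedCategory.isIso_Q_map_iff_quasiIso]
  refine (Pretriangulated.Triangle.isZero₃_iff_isIso₁ _ hT).symm.trans ⟨fun h n => ?_, fun h => ?_⟩
  · exact (HomologicalComplex.exactAt_iff_isZero_homology _ _).2
      (((DerivedCategory.homologyFunctor A n).map_isZero h).of_iso
        ((DerivedCategory.homologyFunctorFactors A n).app _).symm)
  · haveI : QuasiIso (0 : CochainComplex.mappingCone α ⟶ CochainComplex.mappingCone α) :=
      ⟨fun n => by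
        rw [quasiIsoAt_iff_isIso_homologyMap]
        exact (Limits.isIso_of_source_target_iso_zero _
          (((HomologicalComplex.exactAt_iff_isZero_homology _ _).1 (h n)).isoZero)
          (((HomologicalComplex.exactAt_iff_isZero_homology _ _).1 (h n)).isoZero))⟩
    have h0 : IsIso (DerivedCategory.Q.map
        (0 : CochainComplex.mappingCone α ⟶ CochainComplex.mappingCone α)) := inferInstance
    rw [DerivedCategory.Q.map_zero] at h0
    exact (isIsoZeroEquiv _ _ h0).1 |> fun e => (IsZero.iff_id_eq_zero _).2 e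

variable {X Y : Scheme.{u}} (f : X ⟶ Y)

/-- Pullback of complexes. -/
noncomputable abbrev pullCx : CochainComplex Y.Modules ℤ ⥤ CochainComplex X.Modules ℤ :=
  (Scheme.Modules.pullback f).mapHomologicalComplex (ComplexShape.up ℤ)

/-- Pullback preserves K-flatness. -/
theorem isKFlat_pull {K : CochainComplex Y.Modules ℤ} (h : DCoh.IsKFlat K) :
    DCoh.IsKFlat ((pullCx f).obj K) :=
  isKFlat_of_stalk fun x =>
    isKFlat_ring_of_iso (stCxPullIso f x K).symm (isKFlat_baseChange _ (isKFlat_stalk (f.base x) h))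

/-- The stalk of a tensor with the skyscraper of `O_x`, as a base change. -/
noncomputable def stalkSkyTensorIso (x : X) (N : Y.Modules) :
    (DerSch.stalkFunctor Y (f.base x)).obj (((ModSite.tensorBi Y.sheaf).obj N).obj
        ((sky (f.base x)).obj ((rsc (stφ f x)).obj (𝟙_ (ModuleCat.{u} (X.presheaf.stalk x)))))) ≅
      (rsc (stφ f x)).obj ((esc (stφ f x)).obj ((DerSch.stalkFunctor Y (f.base x)).obj N)) :=
  stalkTensorIso _ _ _ ≪≫ MonoidalCategory.whiskerLeftIso _ ((stalkSkyIso (f.base x)).app _) ≪≫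
    β_ _ _ ≪≫ projIsoR (stφ f x) (𝟙_ _) _ ≪≫ (rsc (stφ f x)).mapIso (λ_ _)

lemma stalkSkyTensorIso_natural (x : X) {N N' : Y.Modules} (b : N ⟶ N') :
    (DerSch.stalkFunctor Y (f.base x)).map (((ModSite.tensorBi Y.sheaf).map b).app
        ((sky (f.base x)).obj ((rsc (stφ f x)).obj (𝟙_ (ModuleCat.{u} (X.presheaf.stalk x)))))) ≫
      (stalkSkyTensorIso f x N').hom = (stalkSkyTensorIso f x N).hom ≫
        (rsc (stφ f x)).map ((esc (stφ f x)).map ((DerSch.stalkFunctor Y (f.base x)).map b)) := by
  let P := (rsc (stφ f x)).obj (𝟙_ (ModuleCat.{u} (X.presheaf.stalk x)))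
  have h := theta_natural (f.base x) b (𝟙 ((sky (f.base x)).obj P))
  rw [CategoryTheory.Functor.map_id, Category.comp_id, CategoryTheory.Functor.map_id, tensorHom_id] at h
  have h2 := projFwd_natural (stφ f x) (𝟙 (𝟙_ (ModuleCat.{u} (X.presheaf.stalk x))))
    ((DerSch.stalkFunctor Y (f.base x)).map b)
  rw [CategoryTheory.Functor.map_id, id_tensorHom, id_tensorHom] at h2
  simp only [stalkSkyTensorIso, Iso.trans_hom, stalkTensorIso, asIso_hom, Functor.mapIso_hom,
    whiskerLeftIso_hom, projIsoR, Category.assoc]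
  rw [reassoc_of% h, ← whisker_exchange_assoc, BraidedCategory.braiding_naturality_left_assoc]
  dsimp only [Functor.id_obj]
  rw [reassoc_of% h2, ← Functor.map_comp, ← Functor.map_comp, leftUnitor_naturality]

/-- The pullback of an acyclic K-flat complex is acyclic. -/
theorem acyclic_pull {K : CochainComplex Y.Modules ℤ} (h : DCoh.IsKFlat K) (hac : K.Acyclic) :
    ((pullCx f).obj K).Acyclic := by
  refine (acyclic_iff_stalk _).2 fun x => ?_
  refine SiteBase.KFlat.acyclic_of_iso (stCxPullIso f x K).symm ?_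
  let P := (rsc (stφ f x)).obj (𝟙_ (ModuleCat.{u} (X.presheaf.stalk x)))
  let e : (stCx (f.base x)).obj ((((ModSite.tensorBi Y.sheaf).flip.obj
      ((sky (f.base x)).obj P)).mapHomologicalComplex (ComplexShape.up ℤ)).obj K) ≅
      ((rsc (stφ f x)).mapHomologicalComplex (ComplexShape.up ℤ)).obj
        ((extCx f x).obj ((stCx (f.base x)).obj K)) :=
    HomologicalComplex.Hom.isoOfComponents (fun n => stalkSkyTensorIso f x (K.X n))
      (fun i j _ => (stalkSkyTensorIso_natural f x (K.d i j)).symm)
  have hs := SiteBase.KFlat.acyclic_of_iso e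
    (acyclic_stCx _ (SiteBase.KFlat.acyclic_tensor_module (O := Y.sheaf) h hac ((sky (f.base x)).obj P)))
  intro n
  exact (ShortComplex.exact_map_iff_of_faithful _ (rsc (stφ f x))).1 (hs n)

/-- Resolutions by K-flat complexes, in the homotopy category. -/
def kFlatP (Y : Scheme.{u}) : ObjectProperty (HomotopyCategory Y.Modules (ComplexShape.up ℤ)) :=
  fun P => ∃ K : CochainComplex Y.Modules ℤ, DCoh.IsKFlat K ∧
    (HomotopyCategory.quotient _ _).obj K = P

lemma exists_kFlatP (Z : HomotopyCategory Y.Modules (ComplexShape.up ℤ)) :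
    ∃ (P : _) (s : P ⟶ Z), kFlatP Y P ∧ HomotopyCategory.quasiIso Y.Modules (ComplexShape.up ℤ) s := by
  obtain ⟨G, rfl⟩ := HomotopyCategory.quotient_obj_surjective Z
  obtain ⟨N, q, hN, -, hq, -⟩ := SiteBase.KFlat.exists_resolution (O := Y.sheaf) G
  exact ⟨_, (HomotopyCategory.quotient _ _).map q, ⟨N, hN, rfl⟩,
    (HomotopyCategory.quotient_map_mem_quasiIso_iff q).2 hq⟩

/-- A functor killing the acyclic K-flat complexes inverts quasi-isomorphisms between K-flat complexes. -/
lemma isIso_map_of_kFlat {W : Scheme.{u}} (G : Y.Modules ⥤ W.Modules) [G.Additive]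
    (hG : ∀ K : CochainComplex Y.Modules ℤ, DCoh.IsKFlat K → K.Acyclic →
      ((G.mapHomologicalComplex (ComplexShape.up ℤ)).obj K).Acyclic)
    ⦃P Q : HomotopyCategory Y.Modules (ComplexShape.up ℤ)⦄ (s : P ⟶ Q) (hP : kFlatP Y P) (hQ : kFlatP Y Q)
    (hs : HomotopyCategory.quasiIso Y.Modules (ComplexShape.up ℤ) s) :
    IsIso ((G.mapHomotopyCategory (ComplexShape.up ℤ) ⋙ DerivedCategory.Qh).map s) := by
  obtain ⟨K, hK, rfl⟩ := hP
  obtain ⟨L, hL, rfl⟩ := hQ
  obtain ⟨α, rfl⟩ := (HomotopyCategory.quotient _ _).map_surjective s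
  rw [HomotopyCategory.quotient_map_mem_quasiIso_iff, HomologicalComplex.mem_quasiIso_iff] at hs
  have hac : (CochainComplex.mappingCone α).Acyclic :=
    (quasiIso_iff_acyclic_cone α).1 hs
  have hc := hG _ (SiteBase.KFlat.isKFlat_cone (O := Y.sheaf) α hK hL) hac
  have hq : QuasiIso ((G.mapHomologicalComplex (ComplexShape.up ℤ)).map α) :=
    (quasiIso_iff_acyclic_cone _).2
      (SiteBase.KFlat.acyclic_of_iso (CochainComplex.mappingCone.mapHomologicalComplexIso α G) hc)
  exact Localization.inverts DerivedCategory.Qh (HomotopyCategory.quasiIso W.Modules (ComplexShape.up ℤ)) _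
    ((HomotopyCategory.quotient_map_mem_quasiIso_iff _).2 hq)

/-- Pullback has a left derived functor. -/
theorem hasLpull : DCoh.HasLpull f :=
  DerCat.LeftDeriv.hasLeftDerivedFunctor (HomotopyCategory.quasiIso Y.Modules (ComplexShape.up ℤ))
    (DCoh.pullKh f) (kFlatP Y) exists_kFlatP
    (fun _ _ s => isIso_map_of_kFlat (Scheme.Modules.pullback f) (fun _ h hac => acyclic_pull f h hac) s)

/-- The derived pullback of a K-flat complex is the pullback. -/
theorem isIso_Lpull_counit [DCoh.HasLpull f] {K : CochainComplex Y.Modules ℤ} (h : DCoh.IsKFlat K) :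
    IsIso (((DCoh.pullKh f).totalLeftDerivedCounit DerivedCategory.Qh
      (HomotopyCategory.quasiIso Y.Modules (ComplexShape.up ℤ))).app
        ((HomotopyCategory.quotient Y.Modules (ComplexShape.up ℤ)).obj K)) :=
  DerCat.LeftDeriv.isIso_counit_app DerivedCategory.Qh (HomotopyCategory.quasiIso Y.Modules (ComplexShape.up ℤ))
    (DCoh.pullKh f) (kFlatP Y) exists_kFlatP
    (fun _ _ s => isIso_map_of_kFlat (Scheme.Modules.pullback f) (fun _ h hac => acyclic_pull f h hac) s)
    ⟨K, h, rfl⟩

lemma acyclic_tensorRightMod (M : X.Modules) {K : CochainComplex X.Modules ℤ} (h : DCoh.IsKFlat K)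
    (hac : K.Acyclic) :
    (((DCoh.tensorRightMod M).mapHomologicalComplex (ComplexShape.up ℤ)).obj K).Acyclic :=
  SiteBase.KFlat.acyclic_tensor_module (O := X.sheaf) h hac M

/-- `- ⊗ M` has a left derived functor. -/
theorem hasLTensorMod (M : X.Modules) : DCoh.HasLTensorMod M :=
  DerCat.LeftDeriv.hasLeftDerivedFunctor (HomotopyCategory.quasiIso X.Modules (ComplexShape.up ℤ))
    (DCoh.tensorModKh M) (kFlatP X) exists_kFlatP
    (fun _ _ s => isIso_map_of_kFlat (DCoh.tensorRightMod M) (fun _ h hac => acyclic_tensorRightMod M h hac) s)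

/-- The derived tensor product of a K-flat complex with a module is the tensor product. -/
theorem isIso_LTensorMod_counit (M : X.Modules) [DCoh.HasLTensorMod M] {K : CochainComplex X.Modules ℤ}
    (h : DCoh.IsKFlat K) :
    IsIso (((DCoh.tensorModKh M).totalLeftDerivedCounit DerivedCategory.Qh
      (HomotopyCategory.quasiIso X.Modules (ComplexShape.up ℤ))).app
        ((HomotopyCategory.quotient X.Modules (ComplexShape.up ℤ)).obj K)) :=
  DerCat.LeftDeriv.isIso_counit_app DerivedCategory.Qh (HomotopyCategory.quasiIso X.Modules (ComplexShape.up ℤ))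
    (DCoh.tensorModKh M) (kFlatP X) exists_kFlatP
    (fun _ _ s => isIso_map_of_kFlat (DCoh.tensorRightMod M) (fun _ h hac => acyclic_tensorRightMod M h hac) s)
    ⟨K, h, rfl⟩

end Groth.Agent.DCohBridge
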