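import Groth.Agent.DCohBridge.TildeKFlat
import Groth.Agent.DCohBridge.PullKFlat
import Groth.Agent.DerCat.LeftDerivUnique
import Groth.Agent.DRingKProj.Derived
import Groth.Agent.DRingTorAmp.Values
import Groth.Agent.QCohAffine.PullTilde
import Groth.Prelude.Def_DDual2

/-!
Derived pullback of `M~` is derived base change.
-/

set_option backward.isDefEq.respectTransparency false
set_option backward.defeqAttrib.useBackward true

universe u

open CategoryTheory Limits AlgebraicGeometry

attribute [local instance] HasDerivedCategory.standard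

namespace Groth.Agent.DCohBridge

section

variable {A B C : Type*} [Category* A] [Category* B] [Category* C] [Preadditive A] [Preadditive B] [Preadditive C]

/-- Composites on homotopy categories. -/
noncomputable def mapHomotopyCompIso (F : A ⥤ B) (G : B ⥤ C) [F.Additive] [G.Additive] :
    F.mapHomotopyCategory (ComplexShape.up ℤ) ⋙ G.mapHomotopyCategory (ComplexShape.up ℤ) ≅
      (F ⋙ G).mapHomotopyCategory (ComplexShape.up ℤ) :=
  NatIso.ofComponents (fun K => (HomotopyCategory.quotient C (ComplexShape.up ℤ)).mapIso
    (HomologicalComplex.Hom.isoOfComponents (fun _ => Iso.refl _)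
      (fun i j _ => (Category.id_comp _).trans (Category.comp_id _).symm))) (by
      rintro ⟨K⟩ ⟨L⟩ f
      obtain ⟨f, rfl⟩ := (HomotopyCategory.quotient A (ComplexShape.up ℤ)).map_surjective f
      change (HomotopyCategory.quotient C _).map _ ≫ (HomotopyCategory.quotient C _).map _ =
        (HomotopyCategory.quotient C _).map _ ≫ (HomotopyCategory.quotient C _).map _
      rw [← Functor.map_comp, ← Functor.map_comp]
      congr 1
      ext i
      simp)

/-- Isomorphic functors on homotopy categories. -/
noncomputable def mapHomotopyIso {F G : A ⥤ B} [F.Additive] [G.Additive] (e : F ≅ G) :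
    F.mapHomotopyCategory (ComplexShape.up ℤ) ≅ G.mapHomotopyCategory (ComplexShape.up ℤ) :=
  NatIso.ofComponents (fun K => (HomotopyCategory.quotient B (ComplexShape.up ℤ)).mapIso
    (HomologicalComplex.Hom.isoOfComponents (fun n => e.app (K.as.X n))
      (fun i j _ => (e.hom.naturality (K.as.d i j)).symm))) (by
      rintro ⟨K⟩ ⟨L⟩ f
      obtain ⟨f, rfl⟩ := (HomotopyCategory.quotient A (ComplexShape.up ℤ)).map_surjective f
      change (HomotopyCategory.quotient B _).map _ ≫ (HomotopyCategory.quotient B _).map _ =
        (HomotopyCategory.quotient B _).map _ ≫ (HomotopyCategory.quotient B _).map _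
      rw [← Functor.map_comp, ← Functor.map_comp]
      congr 1
      ext i
      exact e.hom.naturality (f.f i))

end

lemma tilde_additive (R : CommRingCat.{u}) : (tilde.functor R).Additive := inferInstance

lemma tilde_preservesFiniteColimits (R : CommRingCat.{u}) : PreservesFiniteColimits (tilde.functor R) :=
  inferInstance

variable {A B : Type u} [CommRing A] [CommRing B] (φ : A →+* B)

/-- Derived pullback of tilde is tilde of derived base change. -/
theorem nonempty_LBaseChange_tildeD_iso
    [PreservesFiniteLimits (tilde.functor (CommRingCat.of A))] [PreservesFiniteLimits (tilde.functor (CommRingCat.of B))]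
    [DRing.HasLBaseChange φ] [DCoh.HasLpull (Spec.map (CommRingCat.ofHom φ))] :
    Nonempty (DRing.LBaseChange φ ⋙ DCoh.tildeD (CommRingCat.of B) ≅
      DCoh.tildeD (CommRingCat.of A) ⋙ DCoh.Lpull (Spec.map (CommRingCat.ofHom φ))) := by
  let g := Spec.map (CommRingCat.ofHom φ)
  let tA := tilde.functor (CommRingCat.of A)
  let tB := tilde.functor (CommRingCat.of B)
  haveI : tA.Additive := tilde_additive (CommRingCat.of A)
  haveI : PreservesFiniteColimits tA := tilde_preservesFiniteColimits (CommRingCat.of A)
  haveI : PreservesFiniteLimits tA := ‹PreservesFiniteLimits (tilde.functor (CommRingCat.of A))›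
  haveI : tB.Additive := tilde_additive (CommRingCat.of B)
  haveI : PreservesFiniteColimits tB := tilde_preservesFiniteColimits (CommRingCat.of B)
  haveI : PreservesFiniteLimits tB := ‹PreservesFiniteLimits (tilde.functor (CommRingCat.of B))›
  let P := DRingKProj.KP (A := A)
  let W := HomotopyCategory.quasiIso (ModuleCat.{u} A) (ComplexShape.up ℤ)
  let e : tA ⋙ Scheme.Modules.pullback g ≅ ModuleCat.extendScalars.{u, u, u} φ ⋙ tB :=
    QCohAffine.pullbackTildeIso (CommRingCat.ofHom φ)
  let F : HomotopyCategory (ModuleCat.{u} A) (ComplexShape.up ℤ) ⥤ DCoh.D (Spec (CommRingCat.of B)) :=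
    (tA ⋙ Scheme.Modules.pullback g).mapHomotopyCategory (ComplexShape.up ℤ) ⋙ DerivedCategory.Qh
  have hinv : ∀ ⦃X Y : HomotopyCategory (ModuleCat.{u} A) (ComplexShape.up ℤ)⦄ (s : X ⟶ Y),
      P X → P Y → W s → IsIso (F.map s) := fun X Y s hX hY hs => by
    haveI := DRingKProj.isIso_of_KP s hX hY hs
    infer_instance
  haveI : F.HasLeftDerivedFunctor W :=
    DerCat.LeftDeriv.hasLeftDerivedFunctor W F P DRingKProj.exists_resolution_homotopy hinv
  have hF : ∀ X, P X → IsIso ((F.totalLeftDerivedCounit DerivedCategory.Qh W).app X) := fun X hX =>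
    DerCat.LeftDeriv.isIso_counit_app DerivedCategory.Qh W F P DRingKProj.exists_resolution_homotopy hinv hX
  let cP := (DCoh.pullKh g).totalLeftDerivedCounit DerivedCategory.Qh
    (HomotopyCategory.quasiIso (Spec (CommRingCat.of A)).Modules (ComplexShape.up ℤ))
  let cB := (DRing.baseChangeKh φ).totalLeftDerivedCounit DerivedCategory.Qh W
  let β₁ : DerivedCategory.Qh ⋙ DCoh.tildeD (CommRingCat.of A) ⋙ DCoh.Lpull g ⟶ F :=
    (Functor.associator _ _ _).inv ≫ Functor.whiskerRight tA.mapDerivedCategoryFactorsh.hom (DCoh.Lpull g) ≫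
      (Functor.associator _ _ _).hom ≫ Functor.whiskerLeft _ cP ≫ (Functor.associator _ _ _).inv ≫
      Functor.whiskerRight (mapHomotopyCompIso tA (Scheme.Modules.pullback g)).hom DerivedCategory.Qh
  let β₂ : DerivedCategory.Qh ⋙ DRing.LBaseChange φ ⋙ DCoh.tildeD (CommRingCat.of B) ⟶ F :=
    (Functor.associator _ _ _).inv ≫ Functor.whiskerRight cB (DCoh.tildeD (CommRingCat.of B)) ≫
      (Functor.associator _ _ _).hom ≫ Functor.whiskerLeft _ tB.mapDerivedCategoryFactorsh.hom ≫
      (Functor.associator _ _ _).inv ≫
      Functor.whiskerRight ((mapHomotopyCompIso _ tB).hom ≫ (mapHomotopyIso e.symm).hom) DerivedCategory.Qh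
  obtain ⟨i₁⟩ := DerCat.LeftDeriv.nonempty_iso_totalLeftDerived DerivedCategory.Qh W F P
    DRingKProj.exists_resolution_homotopy hF _ β₁ fun X hX => by
      haveI : CochainComplex.IsKProjective X.as := hX
      haveI := isIso_Lpull_counit g (isKFlat_tilde (R := CommRingCat.of A)
        (DRingTorAmp.isKFl_of_isKProjective X.as))
      haveI : IsIso (cP.app ((tA.mapHomotopyCategory (ComplexShape.up ℤ)).obj X)) := this
      dsimp [β₁]
      infer_instance
  obtain ⟨i₂⟩ := DerCat.LeftDeriv.nonempty_iso_totalLeftDerived DerivedCategory.Qh W F P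
    DRingKProj.exists_resolution_homotopy hF _ β₂ fun X hX => by
      haveI : CochainComplex.IsKProjective X.as := hX
      haveI := DRingKProj.isIso_counit_app (ModuleCat.extendScalars.{u, u, u} φ) X.as
      haveI : IsIso (cB.app X) := this
      dsimp [β₂]
      infer_instance
  exact ⟨i₂ ≪≫ i₁.symm⟩

end Groth.Agent.DCohBridge
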