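import Groth.Agent.DCohBridge.BettiAlg
import Groth.Agent.DCohBridge.PCTriangle
import Groth.Agent.DCohBridge.TildePull
import Groth.Agent.QCohBase.CohRestrict
import Groth.Prelude.Def_PerfD

/-!
Fibre dimensions of pseudo-coherent objects.
-/

set_option backward.isDefEq.respectTransparency false
set_option backward.defeqAttrib.useBackward true

universe u

open CategoryTheory Limits AlgebraicGeometry Opposite

attribute [local instance] HasDerivedCategory.standard

namespace Groth.Agent.DCohBridge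

variable {X Y Z : Scheme.{u}}

lemma tilde_preservesFiniteLimits (R : CommRingCat.{u}) : PreservesFiniteLimits (tilde.functor R) :=
  (QCohBase.tilde_exact R).1

/-- Composition of pullbacks on complexes. -/
noncomputable def pullCxCompIso (g : Z ⟶ X) (f : X ⟶ Y) (h : Z ⟶ Y) (e : g ≫ f = h)
    (N : CochainComplex Y.Modules ℤ) : (pullCx h).obj N ≅ (pullCx g).obj ((pullCx f).obj N) :=
  HomologicalComplex.Hom.isoOfComponents
    (fun n => ((Scheme.Modules.pullbackCongr e.symm) ≪≫ (Scheme.Modules.pullbackComp g f).symm).app (N.X n))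
    (fun i k _ => (((Scheme.Modules.pullbackCongr e.symm) ≪≫
      (Scheme.Modules.pullbackComp g f).symm).hom.naturality (N.d i k)).symm)

/-- Sections of `H~` have the dimension of `H`. -/
theorem finrank_sections_tilde (K : CommRingCat.{u}) (H : ModuleCat.{u} K) {Mo : (Spec K).Modules}
    (e : Mo ≅ (tilde.functor K).obj H) :
    Module.finrank (Coh.Γtop (Spec K)) (Mo.val.obj (op ⊤)) = Module.finrank K H := by
  refine Eq.trans ?_ (LinearEquiv.finrank_eq
    ((tilde.isoTop H).toLinearEquiv)).symm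
  refine (LinearEquiv.finrank_eq
    (((SheafOfModules.forget _ ⋙ PresheafOfModules.evaluation _ (op (⊤ : (Spec K).Opens))).mapIso e).toLinearEquiv)).trans ?_
  refine congrArg Cardinal.toNat (rank_eq_of_equiv_equiv
    (fun r => (Scheme.ΓSpecIso K).hom r) (AddEquiv.refl _)
    (ConcreteCategory.bijective_of_isIso (Scheme.ΓSpecIso K).hom) fun r m => ?_)
  refine Eq.trans ?_ (Scheme.Modules.smul_Spec_def (U := (⊤ : (Spec K).Opens))
    ((Scheme.ΓSpecIso K).hom r) (show Γ((tilde.functor K).obj H, ⊤) from m)).symm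
  rw [show (TopologicalSpace.Opens.leTop (⊤ : (Spec K).Opens)).op = 𝟙 _ from rfl, (Spec K).presheaf.map_id]
  exact congrArg (fun t : Γ(Spec K, ⊤) => t • (show Γ((tilde.functor K).obj H, ⊤) from m))
    ((Scheme.ΓSpecIso K).hom_inv_id_apply r).symm

/-- Cohomology of the complex of a complex of modules, as tilde. -/
noncomputable def HDTildeIso (R : CommRingCat.{u}) (N : CochainComplex (ModuleCat.{u} R) ℤ) (i : ℤ) :
    DCoh.HD (DCoh.toD (Spec R) (((tilde.functor R).mapHomologicalComplex (ComplexShape.up ℤ)).obj N)) i ≅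
      (tilde.functor R).obj (N.homology i) :=
  haveI := tilde_preservesFiniteLimits R
  (DerivedCategory.homologyFunctorFactors (Spec R).Modules i).app _ ≪≫
    (N.sc i).mapHomologyIso (tilde.functor R)

/-- Transport of the comparison to pullbacks. -/
theorem exists_iso_HD_pull (g : X ⟶ Y) {P F : CochainComplex Y.Modules ℤ} (hP : DCoh.IsKFlat P)
    (hF : DCoh.IsKFlat F) {m : ℤ} {α : DCoh.toD Y P ⟶ DCoh.toD Y F} (hα : Cond m α) (i : ℤ) (hi : m < i) :
    Nonempty (DCoh.HD (DCoh.toD X ((pullCx g).obj P)) i ≅ DCoh.HD (DCoh.toD X ((pullCx g).obj F)) i) := by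
  haveI := hasLpull g
  obtain ⟨A, B, b, eA, eB, hA, hB, hb⟩ := exists_kFlat_rep α
  haveI : (CochainComplex.mappingCone b).IsLE (m - 1) := (cone_exact_iff b m).1
    (cond_of_arrow_iso eA.symm eB.symm (by rw [← cancel_mono eB.hom]; simp [hb]) m hα)
  haveI : (CochainComplex.mappingCone ((pullCx g).map b)).IsLE (m - 1) := by
    haveI := isLE_pull g (SiteBase.KFlat.isKFlat_cone (O := Y.sheaf) b hA hB) (m - 1)
    exact CochainComplex.isLE_of_iso
      (CochainComplex.mappingCone.mapHomologicalComplexIso b (Scheme.Modules.pullback g)) (m - 1)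
  haveI := ((cone_exact_iff ((pullCx g).map b) m).2 inferInstance).1 i hi
  exact ⟨(DerivedCategory.homologyFunctor _ i).mapIso (pullQIso g hA hP eA).symm ≪≫
    asIso ((DerivedCategory.homologyFunctor _ i).map (DerivedCategory.Q.map ((pullCx g).map b))) ≪≫
    (DerivedCategory.homologyFunctor _ i).mapIso (pullQIso g hB hF eB)⟩

/-- Residue fields along an open immersion out of an affine scheme. -/
theorem exists_residue_hom {R : CommRingCat.{u}} (j : Spec R ⟶ X) [IsOpenImmersion j] (p : Spec R) :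
    ∃ φ : R ⟶ X.residueField (j.base p), RingHom.ker φ.hom = p.asIdeal ∧
      Spec.map φ ≫ j = X.fromSpecResidueField (j.base p) := by
  let ψ := Spec.preimage ((Spec R).fromSpecResidueField p)
  refine ⟨ψ ≫ inv (j.residueFieldMap p), ?_, ?_⟩
  · have hψ : RingHom.ker ψ.hom = p.asIdeal := by
      have h1 : (Spec.map ψ).base (IsLocalRing.closedPoint ((Spec R).residueField p)) = p := by
        rw [Spec.map_preimage]
        exact Scheme.fromSpecResidueField_apply _ _
      have h2 := congrArg PrimeSpectrum.asIdeal h1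
      rw [RingHom.ker_eq_comap_bot]
      refine Eq.trans ?_ h2
      exact congrArg (Ideal.comap ψ.hom) (IsLocalRing.isField_iff_maximalIdeal_eq.1
        (Field.toIsField _)).symm
    rw [← hψ]
    ext r
    simp only [RingHom.mem_ker]
    exact map_eq_zero_iff _ (ConcreteCategory.bijective_of_isIso (inv (j.residueFieldMap p))).1
  · rw [Spec.map_comp, Category.assoc, Spec.map_preimage, ← Scheme.Hom.SpecMap_residueFieldMap_fromSpecResidueField,
      ← Category.assoc, ← Spec.map_comp, IsIso.hom_inv_id, Spec.map_id, Category.id_comp]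

/-- Near each point the fibre dimensions are those of a complex of finite free modules. -/
theorem exists_chart [∀ x : X, DCoh.HasLpull (X.fromSpecResidueField x)] {E : DCoh.D X} {x : X} (U : X.Opens)
    (hxU : x ∈ U) {E₀ : CochainComplex (U : Scheme.{u}).Modules ℤ} (hE₀ : DCoh.IsStrictlyPerfect E₀)
    (f : DCoh.toD (U : Scheme.{u}) E₀ ⟶ (DCoh.restrictD U.ι).obj E) :
    ∃ (R : CommRingCat.{u}) (j : Spec R ⟶ X) (_ : IsOpenImmersion j) (p₀ : Spec R)
      (M : CochainComplex (ModuleCat.{u} R) ℤ) (a b : ℤ), j.base p₀ = x ∧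
      (∀ i, Module.Free R (M.X i) ∧ Module.Finite R (M.X i)) ∧ (∀ i, i < a ∨ b < i → IsZero (M.X i)) ∧
      ∀ (m : ℤ), Cond m f → ∀ (p : Spec R) (i : ℤ), m < i →
        PerfD.betti E (j.base p) i + Module.finrank R (M.X (i + 1)) =
          FlatComplex.fiberDim (Coker M i) p + FlatComplex.fiberDim (Coker M (i + 1)) p := by
  obtain ⟨W, hxW, hW⟩ := exists_free_nhd hE₀ ⟨x, hxU⟩
  obtain ⟨V, hV, hxV, -⟩ := exists_isAffineOpen_mem_and_subset
    (show (⟨⟨x, hxU⟩, hxW⟩ : (W : Scheme.{u})) ∈ (⊤ : (W : Scheme.{u}).Opens) from trivial)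
  obtain ⟨p₀, hp₀⟩ : (⟨⟨x, hxU⟩, hxW⟩ : (W : Scheme.{u})) ∈ Set.range hV.fromSpec := by
    rw [hV.range_fromSpec]; exact hxV
  let R := Γ((W : Scheme.{u}), V)
  let k := hV.fromSpec
  let j := (k ≫ W.ι) ≫ U.ι
  let P := (resCx k).obj ((resCx W.ι).obj E₀)
  have hP : DCoh.IsStrictlyPerfect P := isStrictlyPerfect_res k (isStrictlyPerfect_res W.ι hE₀)
  let α : DCoh.toD (Spec R) P ⟶ (DCoh.restrictD j).obj E :=
    ((DCoh.restrictD k).mapIso (restrictObjIso W.ι E₀) ≪≫ restrictObjIso k _).inv ≫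
      (DCoh.restrictD k).map ((DCoh.restrictD W.ι).map f) ≫
      ((compObjIso k W.ι _).inv ≫ (compObjIso (k ≫ W.ι) U.ι E).inv)
  let T := tilde.functor R
  haveI : T.Additive := tilde_additive R
  let ΓF := (moduleSpecΓFunctor (R := R))
  haveI : ΓF.Additive := (tilde.adjunction (R := R)).right_adjoint_additive
  have hfree : ∀ i, ∃ n : ℕ, Nonempty (P.X i ≅ T.obj (ModuleCat.of R (ULift.{u} (Fin n) →₀ R))) := fun i => by
    obtain ⟨n, ⟨e⟩⟩ := hW i
    exact ⟨n, ⟨(Scheme.Modules.restrictFunctor k).mapIso e ≪≫ TensorMod.restrictFreeModIso k n ≪≫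
      TensorMod.freeModIso _ n ≪≫ (tildeFinsupp (R := R) (ULift.{u} (Fin n))).symm⟩⟩
  haveI hiso : ∀ i, IsIso ((tilde.adjunction (R := R)).counit.app (P.X i)) := fun i => by
    obtain ⟨n, ⟨e⟩⟩ := hfree i
    exact (tilde.adjunction (R := R)).isIso_counit_app_iff_mem_essImage.2 ⟨_, ⟨e.symm⟩⟩
  let M := (ΓF.mapHomologicalComplex (ComplexShape.up ℤ)).obj P
  let eP : (T.mapHomologicalComplex (ComplexShape.up ℤ)).obj M ≅ P :=
    HomologicalComplex.Hom.isoOfComponents (fun i => @asIso _ _ _ _ _ (hiso i))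
      (fun i l _ => ((tilde.adjunction (R := R)).counit.naturality (P.d i l)).symm)
  have hM : ∀ i, Module.Free R (M.X i) ∧ Module.Finite R (M.X i) := fun i => by
    obtain ⟨n, ⟨e⟩⟩ := hfree i
    let l := ((tilde.fullyFaithfulFunctor (R := R)).preimageIso
      ((HomologicalComplex.eval _ _ i).mapIso eP ≪≫ e)).toLinearEquiv
    exact ⟨Module.Free.of_equiv l.symm, Module.Finite.equiv l.symm⟩
  obtain ⟨a, b, hv⟩ := hP.1
  refine ⟨R, j, inferInstance, p₀, M, a, b, by simp [j, k]; exact congrArg (fun t => t.1.1) hp₀, hM, fun i hi => ΓF.map_isZero (hv i hi),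
    fun m hf p i hi => ?_⟩
  have hα : Cond m α :=
    cond_comp (cond_isIso m _) (cond_comp (cond_restrictD k (cond_restrictD W.ι hf)) (cond_isIso m _))
  obtain ⟨φ, hφ, hj⟩ := exists_residue_hom j p
  haveI := fun i => (hM i).1
  haveI := fun i => (hM i).2
  rw [← finrank_fibre_homology_add M (fun i => (hM i).2) (fun i => (hM i).1) p _ φ.hom hφ i]
  congr 1
  obtain ⟨N, q, hN, -, hq, -⟩ := SiteBase.KFlat.exists_resolution (O := X.sheaf) (DerivedCategory.Q.objPreimage E)
  let eN : DCoh.toD X N ≅ E :=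
    @asIso _ _ _ _ (DerivedCategory.Q.map q) inferInstance ≪≫ DerivedCategory.Q.objObjPreimageIso E
  let eN' : (DCoh.restrictD j).obj E ≅ DCoh.toD (Spec R) ((pullCx j).obj N) :=
    (DCoh.restrictD j).mapIso eN.symm ≪≫ restrictObjIso j N ≪≫ DerivedCategory.Q.mapIso
      (HomologicalComplex.Hom.isoOfComponents (fun n => (Scheme.Modules.restrictFunctorIsoPullback j).app (N.X n))
        (fun i l _ => ((Scheme.Modules.restrictFunctorIsoPullback j).hom.naturality (N.d i l)).symm))
  let σ := Spec.map φ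
  obtain ⟨e₁⟩ := exists_iso_HD_pull σ (isKFlat_of_strictlyPerfect hP) (isKFlat_pull j hN)
    (cond_comp hα (cond_isIso m eN'.hom)) i hi
  let Tφ := tilde.functor (X.residueField (j.base p))
  let Mφ := ((ModuleCat.extendScalars.{u, u, u} φ.hom).mapHomologicalComplex (ComplexShape.up ℤ)).obj M
  let et : (pullCx σ).obj ((T.mapHomologicalComplex (ComplexShape.up ℤ)).obj M) ≅
      (Tφ.mapHomologicalComplex (ComplexShape.up ℤ)).obj Mφ :=
    HomologicalComplex.Hom.isoOfComponents (fun n => (QCohAffine.pullbackTildeIso φ).app (M.X n))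
      (fun i l _ => ((QCohAffine.pullbackTildeIso φ).hom.naturality (M.d i l)).symm)
  let eHD : DCoh.HD ((DCoh.Lpull (X.fromSpecResidueField (j.base p))).obj E) i ≅ Tφ.obj (Mφ.homology i) :=
    (DerivedCategory.homologyFunctor _ i).mapIso ((DCoh.Lpull _).mapIso eN.symm ≪≫ LpullIso _ hN ≪≫
      DerivedCategory.Q.mapIso (pullCxCompIso σ j _ hj N)) ≪≫ e₁.symm ≪≫
    (DerivedCategory.homologyFunctor _ i).mapIso
      (DerivedCategory.Q.mapIso ((pullCx σ).mapIso eP.symm ≪≫ et)) ≪≫ HDTildeIso _ Mφ i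
  exact finrank_sections_tilde (X.residueField (j.base p)) _ eHD

/-- Upper semicontinuity of fibre dimensions. -/
theorem isOpen_betti_lt [∀ x : X, DCoh.HasLpull (X.fromSpecResidueField x)] {E : DCoh.D X}
    (hE : ∀ m : ℤ, DCoh.IsPseudoCoherentD m E) (i : ℤ) (n : ℕ) : IsOpen {x : X | PerfD.betti E x i < n} := by
  rw [isOpen_iff_forall_mem_open]
  intro x hx
  obtain ⟨U, hxU, g⟩ := ((isPseudoCoherentD_iff (i - 1) E).1 (hE (i - 1)) x).exists_le
  obtain ⟨E₀, f, hE₀, -, hf⟩ := g U le_rfl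
  obtain ⟨R, j, _, p₀, M, a, b, rfl, hM, -, hb⟩ := exists_chart U hxU hE₀ f
  replace hb := hb (i - 1) hf
  obtain ⟨U₁, hU₁, hp₁, h₁⟩ := exists_nhds_coker_le M (fun i => (hM i).2) p₀ i
  obtain ⟨U₂, hU₂, hp₂, h₂⟩ := exists_nhds_coker_le M (fun i => (hM i).2) p₀ (i + 1)
  refine ⟨j.base '' (U₁ ∩ U₂), ?_, j.isOpenEmbedding.isOpenMap _ (hU₁.inter hU₂), ⟨p₀, ⟨hp₁, hp₂⟩, rfl⟩⟩
  rintro _ ⟨p, ⟨q₁, q₂⟩, rfl⟩
  have e := hb p i (by lia)
  have e₀ := hb p₀ i (by lia)
  have := h₁ p q₁
  have := h₂ p q₂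
  simp only [Set.mem_setOf_eq] at hx ⊢
  omega

/-- The Euler characteristic is locally constant. -/
theorem isLocallyConstant_eulerChar [∀ x : X, DCoh.HasLpull (X.fromSpecResidueField x)] {E : DCoh.D X}
    (hE : DCoh.IsPerfect E) : IsLocallyConstant (fun x : X => PerfD.eulerChar E x) := by
  rw [IsLocallyConstant.iff_exists_open]
  intro x
  obtain ⟨U, hxU, g⟩ := ((isPerfect_iff E).1 hE x).exists_le
  obtain ⟨E₀, hE₀, ⟨e⟩⟩ := g U le_rfl
  obtain ⟨R, j, _, p₀, M, a, b, hx, hM, hv, hb⟩ := exists_chart U hxU hE₀ e.inv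
  haveI := fun i => (hM i).1
  haveI := fun i => (hM i).2
  refine ⟨Set.range j.base, j.isOpenEmbedding.isOpen_range, ⟨p₀, hx⟩, ?_⟩
  have key : ∀ p : Spec R, PerfD.eulerChar E (j.base p) =
      finsum fun i : ℤ => (i.negOnePow : ℤ) * (Module.finrank R (M.X i) : ℤ) := fun p => by
    haveI : Nontrivial R := nontrivial_of_ne 0 1 fun h =>
      p.isPrime.ne_top ((Ideal.eq_top_iff_one _).2 (h ▸ p.asIdeal.zero_mem))
    have hsub : ∀ i, i < a ∨ b < i → Subsingleton (M.X i) := fun i hi =>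
      ModuleCat.subsingleton_of_isZero (hv i hi)
    refine finsum_negOnePow_eq (a := a) (b := b) _ (fun i => FlatComplex.fiberDim (Coker M i) p) _
      (fun i hi => ?_) (fun i hi => ?_) (fun i => hb (i - 1) (cond_isIso _ e.inv) p i (by lia))
    · haveI := hsub i hi
      haveI : Subsingleton (Coker M i) := Function.Surjective.subsingleton (Submodule.mkQ_surjective _)
      exact Module.finrank_zero_of_subsingleton
    · haveI := hsub i hi
      exact Module.finrank_zero_of_subsingleton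
  rintro _ ⟨p, rfl⟩
  change PerfD.eulerChar E (j.base p) = PerfD.eulerChar E x
  rw [key p, ← hx, key p₀]

end Groth.Agent.DCohBridge
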