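import Groth.Agent.DCohBridge.PullKFlat
import Groth.Agent.DerCat.AdjHomotopy
import Groth.Agent.S0476
import Groth.Agent.S1032
import Groth.Agent.SiteBase.ModGrothendieck

/-!
The derived direct image: existence, and maps from K-flat complexes to direct images of K-injective complexes.
-/

set_option backward.isDefEq.respectTransparency false
set_option backward.defeqAttrib.useBackward true

universe u

open CategoryTheory Limits AlgebraicGeometry

attribute [local instance] HasDerivedCategory.standard

namespace Groth.Agent.DCohBridge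

variable {X Y : Scheme.{u}} (f : X ⟶ Y)

instance isGrothendieckAbelian_modules (X : Scheme.{u}) : IsGrothendieckAbelian.{u} X.Modules :=
  inferInstanceAs (IsGrothendieckAbelian.{u} (ModSite.Mod X.sheaf))

/-- `f_*` on homotopy categories. -/
noncomputable abbrev pushH : HomotopyCategory X.Modules (ComplexShape.up ℤ) ⥤ HomotopyCategory Y.Modules (ComplexShape.up ℤ) :=
  (Scheme.Modules.pushforward f).mapHomotopyCategory (ComplexShape.up ℤ)

/-- `f^*` on homotopy categories. -/
noncomputable abbrev pullH : HomotopyCategory Y.Modules (ComplexShape.up ℤ) ⥤ HomotopyCategory X.Modules (ComplexShape.up ℤ) :=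
  (Scheme.Modules.pullback f).mapHomotopyCategory (ComplexShape.up ℤ)

/-- The adjunction on homotopy categories. -/
noncomputable def adjH : pullH f ⊣ pushH f :=
  DerCat.adjHomotopy (Scheme.Modules.pullbackPushforwardAdjunction f) (ComplexShape.up ℤ)

/-- K-injective objects of the homotopy category. -/
def kInjP (X : Scheme.{u}) : ObjectProperty (HomotopyCategory X.Modules (ComplexShape.up ℤ)) :=
  fun P => ∃ I : CochainComplex X.Modules ℤ, I.IsKInjective ∧ (HomotopyCategory.quotient _ _).obj I = P

lemma exists_kInj (X : Scheme.{u}) (K : CochainComplex X.Modules ℤ) :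
    ∃ (I : CochainComplex X.Modules ℤ) (g : K ⟶ I), I.IsKInjective ∧ QuasiIso g := by
  obtain ⟨I, g, hI, hg, -, -⟩ := Groth.Agent.S0476.result K
  exact ⟨I, g, hI, hg⟩

lemma exists_kInjP (Z : HomotopyCategory X.Modules (ComplexShape.up ℤ)) :
    ∃ (P : _) (s : Z ⟶ P), kInjP X P ∧ HomotopyCategory.quasiIso X.Modules (ComplexShape.up ℤ) s := by
  obtain ⟨G, rfl⟩ := HomotopyCategory.quotient_obj_surjective Z
  obtain ⟨I, g, hI, hg⟩ := exists_kInj X G
  exact ⟨_, (HomotopyCategory.quotient _ _).map g, ⟨I, hI, rfl⟩,
    (HomotopyCategory.quotient_map_mem_quasiIso_iff g).2 hg⟩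

/-- The derived direct image exists. -/
theorem hasRpush : DCoh.HasRpush f :=
  (Groth.Agent.S1032.result (exists_kInj X) (DCoh.pushKh f)).1

/-- The derived direct image of a K-injective complex is the direct image. -/
theorem isIso_Rpush_unit [DCoh.HasRpush f] {P : HomotopyCategory X.Modules (ComplexShape.up ℤ)} (h : kInjP X P) :
    IsIso (((DCoh.pushKh f).totalRightDerivedUnit DerivedCategory.Qh
      (HomotopyCategory.quasiIso X.Modules (ComplexShape.up ℤ))).app P) := by
  obtain ⟨I, hI, rfl⟩ := h
  exact (Groth.Agent.S1032.result (exists_kInj X) (DCoh.pushKh f)).2 I hI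

/-- Maps from K-flat complexes to direct images of K-injective complexes may be computed in the homotopy category. -/
theorem bijective_Qh_map {K : HomotopyCategory Y.Modules (ComplexShape.up ℤ)} (hK : kFlatP Y K)
    {I : HomotopyCategory X.Modules (ComplexShape.up ℤ)} (hI : kInjP X I) :
    Function.Bijective (DerivedCategory.Qh.map : (K ⟶ (pushH f).obj I) → _) := by
  obtain ⟨I, hI', rfl⟩ := hI
  let W := HomotopyCategory.quasiIso Y.Modules (ComplexShape.up ℤ)
  have hbij := fun Z => CochainComplex.IsKInjective.Qh_map_bijective Z I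
  have hinv : ∀ ⦃P Q⦄ (s : P ⟶ Q), kFlatP Y P → kFlatP Y Q → W s →
      IsIso (DerivedCategory.Qh.map ((pullH f).map s)) := fun P Q s hP hQ hs =>
    isIso_map_of_kFlat (Scheme.Modules.pullback f) (fun _ h hac => acyclic_pull f h hac) s hP hQ hs
  refine ⟨fun a b e => ?_, fun g => ?_⟩
  · obtain ⟨Z, s, hs, e'⟩ := (MorphismProperty.map_eq_iff_precomp DerivedCategory.Qh W a b).1 e
    obtain ⟨P, r, hP, hr⟩ := exists_kFlatP Z
    haveI := hinv (r ≫ s) hP hK (W.comp_mem _ _ hr hs)
    apply ((adjH f).homEquiv K _).symm.injective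
    apply (hbij _).1
    rw [← cancel_epi (DerivedCategory.Qh.map ((pullH f).map (r ≫ s))), ← Functor.map_comp, ← Functor.map_comp,
      ← Adjunction.homEquiv_naturality_left_symm, ← Adjunction.homEquiv_naturality_left_symm, Category.assoc,
      Category.assoc, e']
  · obtain ⟨P, t, b, hP, ht, e⟩ := DerCat.LeftDeriv.exists_roof DerivedCategory.Qh W (kFlatP Y) exists_kFlatP g
    haveI := hinv t hP hK ht
    obtain ⟨a, ha⟩ := (hbij _).2 (inv (DerivedCategory.Qh.map ((pullH f).map t)) ≫
      DerivedCategory.Qh.map (((adjH f).homEquiv P _).symm b))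
    refine ⟨(adjH f).homEquiv K _ a, ?_⟩
    haveI := Localization.inverts DerivedCategory.Qh W t ht
    rw [← cancel_epi (DerivedCategory.Qh.map t), e, ← Functor.map_comp, ← Adjunction.homEquiv_naturality_left]
    congr 1
    apply ((adjH f).homEquiv P _).symm.injective
    rw [Equiv.symm_apply_apply]
    apply (hbij _).1
    rw [Functor.map_comp, ha, IsIso.hom_inv_id_assoc]

end Groth.Agent.DCohBridge
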