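import Groth.Agent.DCohBridge.AffineAcyclic
import Groth.Agent.DCohBridge.Betti
import Groth.Agent.DCohBridge.PushDerived
import Groth.Agent.DerCat.TestHom
import Groth.Agent.TensorMod.Invertible

/-!
Quasi-coherent cohomology on an affine scheme: the tilde of global sections of a K-injective complex.
-/

set_option backward.isDefEq.respectTransparency false
set_option backward.defeqAttrib.useBackward true

noncomputable section

universe u

open CategoryTheory Limits AlgebraicGeometry Opposite DerivedCategory TopologicalSpace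

attribute [local instance] HasDerivedCategory.standard

namespace Groth.Agent.DCohBridge

/-- The truncation tower of any object of `D(X)` has a product. -/
theorem hasProduct_tow {X : Scheme.{u}} (E : DCoh.D X) : HasProduct (DerCat.TruncLim.tow E) := by
  choose I q hI hq using fun m : ℕ => exists_kInj X (Q.objPreimage (DerCat.TruncLim.tow E m))
  exact DerCat.hasProduct_of_isKInjective _ I fun m =>
    (@asIso _ _ _ _ (Q.map (q m)) (haveI := hq m; inferInstance)).symm ≪≫ Q.objObjPreimageIso _

/-- Maps from free modules on affine opens compute the cohomology of unbounded objects. -/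
theorem bijective_ev_freeU {X : Scheme.{u}} {K : DCoh.D X} (hK : DCoh.IsQCohD K) (U : AffOpen X) (n : ℤ) :
    Function.Bijective (DerCat.TruncLim.ev n (freeU U.1) K) :=
  haveI := hasProduct_tow K
  DerCat.TruncLim.bijective_ev (fun U : AffOpen X => freeU U.1)
    (fun f hf => eq_zero_of_freeU f hf) (acycD_of_isQCohD hK) U n

namespace Affine

variable (R : CommRingCat.{u})

/-- Global sections, as modules over `R`. -/
abbrev Γf : (Spec R).Modules ⥤ ModuleCat.{u} R := moduleSpecΓFunctor

instance : (Γf R).Additive := (tilde.adjunction (R := R)).right_adjoint_additive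

instance : PreservesFiniteLimits (tilde.functor R) := tilde_preservesFiniteLimits R

/-- The tilde of a complex. -/
abbrev TC : CochainComplex (ModuleCat.{u} R) ℤ ⥤ CochainComplex (Spec R).Modules ℤ :=
  (tilde.functor R).mapHomologicalComplex (ComplexShape.up ℤ)

/-- The global sections of a complex. -/
abbrev ΓC : CochainComplex (Spec R).Modules ℤ ⥤ CochainComplex (ModuleCat.{u} R) ℤ :=
  (Γf R).mapHomologicalComplex (ComplexShape.up ℤ)

variable {R}

/-- The counit on complexes. -/
def counitC (I : CochainComplex (Spec R).Modules ℤ) : (TC R).obj ((ΓC R).obj I) ⟶ I where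
  f n := (tilde.adjunction (R := R)).counit.app (I.X n)
  comm' i j _ := ((tilde.adjunction (R := R)).counit.naturality (I.d i j)).symm

/-- The transpose of a map from the tilde of a complex. -/
def transpose {N : CochainComplex (ModuleCat.{u} R) ℤ} {I : CochainComplex (Spec R).Modules ℤ}
    (s : (TC R).obj N ⟶ I) : N ⟶ (ΓC R).obj I where
  f n := (tilde.adjunction (R := R)).homEquiv (N.X n) (I.X n) (s.f n)
  comm' i j _ := ((tilde.adjunction (R := R)).homEquiv_naturality_right _ _).symm.trans
    ((congrArg ((tilde.adjunction (R := R)).homEquiv _ _) (s.comm i j)).trans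
      ((tilde.adjunction (R := R)).homEquiv_naturality_left _ _))

lemma map_transpose_counit {N : CochainComplex (ModuleCat.{u} R) ℤ} {I : CochainComplex (Spec R).Modules ℤ}
    (s : (TC R).obj N ⟶ I) : (TC R).map (transpose s) ≫ counitC I = s := by
  ext n : 1
  exact (((tilde.adjunction (R := R)).homEquiv_counit _ _ _).symm).trans (Equiv.symm_apply_apply _ _)

lemma eq_transpose_map {N : CochainComplex (ModuleCat.{u} R) ℤ} {I : CochainComplex (Spec R).Modules ℤ}
    (g : N ⟶ (ΓC R).obj I) : g = transpose ((TC R).map g ≫ counitC I) := by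
  ext n : 1
  exact (((tilde.adjunction (R := R)).homEquiv _ _).apply_symm_apply (g.f n)).symm.trans
    (congrArg _ ((tilde.adjunction (R := R)).homEquiv_counit _ _ _))

variable (R)

/-- The tilde of `R`. -/
abbrev P₁ : (Spec R).Modules := (tilde.functor R).obj (ModuleCat.of R R)

/-- Maps out of the tilde of `R` are sections. -/
def P₁Equiv (M : (Spec R).Modules) : (P₁ R ⟶ M) ≃ (Γf R).obj M :=
  ((tilde.adjunction (R := R)).homEquiv (ModuleCat.of R R) M).trans
    (ModuleCat.homEquiv.trans (LinearMap.ringLmapEquivSelf R R ((Γf R).obj M)).toEquiv)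

lemma P₁Equiv_comp {M N : (Spec R).Modules} (a : P₁ R ⟶ M) (f : M ⟶ N) :
    P₁Equiv R N (a ≫ f) = (Γf R).map f (P₁Equiv R M a) := by
  simp [P₁Equiv, Adjunction.homEquiv_naturality_right]
  rfl

lemma exists_iso_P₁ : Nonempty (P₁ R ≅ freeU (⊤ : (Spec R).Opens)) := by
  let F := freeU (⊤ : (Spec R).Opens)
  let e := fun M : (Spec R).Modules => (P₁Equiv R M).trans
    (SiteBase.freeOnEquiv (O := (Spec R).sheaf) (⊤ : (Spec R).Opens) M).symm.toEquiv
  have he : ∀ {M N : (Spec R).Modules} (a : P₁ R ⟶ M) (f : M ⟶ N), e N (a ≫ f) = e M a ≫ f := by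
    intro M N a f
    apply (SiteBase.freeOnEquiv (O := (Spec R).sheaf) (⊤ : (Spec R).Opens) N).injective
    simp only [e, Equiv.trans_apply, AddEquiv.toEquiv_eq_coe, AddEquiv.coe_toEquiv]
    rw [P₁Equiv_comp, SiteBase.PullTensor.freeOnEquiv_comp]
    exact (AddEquiv.apply_symm_apply _ _).trans
      (congrArg (f.val.app (op (⊤ : (Spec R).Opens))) (AddEquiv.apply_symm_apply _ _)).symm
  let a := (e F).symm (𝟙 F)
  let b := e (P₁ R) (𝟙 _)
  have h1 : b ≫ a = 𝟙 F := by
    rw [← he, Category.id_comp]; exact (e F).apply_symm_apply _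
  have h2 : a ≫ b = 𝟙 _ := (e (P₁ R)).injective (by
    rw [he]; exact ((congrArg (· ≫ b) ((e F).apply_symm_apply _)).trans (Category.id_comp b)))
  exact ⟨⟨a, b, h2, h1⟩⟩

variable {R}

theorem bijective_ev_P₁ {K : DCoh.D (Spec R)} (hK : DCoh.IsQCohD K) (n : ℤ) :
    Function.Bijective (DerCat.TruncLim.ev n (P₁ R) K) := by
  obtain ⟨i⟩ := exists_iso_P₁ R
  let e : ((singleFunctor (Spec R).Modules n).obj (freeU (⊤ : (Spec R).Opens)) ⟶ K) ≃
      ((singleFunctor (Spec R).Modules n).obj (P₁ R) ⟶ K) :=
    ((singleFunctor (Spec R).Modules n).mapIso i).symm.homFromEquiv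
  refine (Function.Bijective.of_comp_iff _ e.bijective).1 ?_
  have h : DerCat.TruncLim.ev n (P₁ R) K ∘ e =
      (i.symm.homFromEquiv) ∘ DerCat.TruncLim.ev n (freeU (⊤ : (Spec R).Opens)) K :=
    funext fun ξ => DerCat.TruncLim.ev_map_comp n i.hom ξ
  rw [h]
  exact (Equiv.bijective _).comp (bijective_ev_freeU hK ⟨⊤, isAffineOpen_top _⟩ n)

lemma exists_lift_P₁ {A B : (Spec R).Modules} (hA : (tilde.functor R).essImage A)
    (hB : (tilde.functor R).essImage B) (f : A ⟶ B) [Epi f] (g : P₁ R ⟶ B) :
    ∃ z : P₁ R ⟶ A, z ≫ f = g := by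
  obtain ⟨a, ⟨ea⟩⟩ := hA
  obtain ⟨b, ⟨eb⟩⟩ := hB
  obtain ⟨f', hf'⟩ := (tilde.functor R).map_surjective (ea.hom ≫ f ≫ eb.inv)
  obtain ⟨g', hg'⟩ := (tilde.functor R).map_surjective (g ≫ eb.inv)
  haveI : Epi f' := by
    apply (tilde.functor R).epi_of_epi_map
    rw [hf']; infer_instance
  haveI : CategoryTheory.Projective (ModuleCat.of R R) := inferInstance
  refine ⟨(tilde.functor R).map (Projective.factorThru g' f') ≫ ea.hom, ?_⟩
  rw [Category.assoc, ← cancel_mono eb.inv, Category.assoc, Category.assoc, ← hf', ← Functor.map_comp,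
    Projective.factorThru_comp, hg']

lemma isIso_of_P₁ {A B : (Spec R).Modules} (hA : (tilde.functor R).essImage A)
    (hB : (tilde.functor R).essImage B) (f : A ⟶ B)
    (h : Function.Bijective fun g : P₁ R ⟶ A => g ≫ f) : IsIso f := by
  haveI := isIso_fromTildeΓ_iff.2 hA
  haveI := isIso_fromTildeΓ_iff.2 hB
  haveI : IsIso ((Γf R).map f) := by
    rw [ConcreteCategory.isIso_iff_bijective]
    have e : (⇑((Γf R).map f) ∘ P₁Equiv R A) = P₁Equiv R B ∘ fun g => g ≫ f :=
      funext fun g => (P₁Equiv_comp R g f).symm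
    refine (Function.Bijective.of_comp_iff _ (P₁Equiv R A).bijective).1 ?_
    rw [e]
    exact (P₁Equiv R B).bijective.comp h
  have n := (tilde.adjunction (R := R)).counit.naturality f
  haveI : IsIso ((tilde.adjunction (R := R)).counit.app A) := ‹IsIso A.fromTildeΓ›
  haveI : IsIso ((tilde.adjunction (R := R)).counit.app B) := ‹IsIso B.fromTildeΓ›
  haveI : IsIso ((tilde.functor R).map ((Γf R).map f) ≫ (tilde.adjunction (R := R)).counit.app B) :=
    inferInstance
  exact @IsIso.of_isIso_fac_left _ _ _ _ _ _ f _ ‹IsIso A.fromTildeΓ› this n.symm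

/-- A K-injective complex with quasi-coherent cohomology is the tilde of its global sections. -/
theorem quasiIso_counitC (I : CochainComplex (Spec R).Modules ℤ) [I.IsKInjective]
    (hI : DCoh.IsQCohD (DCoh.toD (Spec R) I)) : QuasiIso (counitC I) := by
  refine ⟨fun n => ?_⟩
  rw [quasiIsoAt_iff_isIso_homologyMap]
  let N := (ΓC R).obj I
  have hW : (tilde.functor R).essImage (((TC R).obj N).homology n) :=
    ⟨N.homology n, ⟨((N.sc n).mapHomologyIso (tilde.functor R)).symm⟩⟩
  have hZ : (tilde.functor R).essImage (((TC R).obj N).cycles n) :=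
    ⟨N.cycles n, ⟨((N.sc n).mapCyclesIso (tilde.functor R)).symm⟩⟩
  have hH : (tilde.functor R).essImage (I.homology n) := by
    rw [← isIso_fromTildeΓ_iff]
    haveI : Coh.IsQCoh (I.homology n) :=
      TensorMod.isQCoh_of_iso ((homologyFunctorFactors (Spec R).Modules n).app I) (hI n)
    exact (isQuasicoherent_iff_isIso_fromTildeΓ _).1 inferInstance
  refine isIso_of_P₁ hW hH _ (DerCat.bijective_comp_homologyMap (counitC I) n (fun m => ?_)
    (bijective_ev_P₁ hI n) fun g => exists_lift_P₁ hZ hW _ g)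
  have h2 : Function.Bijective ((Γf R).map ((tilde.adjunction (R := R)).counit.app (I.X m))) := by
    haveI : IsIso ((Γf R).map ((tilde.adjunction (R := R)).counit.app (I.X m))) :=
      IsIso.of_isIso_fac_left ((tilde.adjunction (R := R)).right_triangle_components (I.X m))
    exact ConcreteCategory.bijective_of_isIso _
  have e : (P₁Equiv R (I.X m) ∘ fun g => g ≫ (counitC I).f m) =
      ⇑((Γf R).map ((tilde.adjunction (R := R)).counit.app (I.X m))) ∘ P₁Equiv R _ :=
    funext fun g => P₁Equiv_comp R g _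
  refine ((P₁Equiv R (I.X m)).comp_bijective _).1 ?_
  rw [e]
  exact h2.comp (P₁Equiv R _).bijective

lemma isQCohD_tilde (N : CochainComplex (ModuleCat.{u} R) ℤ) :
    DCoh.IsQCohD (DCoh.toD (Spec R) ((TC R).obj N)) := fun i =>
  TensorMod.isQCoh_of_iso (HDTildeIso R N i).symm
    ((isQuasicoherent_iff_isIso_fromTildeΓ _).2
      (isIso_fromTildeΓ_iff.2 ((tilde.functor R).obj_mem_essImage _)))

/-- A tilde of a complex embeds quasi-isomorphically in a K-injective complex of the same form. -/
theorem exists_resolution (N : CochainComplex (ModuleCat.{u} R) ℤ) :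
    ∃ (I : CochainComplex (Spec R).Modules ℤ) (s : (TC R).obj N ⟶ I),
      I.IsKInjective ∧ QuasiIso s ∧ QuasiIso (transpose s) ∧ ((ΓC R).obj I).IsKInjective := by
  obtain ⟨I, s, hI, hs⟩ := exists_kInj (Spec R) ((TC R).obj N)
  haveI : QuasiIso (counitC I) := quasiIso_counitC I fun i =>
    TensorMod.isQCoh_of_iso ((homologyFunctor _ i).mapIso (asIso (Q.map s)))
      (isQCohD_tilde N i)
  refine ⟨I, s, hI, hs, ?_, DerCat.isKInjective_map_rightAdjoint (tilde.adjunction (R := R)) I⟩
  haveI : QuasiIso ((TC R).map (transpose s) ≫ counitC I) := by rw [map_transpose_counit]; exact hs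
  rw [← HomologicalComplex.quasiIso_map_iff_of_preservesHomology (transpose s) (tilde.functor R)]
  exact quasiIso_of_comp_right _ (counitC I)

/-- Comparison of the derived functor with the functor on complexes. -/
abbrev factor (N : CochainComplex (ModuleCat.{u} R) ℤ) :
    (DCoh.tildeD R).obj (Q.obj N) ≅ Q.obj ((TC R).obj N) :=
  (tilde.functor R).mapDerivedCategoryFactors.app N

lemma factor_natural {N N' : CochainComplex (ModuleCat.{u} R) ℤ} (f : N ⟶ N') :
    (DCoh.tildeD R).map (Q.map f) ≫ (factor N').hom = (factor N).hom ≫ Q.map ((TC R).map f) :=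
  (tilde.functor R).mapDerivedCategoryFactors.hom.naturality f

variable (R)

theorem tildeD_full : (DCoh.tildeD R).Full := by
  refine ⟨fun {X Y} φ => ?_⟩
  let u := Q.objObjPreimageIso X
  let v := Q.objObjPreimageIso Y
  let ψ := (factor (Q.objPreimage X)).inv ≫ (DCoh.tildeD R).map u.hom ≫ φ ≫
    (DCoh.tildeD R).map v.inv ≫ (factor (Q.objPreimage Y)).hom
  obtain ⟨I, s, hI, hs, hs', hJ⟩ := exists_resolution (Q.objPreimage Y)
  haveI : QuasiIso (counitC I) := quasiIso_counitC I fun i =>
    TensorMod.isQCoh_of_iso ((homologyFunctor _ i).mapIso (asIso (Q.map s))) (isQCohD_tilde _ i)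
  obtain ⟨f, hf⟩ := DerCat.Q_map_surjective (ψ ≫ Q.map s)
  refine ⟨u.inv ≫ Q.map (transpose f) ≫ inv (Q.map (transpose s)) ≫ v.hom, ?_⟩
  have key : Q.map ((TC R).map (transpose f)) = ψ ≫ Q.map ((TC R).map (transpose s)) := by
    rw [← cancel_mono (Q.map (counitC I)), Category.assoc, ← Functor.map_comp, ← Functor.map_comp,
      map_transpose_counit, map_transpose_counit, hf]
  have k2 : (DCoh.tildeD R).map (Q.map (transpose f)) = (DCoh.tildeD R).map u.hom ≫ φ ≫
      (DCoh.tildeD R).map v.inv ≫ (DCoh.tildeD R).map (Q.map (transpose s)) := by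
    rw [← cancel_mono (factor _).hom, factor_natural, key]
    simp only [ψ, Category.assoc, factor_natural]
    simp
  simp only [Functor.map_comp, k2, Category.assoc, Functor.map_inv, IsIso.hom_inv_id_assoc,
    ← Functor.map_comp_assoc, Iso.inv_hom_id, CategoryTheory.Functor.map_id, Category.id_comp]
  simp

theorem tildeD_faithful : (DCoh.tildeD R).Faithful := by
  refine ⟨fun {X Y} a b hab => ?_⟩
  let u := Q.objObjPreimageIso X
  let v := Q.objObjPreimageIso Y
  obtain ⟨I, s, hI, hs, hs', hJ⟩ := exists_resolution (Q.objPreimage Y)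
  obtain ⟨g, hg⟩ := DerCat.Q_map_surjective (u.hom ≫ a ≫ v.inv ≫ Q.map (transpose s))
  obtain ⟨g', hg'⟩ := DerCat.Q_map_surjective (u.hom ≫ b ≫ v.inv ≫ Q.map (transpose s))
  have h1 : Q.map ((TC R).map g) = Q.map ((TC R).map g') := by
    rw [← cancel_epi (factor (Q.objPreimage X)).hom, ← factor_natural, ← factor_natural, hg, hg']
    simp only [Functor.map_comp, hab]
  have h2 : Q.map g = Q.map g' := by
    obtain ⟨H⟩ := (DerCat.Q_map_eq_iff ((TC R).map g ≫ counitC I) ((TC R).map g' ≫ counitC I)).1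
      (by rw [Functor.map_comp, Functor.map_comp, h1])
    rw [DerCat.Q_map_eq_iff]
    let η : Q.objPreimage X ⟶ (ΓC R).obj ((TC R).obj (Q.objPreimage X)) := transpose (𝟙 _)
    have hη : ∀ k : Q.objPreimage X ⟶ (ΓC R).obj I, η ≫ (ΓC R).map ((TC R).map k ≫ counitC I) = k := by
      intro k
      conv_rhs => rw [eq_transpose_map k]
      ext n : 1
      exact ((tilde.adjunction (R := R)).homEquiv_naturality_right _ _).symm.trans
        (congrArg _ (Category.id_comp _))
    exact ⟨(Homotopy.ofEq (by rw [Functor.map_sub, Preadditive.comp_sub, hη, hη])).trans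
      ((((Γf R).mapHomotopy H).compLeft η).trans (Homotopy.ofEq (by simp)))⟩
  rw [hg, hg', cancel_epi] at h2
  exact (cancel_mono (v.inv ≫ Q.map (transpose s))).1 h2

theorem isQCohD_iff (K : DCoh.D (Spec R)) :
    DCoh.IsQCohD K ↔ ∃ M, Nonempty ((DCoh.tildeD R).obj M ≅ K) := by
  refine ⟨fun hK => ?_, fun ⟨M, ⟨e⟩⟩ i => ?_⟩
  · obtain ⟨I, s, hI, hs⟩ := exists_kInj (Spec R) (Q.objPreimage K)
    let e : Q.obj I ≅ K := (asIso (Q.map s)).symm ≪≫ Q.objObjPreimageIso K
    haveI : QuasiIso (counitC I) := quasiIso_counitC I fun i =>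
      TensorMod.isQCoh_of_iso ((homologyFunctor _ i).mapIso e.symm) (hK i)
    exact ⟨Q.obj ((ΓC R).obj I), ⟨factor _ ≪≫ asIso (Q.map (counitC I)) ≪≫ e⟩⟩
  · exact TensorMod.isQCoh_of_iso ((homologyFunctor _ i).mapIso
      ((factor _).symm ≪≫ (DCoh.tildeD R).mapIso (Q.objObjPreimageIso M) ≪≫ e))
      (isQCohD_tilde _ i)

end Affine

end Groth.Agent.DCohBridge
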