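import Groth.Agent.DerCat.TestCycles
import Groth.Agent.DCohBridge.DQCoh
import Groth.Agent.QCohBase.Exact

/-!
Direct images along affine morphisms of complexes with quasi-coherent cohomology.
-/

set_option backward.isDefEq.respectTransparency false
set_option backward.defeqAttrib.useBackward true

noncomputable section

universe u

open CategoryTheory Limits AlgebraicGeometry Opposite TopologicalSpace HomologicalComplex

attribute [local instance] HasDerivedCategory.standard

namespace Groth.Agent.DCohBridge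

variable {X S : Scheme.{u}}

/-- The kernel of a map of quasi-coherent modules is quasi-coherent. -/
theorem isQCoh_kernel {A B : X.Modules} (φ : A ⟶ B) (hA : Coh.IsQCoh A) (hB : Coh.IsQCoh B) :
    Coh.IsQCoh (kernel φ) :=
  QCohBase.isQuasicoherent_of_exact_left (T := ShortComplex.mk (kernel.ι φ) φ (kernel.condition φ))
    (ShortComplex.exact_of_f_is_kernel _ (kernelIsKernel φ)) hA hB

/-- Lifting sections over affine opens along a map of quasi-coherent modules. -/
theorem exists_lift_qcoh {A B : X.Modules} (φ : A ⟶ B) (hA : Coh.IsQCoh A) (hB : Coh.IsQCoh B) {U : X.Opens}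
    (hU : IsAffineOpen U) (g : freeU U ⟶ B) (h : g ≫ cokernel.π φ = 0) : ∃ k, k ≫ φ = g := by
  let T : ShortComplex X.Modules := ShortComplex.mk (kernel.ι φ) (Abelian.factorThruImage φ) (by
    rw [← cancel_mono (Abelian.image.ι φ), Category.assoc, Abelian.image.fac, kernel.condition, zero_comp])
  let ψ : T ⟶ ShortComplex.mk (kernel.ι φ) φ (kernel.condition φ) :=
    { τ₁ := 𝟙 _
      τ₂ := 𝟙 _
      τ₃ := Abelian.image.ι φ
      comm₁₂ := by simp [T]
      comm₂₃ := by simp [T] }
  have hT : T.ShortExact :=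
    haveI : Epi ψ.τ₁ := inferInstanceAs (Epi (𝟙 _))
    haveI : IsIso ψ.τ₂ := inferInstanceAs (IsIso (𝟙 _))
    haveI : Mono ψ.τ₃ := inferInstanceAs (Mono (Abelian.image.ι φ))
    haveI : Mono T.f := inferInstanceAs (Mono (kernel.ι φ))
    haveI : Epi T.g := inferInstanceAs (Epi (Abelian.factorThruImage φ))
    { exact := (ShortComplex.exact_iff_of_epi_of_isIso_of_mono ψ).2
        (ShortComplex.exact_of_f_is_kernel _ (kernelIsKernel φ)) }
  haveI : Coh.IsQCoh (kernel φ) := isQCoh_kernel φ hA hB
  obtain ⟨k, hk⟩ := exists_lift_freeU hT (QCohBase.acyclic_of_isQCoh (kernel φ)) hU (kernel.lift _ g h)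
  exact ⟨k, by
    rw [← Abelian.image.fac φ, ← Category.assoc]
    exact (congrArg (· ≫ Abelian.image.ι φ) hk).trans (kernel.lift_ι _ _ _)⟩

theorem isQCoh_cycles {W : CochainComplex X.Modules ℤ} (h : ∀ n, Coh.IsQCoh (W.X n)) (n : ℤ) :
    Coh.IsQCoh (W.cycles n) :=
  TensorMod.isQCoh_of_iso
    ((kernelIsKernel _).conePointUniqueUpToIso (W.cyclesIsKernel n (n + 1) (by simp)))
    (isQCoh_kernel (W.d n (n + 1)) (h n) (h (n + 1)))

theorem isQCoh_homology {W : CochainComplex X.Modules ℤ} (h : ∀ n, Coh.IsQCoh (W.X n)) (n : ℤ) :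
    Coh.IsQCoh (W.homology n) :=
  TensorMod.isQCoh_of_iso
    ((cokernelIsCokernel _).coconePointUniqueUpToIso (W.homologyIsCokernel (n - 1) n (by simp)))
    (QCohBase.isQuasicoherent_cokernel (W.toCycles (n - 1) n) (h _) (isQCoh_cycles h n))

/-- Complexes of quasi-coherent modules are seen by affine opens. -/
theorem nice_of_terms {W : CochainComplex X.Modules ℤ} (h : ∀ n, Coh.IsQCoh (W.X n)) {U : X.Opens}
    (hU : IsAffineOpen U) : DerCat.Nice (freeU U) W := fun n => by
  refine ⟨fun g => exists_lift_qcoh (W.homologyπ n) (isQCoh_cycles h n) (isQCoh_homology h n) hU g ?_,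
    fun z hz => exists_lift_qcoh (W.toCycles (n - 1) n) (h _) (isQCoh_cycles h n) hU z ?_⟩
  · rw [cokernel.π_of_epi (W.homologyπ n), comp_zero]
  · have e := (W.homologyIsCokernel (n - 1) n (by simp)).comp_coconePointUniqueUpToIso_hom
      (cokernelIsCokernel (W.toCycles (n - 1) n)) WalkingParallelPair.one
    refine (congrArg (z ≫ ·) e).symm.trans ?_
    exact (Category.assoc _ _ _).symm.trans ((congrArg (· ≫ _) hz).trans zero_comp)

/-- K-injective complexes with quasi-coherent cohomology are seen by affine opens. -/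
theorem nice_of_isKInjective (I : CochainComplex X.Modules ℤ) [I.IsKInjective]
    (hI : DCoh.IsQCohD (DCoh.toD X I)) {U : X.Opens} (hU : IsAffineOpen U) : DerCat.Nice (freeU U) I :=
  DerCat.nice_of_isKInjective (freeU U) I fun n => bijective_ev_freeU hI ⟨U, hU⟩ n

/-- The pullback of a free module on an open. -/
theorem nonempty_pullback_freeU (f : X ⟶ S) (V : S.Opens) :
    Nonempty ((Scheme.Modules.pullback f).obj (freeU V) ≅ freeU (f ⁻¹ᵁ V)) := by
  let L := (Scheme.Modules.pullback f).obj (freeU V)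
  let F := freeU (f ⁻¹ᵁ V)
  let e := fun M : X.Modules => ((Scheme.Modules.pullbackPushforwardAdjunction f).homEquiv (freeU V) M).trans
    ((SiteBase.freeOnEquiv (O := S.sheaf) V ((Scheme.Modules.pushforward f).obj M)).toEquiv.trans
      (SiteBase.freeOnEquiv (O := X.sheaf) (f ⁻¹ᵁ V) M).symm.toEquiv)
  have he : ∀ {M N : X.Modules} (a : L ⟶ M) (φ : M ⟶ N), e N (a ≫ φ) = e M a ≫ φ := by
    intro M N a φ
    apply (SiteBase.freeOnEquiv (O := X.sheaf) (f ⁻¹ᵁ V) N).injective
    simp only [e, Equiv.trans_apply, AddEquiv.toEquiv_eq_coe, AddEquiv.coe_toEquiv,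
      Adjunction.homEquiv_naturality_right]
    rw [SiteBase.PullTensor.freeOnEquiv_comp, SiteBase.PullTensor.freeOnEquiv_comp]
    exact (AddEquiv.apply_symm_apply _ _).trans
      (congrArg (φ.val.app (op (f ⁻¹ᵁ V))) (AddEquiv.apply_symm_apply _ _)).symm
  let a := (e F).symm (𝟙 F)
  let b := e L (𝟙 _)
  have h1 : b ≫ a = 𝟙 F := by
    rw [← he, Category.id_comp]; exact (e F).apply_symm_apply _
  have h2 : a ≫ b = 𝟙 _ := (e L).injective (by
    rw [he]; exact ((congrArg (· ≫ b) ((e F).apply_symm_apply _)).trans (Category.id_comp b)))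
  exact ⟨⟨a, b, h2, h1⟩⟩

variable (f : X ⟶ S)

theorem nice_pullback_freeU [IsAffineHom f] {W : CochainComplex X.Modules ℤ}
    (hW : ∀ U : X.Opens, IsAffineOpen U → DerCat.Nice (freeU U) W) (V : AffOpen S) :
    DerCat.Nice ((Scheme.Modules.pullback f).obj (freeU V.1)) W :=
  (hW _ (V.2.preimage f)).of_iso (nonempty_pullback_freeU f V.1).some.symm

/-- Direct image along an affine morphism preserves quasi-isomorphisms between complexes seen by affine opens. -/
theorem quasiIso_pushCx_affine [IsAffineHom f] {W W' : CochainComplex X.Modules ℤ} (c : W ⟶ W') [QuasiIso c]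
    (hW : ∀ U : X.Opens, IsAffineOpen U → DerCat.Nice (freeU U) W)
    (hW' : ∀ U : X.Opens, IsAffineOpen U → DerCat.Nice (freeU U) W') :
    QuasiIso (((Scheme.Modules.pushforward f).mapHomologicalComplex (ComplexShape.up ℤ)).map c) :=
  DerCat.quasiIso_map_rightAdjoint (Scheme.Modules.pullbackPushforwardAdjunction f)
    (fun V : AffOpen S => freeU V.1) c (nice_pullback_freeU f hW) (nice_pullback_freeU f hW')
    (fun φ hφ => eq_zero_of_freeU φ hφ)

/-- A map out of a quasi-coherent module killed by the sections over an affine cover is zero. -/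
theorem eq_zero_of_affine_cover {M N : X.Modules} (φ : M ⟶ N) (hM : Coh.IsQCoh M)
    (h : ∀ x : X, ∃ U : X.Opens, IsAffineOpen U ∧ x ∈ U ∧ ∀ g : freeU U ⟶ M, g ≫ φ = 0) : φ = 0 := by
  have key : ∀ (U : X.Opens), IsAffineOpen U → (∀ g : freeU U ⟶ M, g ≫ φ = 0) →
      ∀ (W : X.Opens), W ≤ U → ∀ s : Γ(M, W), φ.app W s = 0 := by
    intro U hU hg W hWU s
    have hsec : ∀ t : Γ(M, U), φ.app U t = 0 := fun t => by
      have h0 := congrArg (SiteBase.freeOnEquiv (O := X.sheaf) U N)
        (hg ((SiteBase.freeOnEquiv (O := X.sheaf) U M).symm t))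
      rw [SiteBase.PullTensor.freeOnEquiv_comp, map_zero] at h0
      exact (congrArg (φ.val.app (op U)) (AddEquiv.apply_symm_apply _ t)).symm.trans h0
    let j := hU.fromSpec
    let ψ := (Scheme.Modules.restrictFunctor j).map φ
    haveI := hM
    haveI : IsIso ((Scheme.Modules.restrictFunctor j).obj M).fromTildeΓ := inferInstance
    have hψ : ψ = 0 := by
      have h1 : moduleSpecΓFunctor.map ψ = 0 := by
        ext t
        have hj : j ''ᵁ ⊤ = U := (Scheme.Hom.image_top_eq_opensRange j).trans (IsAffineOpen.opensRange_fromSpec hU)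
        have : ∀ (U' : X.Opens), U' = U → ∀ t : Γ(M, U'), φ.app U' t = 0 := fun _ e => by subst e; exact hsec
        exact this _ hj t
      haveI : IsIso ((tilde.adjunction (R := Γ(X, U))).counit.app ((Scheme.Modules.restrictFunctor j).obj M)) :=
        ‹IsIso (Scheme.Modules.fromTildeΓ _)›
      rw [← cancel_epi ((tilde.adjunction (R := Γ(X, U))).counit.app ((Scheme.Modules.restrictFunctor j).obj M)),
        comp_zero]
      refine ((tilde.adjunction (R := Γ(X, U))).counit.naturality ψ).symm.trans ?_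
      rw [Functor.comp_map, h1, Functor.map_zero, zero_comp]
    have hW : j ''ᵁ (j ⁻¹ᵁ W) = W := by
      rw [Scheme.Hom.image_preimage_eq_opensRange_inf, IsAffineOpen.opensRange_fromSpec]
      exact inf_eq_right.mpr hWU
    have : ∀ s : Γ(M, j ''ᵁ (j ⁻¹ᵁ W)), φ.app _ s = 0 := fun s =>
      congrArg (fun χ : _ ⟶ (Scheme.Modules.restrictFunctor j).obj N => χ.app (j ⁻¹ᵁ W) s) hψ
    have gen : ∀ (W' : X.Opens), W' = W → (∀ s : Γ(M, W'), φ.app W' s = 0) → ∀ s : Γ(M, W), φ.app W s = 0 :=
      fun _ e h => by subst e; exact h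
    exact gen _ hW this s
  choose U hU hxU hg using h
  apply Scheme.Modules.hom_ext
  intro V
  ext s
  refine TopCat.Sheaf.eq_of_locally_eq' (C := AddCommGrpCat.{u}) (⟨N.presheaf, N.isSheaf⟩)
    (fun x : X => V ⊓ U x) V (fun x => homOfLE inf_le_left)
    (fun y hy => Opens.mem_iSup.2 ⟨y, hy, hxU y⟩) _ _ fun x => ?_
  refine Eq.trans ?_ (map_zero (N.presheaf.map (homOfLE (inf_le_left : V ⊓ U x ≤ V)).op).hom).symm
  exact (QCohBase.app_nat φ inf_le_left s).trans (key (U x) (hU x) (hg x) _ inf_le_right _)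

/-- Direct image along an affine morphism reflects quasi-isomorphisms between complexes with
quasi-coherent cohomology seen by affine opens. -/
theorem quasiIso_of_pushCx_affine [IsAffineHom f] {W W' : CochainComplex X.Modules ℤ} (c : W ⟶ W')
    (hq : ∀ n, Coh.IsQCoh (W.homology n)) (hq' : ∀ n, Coh.IsQCoh (W'.homology n))
    (hW : ∀ U : X.Opens, IsAffineOpen U → DerCat.Nice (freeU U) W)
    (hW' : ∀ U : X.Opens, IsAffineOpen U → DerCat.Nice (freeU U) W')
    [QuasiIso (((Scheme.Modules.pushforward f).mapHomologicalComplex (ComplexShape.up ℤ)).map c)] :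
    QuasiIso c := by
  refine ⟨fun n => ?_⟩
  rw [quasiIsoAt_iff_isIso_homologyMap]
  have test := fun V : AffOpen S => DerCat.test_of_quasiIso_map (Scheme.Modules.pullbackPushforwardAdjunction f)
    (fun V : AffOpen S => freeU V.1) c (nice_pullback_freeU f hW) (nice_pullback_freeU f hW') V n
  have cov : ∀ x : X, ∃ V : AffOpen S, f.base x ∈ V.1 := fun x => by
    obtain ⟨V, hV, hxV, -⟩ := Opens.isBasis_iff_nbhd.1 S.isBasis_affineOpens (U := ⊤) (Opens.mem_top (f.base x))
    exact ⟨⟨V, hV⟩, hxV⟩
  haveI : Mono (homologyMap c n) := by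
    refine Preadditive.mono_of_kernel_zero (f := homologyMap c n) ?_
    refine eq_zero_of_affine_cover _ (isQCoh_kernel _ (hq n) (hq' n)) fun x => ?_
    obtain ⟨V, hV⟩ := cov x
    obtain ⟨e⟩ := nonempty_pullback_freeU f V.1
    refine ⟨_, V.2.preimage f, hV, fun g => ?_⟩
    rw [← cancel_epi e.hom, comp_zero, ← Category.assoc]
    refine (test V).1 _ ?_
    rw [Category.assoc, kernel.condition, comp_zero]
  haveI : Epi (homologyMap c n) := by
    refine Preadditive.epi_of_cokernel_zero (f := homologyMap c n) ?_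
    refine eq_zero_of_affine_cover _ (hq' n) fun x => ?_
    obtain ⟨V, hV⟩ := cov x
    obtain ⟨e⟩ := nonempty_pullback_freeU f V.1
    refine ⟨_, V.2.preimage f, hV, fun g => ?_⟩
    rw [← cancel_epi e.hom, comp_zero, ← Category.assoc]
    exact (test V).2 _
  exact isIso_of_mono_of_epi _

theorem isQCoh_homology_of_isQCohD {W : CochainComplex X.Modules ℤ} (h : DCoh.IsQCohD (DCoh.toD X W)) (n : ℤ) :
    Coh.IsQCoh (W.homology n) :=
  TensorMod.isQCoh_of_iso ((DerivedCategory.homologyFunctorFactors X.Modules n).app W) (h n)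

/-- The derived direct image along an affine morphism of a complex of quasi-coherent modules. -/
theorem isIso_Rpush_unit_affine [IsAffineHom f] [DCoh.HasRpush f] (W : CochainComplex X.Modules ℤ)
    (hW : ∀ n, Coh.IsQCoh (W.X n)) :
    IsIso (((DCoh.pushKh f).totalRightDerivedUnit DerivedCategory.Qh
      (HomotopyCategory.quasiIso X.Modules (ComplexShape.up ℤ))).app
        ((HomotopyCategory.quotient _ _).obj W)) := by
  obtain ⟨I, s, hI, hs⟩ := exists_kInj X W
  let Qx := HomotopyCategory.quotient X.Modules (ComplexShape.up ℤ)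
  let η := (DCoh.pushKh f).totalRightDerivedUnit DerivedCategory.Qh
    (HomotopyCategory.quasiIso X.Modules (ComplexShape.up ℤ))
  haveI : IsIso (η.app (Qx.obj I)) := isIso_Rpush_unit f ⟨I, hI, rfl⟩
  haveI : QuasiIso (((Scheme.Modules.pushforward f).mapHomologicalComplex (ComplexShape.up ℤ)).map s) :=
    quasiIso_pushCx_affine f s (fun U hU => nice_of_terms hW hU) fun U hU => nice_of_isKInjective I
      (fun i => TensorMod.isQCoh_of_iso ((DerivedCategory.homologyFunctor X.Modules i).mapIso
          (asIso (DerivedCategory.Q.map s)))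
        (TensorMod.isQCoh_of_iso ((DerivedCategory.homologyFunctorFactors X.Modules i).app W).symm
          (isQCoh_homology hW i))) hU
  haveI h1 : IsIso ((DCoh.pushKh f).map (Qx.map s)) := by
    exact Localization.inverts DerivedCategory.Qh (HomotopyCategory.quasiIso S.Modules (ComplexShape.up ℤ)) _
      ((HomotopyCategory.quotient_map_mem_quasiIso_iff _).2 ‹_›)
  haveI h2 : IsIso (DerivedCategory.Qh.map (Qx.map s)) :=
    Localization.inverts DerivedCategory.Qh (HomotopyCategory.quasiIso X.Modules (ComplexShape.up ℤ)) _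
      ((HomotopyCategory.quotient_map_mem_quasiIso_iff _).2 hs)
  have hn := η.naturality (Qx.map s)
  haveI : IsIso (η.app (Qx.obj W) ≫ (DerivedCategory.Qh ⋙ DCoh.Rpush f).map (Qx.map s)) := by
    rw [← hn]; infer_instance
  haveI : IsIso ((DerivedCategory.Qh ⋙ DCoh.Rpush f).map (Qx.map s)) :=
    Functor.map_isIso (DCoh.Rpush f) _
  exact IsIso.of_isIso_comp_right (η.app (Qx.obj W)) ((DerivedCategory.Qh ⋙ DCoh.Rpush f).map (Qx.map s))

/-- The derived direct image along an affine morphism reflects isomorphisms between objects with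
quasi-coherent cohomology. -/
theorem isIso_of_Rpush_affine [IsAffineHom f] [DCoh.HasRpush f] {E F : DCoh.D X} (hE : DCoh.IsQCohD E)
    (hF : DCoh.IsQCohD F) (α : E ⟶ F) [IsIso ((DCoh.Rpush f).map α)] : IsIso α := by
  obtain ⟨I, p, hI, hp⟩ := exists_kInj X (DerivedCategory.Q.objPreimage E)
  obtain ⟨J, q, hJ, hq⟩ := exists_kInj X (DerivedCategory.Q.objPreimage F)
  let eI : DerivedCategory.Q.obj I ≅ E :=
    (asIso (DerivedCategory.Q.map p)).symm ≪≫ DerivedCategory.Q.objObjPreimageIso E
  let eJ : DerivedCategory.Q.obj J ≅ F :=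
    (asIso (DerivedCategory.Q.map q)).symm ≪≫ DerivedCategory.Q.objObjPreimageIso F
  obtain ⟨a, ha⟩ := DerCat.Q_map_surjective (K := I) (L := J) (eI.hom ≫ α ≫ eJ.inv)
  have hI' : DCoh.IsQCohD (DCoh.toD X I) := fun i =>
    TensorMod.isQCoh_of_iso ((DerivedCategory.homologyFunctor X.Modules i).mapIso eI.symm) (hE i)
  have hJ' : DCoh.IsQCohD (DCoh.toD X J) := fun i =>
    TensorMod.isQCoh_of_iso ((DerivedCategory.homologyFunctor X.Modules i).mapIso eJ.symm) (hF i)
  let η := (DCoh.pushKh f).totalRightDerivedUnit DerivedCategory.Qh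
    (HomotopyCategory.quasiIso X.Modules (ComplexShape.up ℤ))
  let Qx := HomotopyCategory.quotient X.Modules (ComplexShape.up ℤ)
  haveI : IsIso (η.app (Qx.obj I)) := isIso_Rpush_unit f ⟨I, hI, rfl⟩
  haveI : IsIso (η.app (Qx.obj J)) := isIso_Rpush_unit f ⟨J, hJ, rfl⟩
  haveI : IsIso ((DCoh.Rpush f).map (DerivedCategory.Qh.map (Qx.map a))) := by
    have e := (DerivedCategory.quotientCompQhIso X.Modules).hom.naturality a
    haveI : IsIso ((DCoh.Rpush f).map (DerivedCategory.Q.map a)) := by
      rw [ha, Functor.map_comp, Functor.map_comp]; infer_instance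
    have : DerivedCategory.Qh.map (Qx.map a) = (DerivedCategory.quotientCompQhIso X.Modules).hom.app I ≫
        DerivedCategory.Q.map a ≫ (DerivedCategory.quotientCompQhIso X.Modules).inv.app J := by
      rw [← reassoc_of% e]; simp [Qx]
    rw [this, Functor.map_comp, Functor.map_comp]
    infer_instance
  haveI : IsIso ((DCoh.pushKh f).map (Qx.map a)) := by
    have hn := η.naturality (Qx.map a)
    haveI : IsIso ((DCoh.pushKh f).map (Qx.map a) ≫ η.app (Qx.obj J)) := by
      rw [hn]
      haveI : IsIso ((DerivedCategory.Qh ⋙ DCoh.Rpush f).map (Qx.map a)) :=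
        ‹IsIso ((DCoh.Rpush f).map (DerivedCategory.Qh.map (Qx.map a)))›
      infer_instance
    exact IsIso.of_isIso_comp_right _ (η.app (Qx.obj J))
  haveI : QuasiIso (((Scheme.Modules.pushforward f).mapHomologicalComplex (ComplexShape.up ℤ)).map a) := by
    refine (HomotopyCategory.quotient_map_mem_quasiIso_iff _).1 ?_
    exact (DerivedCategory.isIso_Qh_map_iff _).1 ‹IsIso ((DCoh.pushKh f).map (Qx.map a))›
  haveI := quasiIso_of_pushCx_affine f a (isQCoh_homology_of_isQCohD hI') (isQCoh_homology_of_isQCohD hJ')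
    (fun U hU => nice_of_isKInjective I hI' hU) (fun U hU => nice_of_isKInjective J hJ' hU)
  have : α = eI.inv ≫ DerivedCategory.Q.map a ≫ eJ.hom := by simp [ha]
  rw [this]
  infer_instance

end Groth.Agent.DCohBridge
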