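import Groth.Agent.DCohBridge.AffPush
import Groth.Agent.DCohBridge.TildePull

/-!
Derived direct image of tilde along a map of affine schemes is tilde of restriction of scalars.
-/

set_option backward.isDefEq.respectTransparency false
set_option backward.defeqAttrib.useBackward true

noncomputable section

universe u

open CategoryTheory Limits AlgebraicGeometry Opposite

attribute [local instance] HasDerivedCategory.standard

namespace Groth.Agent.DCohBridge

variable {R S : CommRingCat.{u}} (φ : R ⟶ S)

/-- Direct image of tilde is tilde of restriction of scalars. -/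
def pushTildeIso : ModuleCat.restrictScalars.{u} φ.hom ⋙ tilde.functor R ≅
    tilde.functor S ⋙ Scheme.Modules.pushforward (Spec.map φ) :=
  haveI : ∀ N : ModuleCat.{u} S, IsIso ((tilde.adjunction (R := R)).counit.app
      ((Scheme.Modules.pushforward (Spec.map φ)).obj ((tilde.functor S).obj N))) := fun N => by
    haveI : IsIso ((tilde.functor S).obj N).fromTildeΓ := inferInstance
    exact isIso_fromTildeΓ_pushforward φ _
  haveI : IsIso (Functor.whiskerLeft (tilde.functor S ⋙ Scheme.Modules.pushforward (Spec.map φ))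
      (tilde.adjunction (R := R)).counit) :=
    @NatIso.isIso_of_isIso_app _ _ _ _ _ _ _ fun N => this N
  Functor.isoWhiskerRight ((Functor.leftUnitor _).symm ≪≫
      Functor.isoWhiskerRight (asIso (tilde.adjunction (R := S)).unit) (ModuleCat.restrictScalars φ.hom) ≪≫
      Functor.associator _ _ _ ≪≫
      Functor.isoWhiskerLeft (tilde.functor S) (QCohAffine.pushforwardΓIso φ).symm ≪≫
      (Functor.associator _ _ _).symm) (tilde.functor R) ≪≫
    Functor.associator _ _ _ ≪≫
    asIso (Functor.whiskerLeft (tilde.functor S ⋙ Scheme.Modules.pushforward (Spec.map φ))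
      (tilde.adjunction (R := R)).counit) ≪≫ Functor.rightUnitor _

/-- Derived direct image of tilde along a map of affine schemes. -/
theorem nonempty_tildeD_Rpush_iso {A B : Type u} [CommRing A] [CommRing B] (φ : A →+* B)
    [PreservesFiniteLimits (tilde.functor (CommRingCat.of A))] [PreservesFiniteLimits (tilde.functor (CommRingCat.of B))]
    [DCoh.HasRpush (Spec.map (CommRingCat.ofHom φ))] :
    Nonempty (DCoh.tildeD (CommRingCat.of B) ⋙ DCoh.Rpush (Spec.map (CommRingCat.ofHom φ)) ≅
      DRing.restrictD φ ⋙ DCoh.tildeD (CommRingCat.of A)) := by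
  let f := Spec.map (CommRingCat.ofHom φ)
  let tA := tilde.functor (CommRingCat.of A)
  let tB := tilde.functor (CommRingCat.of B)
  let rS := ModuleCat.restrictScalars.{u} φ
  haveI : tA.Additive := tilde_additive (CommRingCat.of A)
  haveI : PreservesFiniteColimits tA := tilde_preservesFiniteColimits (CommRingCat.of A)
  haveI : PreservesFiniteLimits tA := ‹PreservesFiniteLimits (tilde.functor (CommRingCat.of A))›
  haveI : tB.Additive := tilde_additive (CommRingCat.of B)
  haveI : PreservesFiniteColimits tB := tilde_preservesFiniteColimits (CommRingCat.of B)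
  haveI : PreservesFiniteLimits tB := ‹PreservesFiniteLimits (tilde.functor (CommRingCat.of B))›
  haveI : (rS ⋙ tA).Additive := inferInstance
  haveI : (tB ⋙ Scheme.Modules.pushforward f).Additive := inferInstance
  let η := (DCoh.pushKh f).totalRightDerivedUnit DerivedCategory.Qh
    (HomotopyCategory.quasiIso (Spec (CommRingCat.of B)).Modules (ComplexShape.up ℤ))
  haveI : IsIso (Functor.whiskerLeft (tB.mapHomotopyCategory (ComplexShape.up ℤ)) η) := by
    haveI : ∀ X, IsIso ((Functor.whiskerLeft (tB.mapHomotopyCategory (ComplexShape.up ℤ)) η).app X) := fun X => by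
      obtain ⟨W, rfl⟩ := HomotopyCategory.quotient_obj_surjective X
      exact isIso_Rpush_unit_affine f ((tB.mapHomologicalComplex (ComplexShape.up ℤ)).obj W) fun n =>
        TensorMod.isQCoh_of_iso (Iso.refl ((tilde.functor (CommRingCat.of B)).obj (W.X n))) ((isQuasicoherent_iff_isIso_fromTildeΓ _).2 (isIso_fromTildeΓ_iff.2 ((tilde.functor (CommRingCat.of B)).obj_mem_essImage _)))
    exact NatIso.isIso_of_isIso_app _
  let e₁ : DerivedCategory.Qh ⋙ DRing.restrictD φ ⋙ DCoh.tildeD (CommRingCat.of A) ≅
      (rS ⋙ tA).mapHomotopyCategory (ComplexShape.up ℤ) ⋙ DerivedCategory.Qh :=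
    (Functor.associator _ _ _).symm ≪≫
      Functor.isoWhiskerRight rS.mapDerivedCategoryFactorsh (DCoh.tildeD (CommRingCat.of A)) ≪≫
      Functor.associator _ _ _ ≪≫ Functor.isoWhiskerLeft _ tA.mapDerivedCategoryFactorsh ≪≫
      (Functor.associator _ _ _).symm ≪≫ Functor.isoWhiskerRight (mapHomotopyCompIso rS tA) DerivedCategory.Qh
  let e₂ : DerivedCategory.Qh ⋙ DCoh.tildeD (CommRingCat.of B) ⋙ DCoh.Rpush f ≅
      (tB ⋙ Scheme.Modules.pushforward f).mapHomotopyCategory (ComplexShape.up ℤ) ⋙ DerivedCategory.Qh :=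
    (Functor.associator _ _ _).symm ≪≫ Functor.isoWhiskerRight tB.mapDerivedCategoryFactorsh (DCoh.Rpush f) ≪≫
      Functor.associator _ _ _ ≪≫
      (asIso (Functor.whiskerLeft (tB.mapHomotopyCategory (ComplexShape.up ℤ)) η)).symm ≪≫
      (Functor.associator _ _ _).symm ≪≫
      Functor.isoWhiskerRight (mapHomotopyCompIso tB (Scheme.Modules.pushforward f)) DerivedCategory.Qh
  let e : DerivedCategory.Qh ⋙ DRing.restrictD φ ⋙ DCoh.tildeD (CommRingCat.of A) ≅
      DerivedCategory.Qh ⋙ DCoh.tildeD (CommRingCat.of B) ⋙ DCoh.Rpush f :=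
    e₁ ≪≫ Functor.isoWhiskerRight (mapHomotopyIso (pushTildeIso (CommRingCat.ofHom φ))) DerivedCategory.Qh ≪≫ e₂.symm
  letI : Localization.Lifting (DerivedCategory.Qh (C := ModuleCat.{u} B))
      (HomotopyCategory.quasiIso (ModuleCat.{u} B) (ComplexShape.up ℤ))
      (DerivedCategory.Qh ⋙ DRing.restrictD φ ⋙ DCoh.tildeD (CommRingCat.of A))
      (DRing.restrictD φ ⋙ DCoh.tildeD (CommRingCat.of A)) := ⟨Iso.refl _⟩
  letI : Localization.Lifting (DerivedCategory.Qh (C := ModuleCat.{u} B))
      (HomotopyCategory.quasiIso (ModuleCat.{u} B) (ComplexShape.up ℤ))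
      (DerivedCategory.Qh ⋙ DCoh.tildeD (CommRingCat.of B) ⋙ DCoh.Rpush f)
      (DCoh.tildeD (CommRingCat.of B) ⋙ DCoh.Rpush f) := ⟨Iso.refl _⟩
  exact ⟨(Localization.liftNatIso DerivedCategory.Qh (HomotopyCategory.quasiIso (ModuleCat.{u} B) (ComplexShape.up ℤ))
    _ _ _ _ e).symm⟩

end Groth.Agent.DCohBridge
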