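import Groth.Agent.DerCat.TruncLim
import Groth.Agent.QCohBase.Acyclic
import Groth.Agent.QCohBase.Exact
import Groth.Agent.FlasqueAcyclic.Cech
import Groth.Agent.FlasqueAcyclic.InjectiveModule
import Groth.Agent.SiteBase.PullTensor.Iso
import Groth.Agent.RPushQCoh.Qcoh
import Mathlib.Algebra.Homology.DerivedCategory.KInjective
import Mathlib.Algebra.Homology.DerivedCategory.SingleTriangle
import Groth.Prelude.Def_DCoh2

/-!
Quasi-coherent modules have no higher extensions from free modules on affine opens.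
-/

set_option backward.isDefEq.respectTransparency false
set_option backward.defeqAttrib.useBackward true

noncomputable section

universe u

open CategoryTheory Limits AlgebraicGeometry Opposite DerivedCategory Pretriangulated TopologicalSpace

attribute [local instance] HasDerivedCategory.standard

namespace Groth.Agent.DCohBridge

variable {X : Scheme.{u}}

/-- The free module on an open. -/
abbrev freeU (U : X.Opens) : X.Modules := ModSite.freeOn X.sheaf U

lemma hom_eq_zero_of_isKInjective {C : Type*} [Category* C] [Abelian C] [HasDerivedCategory C] (G I : C)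
    [Injective I] (p : ℤ) (hp : p ≠ 0)
    (ξ : (singleFunctor C 0).obj G ⟶ ((singleFunctor C 0).obj I)⟦p⟧) : ξ = 0 := by
  let K := (CochainComplex.singleFunctor C 0).obj I
  haveI : ∀ n, Injective (K.X n) := fun n => by
    by_cases hn : n = 0
    · subst hn
      exact Injective.of_iso (HomologicalComplex.singleObjXSelf (ComplexShape.up ℤ) 0 I).symm inferInstance
    · exact (HomologicalComplex.isZero_single_obj_X (ComplexShape.up ℤ) 0 I n hn).injective
  haveI : K.IsKInjective := CochainComplex.isKInjective_of_injective K 0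
  haveI : (K⟦p⟧).IsKInjective := inferInstance
  let e : Q.obj (K⟦p⟧) ≅ ((singleFunctor C 0).obj I)⟦p⟧ := (Q.commShiftIso p).app K
  obtain ⟨f, hf⟩ := DerCat.Q_map_surjective (K := (CochainComplex.singleFunctor C 0).obj G) (L := K⟦p⟧)
    (ξ ≫ e.inv)
  have : f = 0 := HomologicalComplex.from_single_hom_ext (IsZero.eq_of_tgt
    (HomologicalComplex.isZero_single_obj_X (ComplexShape.up ℤ) 0 I (0 + p) (by omega)) _ _)
  rw [this, Functor.map_zero] at hf
  rw [← cancel_mono e.inv, zero_comp]
  exact hf.symm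

/-- The modules acyclic on affine opens. -/
def IsAffAcyclic (M : X.Modules) : Prop := (QCohBase.affineSystem X).Acyclic (Coh.toAb M)

lemma isAffAcyclic_cokernel {T : ShortComplex X.Modules} (hT : T.ShortExact) (h₁ : IsAffAcyclic T.X₁)
    [Injective T.X₂] : IsAffAcyclic T.X₃ := by
  intro U ι V hU hV p
  haveI := FlasqueAcyclic.isFlasque_toAb T.X₂
  have h := QCohBase.CovSystem.cech_shortExact (QCohBase.toAb_shortExact hT) h₁ V
    ((QCohBase.affineSystem X).inter_mem hV)
  rw [HomologicalComplex.exactAt_iff_isZero_homology]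
  refine (h.homology_exact₃ (p + 1) (p + 2) rfl).isZero_of_both_zeros ?_ ?_
  · exact ((HomologicalComplex.exactAt_iff_isZero_homology _ _).1
      (FlasqueAcyclic.cechAcyclic_of_isFlasque V (Coh.toAb T.X₂) p)).eq_zero_of_src _
  · exact ((HomologicalComplex.exactAt_iff_isZero_homology _ _).1 (h₁ hU hV (p + 1))).eq_zero_of_tgt _

lemma exists_lift_freeU {T : ShortComplex X.Modules} (hT : T.ShortExact) (h₁ : IsAffAcyclic T.X₁)
    {U : X.Opens} (hU : IsAffineOpen U) (a : freeU U ⟶ T.X₃) : ∃ b : freeU U ⟶ T.X₂, b ≫ T.g = a := by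
  obtain ⟨t, ht⟩ := QCohBase.CovSystem.sections_surjective (S := QCohBase.affineSystem X)
    (QCohBase.toAb_shortExact hT) h₁ hU (SiteBase.freeOnEquiv (O := X.sheaf) U T.X₃ a)
  refine ⟨(SiteBase.freeOnEquiv (O := X.sheaf) U T.X₂).symm t,
    (SiteBase.freeOnEquiv (O := X.sheaf) U T.X₃).injective ?_⟩
  rw [SiteBase.PullTensor.freeOnEquiv_comp]
  exact (congrArg (T.g.val.app (op U)) (AddEquiv.apply_symm_apply _ t)).trans ht

theorem acyc_of_isAffAcyclic {U : X.Opens} (hU : IsAffineOpen U) :
    ∀ (k : ℕ) (M : X.Modules), IsAffAcyclic M →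
      ∀ ξ : (singleFunctor X.Modules 0).obj (freeU U) ⟶
        ((singleFunctor X.Modules 0).obj M)⟦((k : ℤ) + 1)⟧, ξ = 0 := by
  intro k
  induction k with
  | zero =>
    intro M hM ξ
    let T : ShortComplex X.Modules :=
      ShortComplex.mk (Injective.ι M) (cokernel.π (Injective.ι M)) (cokernel.condition _)
    have hT : T.ShortExact := { exact := ShortComplex.exact_of_g_is_cokernel _ (cokernelIsCokernel _) }
    obtain ⟨ζ, hζ⟩ := Triangle.coyoneda_exact₁ _ hT.singleTriangle_distinguished ξ
      (hom_eq_zero_of_isKInjective (freeU U) (Injective.under M) 1 one_ne_zero _)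
    obtain ⟨a, rfl⟩ := (singleFunctor X.Modules 0).map_surjective ζ
    obtain ⟨b, rfl⟩ := exists_lift_freeU hT hM hU a
    rw [hζ, Functor.map_comp]
    exact (Category.assoc _ _ _).trans ((congrArg ((singleFunctor X.Modules 0).map b ≫ ·)
      (comp_distTriang_mor_zero₂₃ _ hT.singleTriangle_distinguished)).trans comp_zero)
  | succ k ih =>
    intro M hM ξ
    let T : ShortComplex X.Modules :=
      ShortComplex.mk (Injective.ι M) (cokernel.π (Injective.ι M)) (cokernel.condition _)
    have hT : T.ShortExact := { exact := ShortComplex.exact_of_g_is_cokernel _ (cokernelIsCokernel _) }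
    haveI : Injective T.X₂ := inferInstanceAs (Injective (Injective.under M))
    have hd := Triangle.shift_distinguished _ hT.singleTriangle_distinguished ((k : ℤ) + 1)
    let e := (shiftFunctorAdd' (DerivedCategory X.Modules) ((k : ℤ) + 1) 1 (((k + 1 : ℕ) : ℤ) + 1)
      (by omega)).app ((singleFunctor X.Modules 0).obj M)
    obtain ⟨ζ, hζ⟩ := Triangle.coyoneda_exact₁ _ hd (ξ ≫ e.hom) (by
      let e₂ := (shiftFunctorAdd' (DerivedCategory X.Modules) ((k : ℤ) + 1) 1 (((k + 1 : ℕ) : ℤ) + 1)
        (by omega)).app ((singleFunctor X.Modules 0).obj (Injective.under M))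
      rw [← cancel_mono e₂.inv, zero_comp]
      exact hom_eq_zero_of_isKInjective (freeU U) (Injective.under M) _ (by omega) _)
    rw [← cancel_mono e.hom, zero_comp, hζ, show ζ = 0 from ih _ (isAffAcyclic_cokernel hT hM) ζ]
    exact zero_comp

/-- No higher extensions from affine opens to quasi-coherent modules. -/
theorem acyc_of_isQCoh {U : X.Opens} (hU : IsAffineOpen U) (M : X.Modules) [Coh.IsQCoh M] :
    DerCat.TruncLim.Acyc (freeU U) M := fun p hp => by
  obtain ⟨k, rfl⟩ : ∃ k : ℕ, p = (k : ℤ) + 1 := ⟨(p - 1).toNat, by omega⟩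
  exact acyc_of_isAffAcyclic hU k M (QCohBase.acyclic_of_isQCoh M)

/-- The affine opens. -/
abbrev AffOpen (X : Scheme.{u}) : Type u := {U : X.Opens // IsAffineOpen U}

theorem acycD_of_isQCohD {K : DCoh.D X} (hK : DCoh.IsQCohD K) (U : AffOpen X) :
    DerCat.TruncLim.AcycD (freeU U.1) K := fun q =>
  haveI : Coh.IsQCoh ((DerivedCategory.homologyFunctor X.Modules q).obj K) := hK q
  acyc_of_isQCoh U.2 _

/-- The free modules on affine opens detect zero maps. -/
theorem eq_zero_of_freeU {M N : X.Modules} (f : M ⟶ N)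
    (h : ∀ (U : AffOpen X) (g : freeU U.1 ⟶ M), g ≫ f = 0) : f = 0 := by
  apply Scheme.Modules.hom_ext
  intro V
  ext s
  obtain ⟨ι, W, hW, hV⟩ : ∃ (ι : Type u) (W : ι → X.Opens), (∀ i, IsAffineOpen (W i)) ∧ V = iSup W := by
    have := X.isBasis_affineOpens
    obtain ⟨S, hS, rfl⟩ := Opens.isBasis_iff_cover.1 this V
    exact ⟨S, fun i => i.1, fun i => hS i.2, sSup_eq_iSup' S⟩
  refine TopCat.Sheaf.eq_of_locally_eq' (C := AddCommGrpCat.{u}) (⟨N.presheaf, N.isSheaf⟩) W V
    (fun i => homOfLE (hV ▸ le_iSup W i)) hV.le _ _ fun i => ?_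
  let r : M.presheaf.obj (op (W i)) := M.presheaf.map (homOfLE (hV ▸ le_iSup W i : W i ≤ V)).op s
  have h0 := congrArg (SiteBase.freeOnEquiv (O := X.sheaf) (W i) N)
    (h ⟨W i, hW i⟩ ((SiteBase.freeOnEquiv (O := X.sheaf) (W i) M).symm r))
  rw [SiteBase.PullTensor.freeOnEquiv_comp, AddEquiv.apply_symm_apply, map_zero] at h0
  refine Eq.trans ?_ (map_zero (N.presheaf.map (homOfLE (hV ▸ le_iSup W i : W i ≤ V)).op).hom).symm
  exact (ConcreteCategory.congr_hom (((Scheme.Modules.toPresheaf X).map f).naturality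
    (homOfLE (hV ▸ le_iSup W i : W i ≤ V)).op) s).symm.trans h0

end Groth.Agent.DCohBridge
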