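import Groth.Agent.FlatComplex.Rank
import Mathlib.Algebra.Category.ModuleCat.ChangeOfRings
import Mathlib.Algebra.Homology.HomologicalComplex
import Mathlib.Algebra.BigOperators.Finprod
import Mathlib.LinearAlgebra.Dimension.Constructions

/-!
Fibre dimensions of a complex of finite free modules.
-/

set_option backward.isDefEq.respectTransparency false

universe u

open CategoryTheory CategoryTheory.Limits TensorProduct

namespace Groth.Agent.DCohBridge

variable {A : Type u} [CommRing A]

lemma extendScalars_equiv {K : Type u} [CommRing K] (φ : A →+* K) (M : ModuleCat.{u} A) :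
    letI := φ.toAlgebra
    ∃ e : (K ⊗[A] M) ≃ₗ[K] (ModuleCat.extendScalars.{u, u, u} φ).obj M, ∀ x, e x = x := by
  letI : Algebra A K := φ.toAlgebra
  refine ⟨{ AddEquiv.refl (K ⊗[A] M) with map_smul' := fun c x => ?_ }, fun x => rfl⟩
  induction x using TensorProduct.induction_on with
  | zero => exact (congrArg (AddEquiv.refl (K ⊗[A] M)) (smul_zero c)).trans (by
      exact (@smul_zero K ((ModuleCat.extendScalars.{u, u, u} φ).obj M) _
        (inferInstance : DistribSMul K ((ModuleCat.extendScalars.{u, u, u} φ).obj M)).toSMulZeroClass c).symm)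
  | tmul b n => rfl
  | add x y hx hy =>
    exact (smul_add c x y).trans ((congrArg₂ (· + ·) hx hy).trans (smul_add c x y).symm)

/-- The cokernel of the differential into degree `i`. -/
abbrev Coker (M : CochainComplex (ModuleCat.{u} A) ℤ) (i : ℤ) : Type u :=
  M.X i ⧸ LinearMap.range (M.d (i - 1) i).hom

/-- `dim` of a base change to a field only depends on the prime. -/
lemma finrank_tensor_field (C : Type u) [AddCommGroup C] [Module A C] (p : PrimeSpectrum A)
    (K : Type u) [Field K] [Algebra A K] (hK : RingHom.ker (algebraMap A K) = p.asIdeal) :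
    Module.finrank K (K ⊗[A] C) = FlatComplex.fiberDim C p := by
  let l : p.asIdeal.ResidueField →+* K := Ideal.ResidueField.lift p.asIdeal (algebraMap A K) hK.ge
    (fun a ha => isUnit_iff_ne_zero.2 fun h => ha (hK ▸ RingHom.mem_ker.2 h))
  letI : Algebra p.asIdeal.ResidueField K := l.toAlgebra
  haveI : IsScalarTower A p.asIdeal.ResidueField K := IsScalarTower.of_algebraMap_eq fun a => by
    exact (Ideal.ResidueField.lift_algebraMap _ _ _ _ a).symm
  rw [← (TensorProduct.AlgebraTensorModule.cancelBaseChange A p.asIdeal.ResidueField K K C).finrank_eq,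
    Module.finrank_baseChange]
  rfl

variable (M : CochainComplex (ModuleCat.{u} A) ℤ) (hfin : ∀ i, Module.Finite A (M.X i))
  (hfree : ∀ i, Module.Free A (M.X i))

include hfin hfree in
/-- `dim H^i + n_{i+1} = c_i + c_{i+1}` on a fibre. -/
theorem finrank_fibre_homology_add (p : PrimeSpectrum A) (K : Type u) [Field K] (φ : A →+* K)
    (hφ : RingHom.ker φ = p.asIdeal) (i : ℤ) :
    Module.finrank K ((((ModuleCat.extendScalars.{u, u, u} φ).mapHomologicalComplex (ComplexShape.up ℤ)).obj M).homology i)
      + Module.finrank A (M.X (i + 1)) =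
      FlatComplex.fiberDim (Coker M i) p + FlatComplex.fiberDim (Coker M (i + 1)) p := by
  haveI := hfin
  haveI := hfree
  haveI : Nontrivial A := (φ.domain_nontrivial)
  letI : Algebra A K := φ.toAlgebra
  let N := ((ModuleCat.extendScalars.{u, u, u} φ).mapHomologicalComplex (ComplexShape.up ℤ)).obj M
  have hex : ∀ j, ∃ e : (K ⊗[A] M.X j) ≃ₗ[K] N.X j, ∀ x, e x = x := fun j => extendScalars_equiv φ (M.X j)
  choose e he using hex
  have hcomm : ∀ j j' (x : K ⊗[A] M.X j), (N.d j j').hom (e j x) = e j' ((M.d j j').hom.baseChange K x) :=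
    fun j j' x => by rw [he, he]; rfl
  have hrange : ∀ j j', (LinearMap.range ((M.d j j').hom.baseChange K)).map
      ((e j' : (K ⊗[A] M.X j') →ₗ[K] N.X j')) = LinearMap.range (N.d j j').hom := fun j j' => by
    ext z
    constructor
    · rintro ⟨_, ⟨w, rfl⟩, rfl⟩
      exact ⟨e j w, hcomm j j' w⟩
    · rintro ⟨w, rfl⟩
      obtain ⟨w, rfl⟩ := (e j).surjective w
      exact ⟨_, ⟨w, rfl⟩, (hcomm j j' w).symm⟩
  let S := N.sc' (i - 1) i (i + 1)
  have : Module.Finite K S.X₂ := Module.Finite.equiv (e i)
  have : Module.Finite K S.X₃ := Module.Finite.equiv (e (i + 1))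
  have h1 : Module.finrank K S.X₃ = Module.finrank A (M.X (i + 1)) :=
    (e (i + 1)).finrank_eq.symm.trans Module.finrank_baseChange
  have h2 := FlatComplex.finrank_homology_add S
  have e0 : N.homology i ≅ S.homology := N.homologyIsoSc' (i - 1) i (i + 1) (by simp) (by simp)
  have hK : RingHom.ker (algebraMap A K) = p.asIdeal := hφ
  have hq : ∀ j j', j + 1 = j' → Module.finrank K (N.X j' ⧸ LinearMap.range (N.d j j').hom) =
      FlatComplex.fiberDim (Coker M j') p := fun j j' hjj => by
    obtain rfl : j = j' - 1 := by lia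
    rw [← (Submodule.Quotient.equiv _ _ (e j') (hrange (j' - 1) j')).finrank_eq,
      FlatComplex.finrank_baseChange_quotient, finrank_tensor_field (Coker M j') p K hK]
  have ha := hq (i - 1) i (by lia)
  have hb := hq i (i + 1) rfl
  have h0 := e0.toLinearEquiv.finrank_eq
  change Module.finrank K S.homology + Module.finrank K S.X₃ =
    Module.finrank K (N.X i ⧸ LinearMap.range (N.d (i - 1) i).hom) +
      Module.finrank K (N.X (i + 1) ⧸ LinearMap.range (N.d i (i + 1)).hom) at h2
  change Module.finrank K (N.homology i) + _ = _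
  omega

include hfin in
lemma exists_nhds_coker_le (p : PrimeSpectrum A) (i : ℤ) :
    ∃ U : Set (PrimeSpectrum A), IsOpen U ∧ p ∈ U ∧
      ∀ q ∈ U, FlatComplex.fiberDim (Coker M i) q ≤ FlatComplex.fiberDim (Coker M i) p :=
  haveI := hfin i
  FlatComplex.exists_nhds_fiberDim_le (Coker M i) p

/-- The alternating sum telescopes. -/
theorem finsum_negOnePow_eq {a b : ℤ} (β c n : ℤ → ℕ) (hc : ∀ i, i < a ∨ b < i → c i = 0)
    (hn : ∀ i, i < a ∨ b < i → n i = 0) (h : ∀ i, β i + n (i + 1) = c i + c (i + 1)) :
    (finsum fun i : ℤ => (i.negOnePow : ℤ) * (β i : ℤ)) = finsum fun i : ℤ => (i.negOnePow : ℤ) * (n i : ℤ) := by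
  classical
  let f : ℤ → ℤ := fun i => (i.negOnePow : ℤ) * (c i : ℤ)
  let g : ℤ → ℤ := fun i => (i.negOnePow : ℤ) * (n i : ℤ)
  have hsupp : ∀ (d : ℤ → ℕ), (∀ i, i < a ∨ b < i → d i = 0) → ∀ k : ℤ,
      (Function.support fun i : ℤ => ((i + k).negOnePow : ℤ) * (d (i + k) : ℤ)).Finite := fun d hd k =>
    (Set.finite_Icc (a - k) (b - k)).subset fun i hi => by
      simp only [Function.mem_support] at hi
      by_contra hni
      simp only [Set.mem_Icc, not_and_or, not_le] at hni
      exact hi (by rw [hd (i + k) (by lia)]; simp)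
  have hf : ∀ k : ℤ, (Function.support fun i => f (i + k)).Finite := hsupp c hc
  have hg : ∀ k : ℤ, (Function.support fun i => g (i + k)).Finite := hsupp n hn
  have hpt : (fun i : ℤ => (i.negOnePow : ℤ) * (β i : ℤ)) = fun i => f (i + 0) - f (i + 1) + g (i + 1) := by
    funext i
    have hi : ((β i : ℤ)) + n (i + 1) = c i + c (i + 1) := by exact_mod_cast h i
    simp only [f, g, add_zero, Int.negOnePow_succ, Units.val_neg]
    linear_combination (i.negOnePow : ℤ) * hi
  have hshift : ∀ (F : ℤ → ℤ) (k : ℤ), (finsum fun i => F (i + k)) = finsum F := fun F k =>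
    finsum_comp_equiv (Equiv.addRight k)
  have hsub : (Function.support fun i => f (i + 0) - f (i + 1)).Finite :=
    ((hf 0).union (hf 1)).subset (Function.support_sub _ _)
  rw [hpt, finsum_add_distrib hsub (hg 1), finsum_sub_distrib (hf 0) (hf 1), hshift f 0, hshift f 1, hshift g 1,
    sub_self, zero_add]

end Groth.Agent.DCohBridge
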