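import Groth.Agent.DCohBridge.TorAmp
import Groth.Agent.DerCat.CoverResolution
import Mathlib.Algebra.Homology.DerivedCategory.HomologySequence
import Mathlib.Algebra.Homology.DerivedCategory.Fractions
import Mathlib.RingTheory.Flat.Stability

/-!
Consequences: tor amplitude in triangles, flat modules, derived pullback.
-/

set_option backward.isDefEq.respectTransparency false
set_option backward.defeqAttrib.useBackward true

universe u

open CategoryTheory MonoidalCategory Limits Opposite TopologicalSpace AlgebraicGeometry Pretriangulated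

attribute [local instance] HasDerivedCategory.standard

namespace Groth.Agent.DCohBridge

variable {X Y : Scheme.{u}}

/-- A map in the derived category is represented by a map of K-flat complexes. -/
lemma exists_kFlat_rep {K L : DCoh.D X} (m : K ⟶ L) :
    ∃ (A B : CochainComplex X.Modules ℤ) (b : A ⟶ B) (eA : DCoh.toD X A ≅ K) (eB : DCoh.toD X B ≅ L),
      DCoh.IsKFlat A ∧ DCoh.IsKFlat B ∧ DerivedCategory.Q.map b ≫ eB.hom = eA.hom ≫ m := by
  obtain ⟨G, ⟨eG⟩⟩ : ∃ G, Nonempty (DCoh.toD X G ≅ K) := ⟨_, ⟨DerivedCategory.Q.objObjPreimageIso K⟩⟩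
  obtain ⟨G', ⟨eG'⟩⟩ : ∃ G, Nonempty (DCoh.toD X G ≅ L) := ⟨_, ⟨DerivedCategory.Q.objObjPreimageIso L⟩⟩
  obtain ⟨B, qB, hB, -, hqB, -⟩ := SiteBase.KFlat.exists_resolution (O := X.sheaf) G'
  let eB : DCoh.toD X B ≅ L := @asIso _ _ _ _ (DerivedCategory.Q.map qB) inferInstance ≪≫ eG'
  obtain ⟨A', s, hs, g, hg⟩ := DerivedCategory.right_fac (eG.hom ≫ m ≫ eB.inv)
  obtain ⟨A, qA, hA, -, hqA, -⟩ := SiteBase.KFlat.exists_resolution (O := X.sheaf) A'
  refine ⟨A, B, qA ≫ g, @asIso _ _ _ _ (DerivedCategory.Q.map qA) inferInstance ≪≫ asIso (DerivedCategory.Q.map s) ≪≫ eG,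
    eB, hA, hB, ?_⟩
  have hg' : DerivedCategory.Q.map g ≫ eB.hom = DerivedCategory.Q.map s ≫ eG.hom ≫ m := by
    have h' := congrArg (fun t => DerivedCategory.Q.map s ≫ t ≫ eB.hom) hg
    simpa using h'.symm
  simp [hg']

/-- The homology of a derived tensor product with a K-flat complex. -/
noncomputable def HDTensorIso (F : X.Modules) [DCoh.HasLTensorMod F] {A : CochainComplex X.Modules ℤ}
    (hA : DCoh.IsKFlat A) {K : DCoh.D X} (eA : DCoh.toD X A ≅ K) (i : ℤ) :
    DCoh.HD ((DCoh.LTensorMod F).obj K) i ≅ DCoh.HD (DCoh.toD X ((tensModCx F).obj A)) i :=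
  (DerivedCategory.homologyFunctor X.Modules i).mapIso
    ((DCoh.LTensorMod F).mapIso eA.symm ≪≫ LTensorModIso F hA)

/-- The long exact sequence of derived tensor products, as vanishing criteria. -/
theorem isZero_HD_of_triangle (F : X.Modules) [DCoh.HasLTensorMod F] (T : Triangle (DCoh.D X))
    (hT : T ∈ distinguishedTriangles) (i : ℤ) :
    (IsZero (DCoh.HD ((DCoh.LTensorMod F).obj T.obj₂) i) →
      IsZero (DCoh.HD ((DCoh.LTensorMod F).obj T.obj₁) (i + 1)) →
      IsZero (DCoh.HD ((DCoh.LTensorMod F).obj T.obj₃) i)) ∧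
    (IsZero (DCoh.HD ((DCoh.LTensorMod F).obj T.obj₁) i) →
      IsZero (DCoh.HD ((DCoh.LTensorMod F).obj T.obj₃) i) →
      IsZero (DCoh.HD ((DCoh.LTensorMod F).obj T.obj₂) i)) ∧
    (IsZero (DCoh.HD ((DCoh.LTensorMod F).obj T.obj₂) (i + 1)) →
      IsZero (DCoh.HD ((DCoh.LTensorMod F).obj T.obj₃) i) →
      IsZero (DCoh.HD ((DCoh.LTensorMod F).obj T.obj₁) (i + 1))) := by
  obtain ⟨A, B, b, eA, eB, hA, hB, hb⟩ := exists_kFlat_rep T.mor₁
  have hC : DCoh.IsKFlat (CochainComplex.mappingCone b) := SiteBase.KFlat.isKFlat_cone (O := X.sheaf) b hA hB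
  obtain ⟨c, hc₁, hc₂⟩ := complete_distinguished_triangle_morphism _ _
    (DerivedCategory.mappingCone_triangle_distinguished b) hT eA.hom eB.hom hb
  haveI : IsIso c := isIso₃_of_isIso₁₂
    ({ hom₁ := eA.hom, hom₂ := eB.hom, hom₃ := c, comm₁ := hb, comm₂ := hc₁, comm₃ := hc₂ } :
      DerivedCategory.Q.mapTriangle.obj (CochainComplex.mappingCone.triangle b) ⟶ T)
    (DerivedCategory.mappingCone_triangle_distinguished b) hT inferInstance inferInstance
  let φ := (tensModCx F).map b
  let eC : DCoh.toD X ((tensModCx F).obj (CochainComplex.mappingCone b)) ≅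
      DCoh.toD X (CochainComplex.mappingCone φ) :=
    DerivedCategory.Q.mapIso (CochainComplex.mappingCone.mapHomologicalComplexIso b (DCoh.tensorRightMod F))
  have hd := DerivedCategory.mappingCone_triangle_distinguished φ
  let H1 := fun j => HDTensorIso F hA eA j
  let H2 := fun j => HDTensorIso F hB eB j
  let H3 := fun j => HDTensorIso F hC (@asIso _ _ _ _ c inferInstance) j ≪≫
    (DerivedCategory.homologyFunctor X.Modules j).mapIso eC
  refine ⟨fun h2 h1 => IsZero.of_iso ?_ (H3 i), fun h1 h3 => IsZero.of_iso ?_ (H2 i),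
    fun h2 h3 => IsZero.of_iso ?_ (H1 (i + 1))⟩
  · exact (DerivedCategory.HomologySequence.exact₃ _ hd i (i + 1)).isZero_of_both_zeros
      ((h2.of_iso (H2 i).symm).eq_of_src _ _) ((h1.of_iso (H1 (i + 1)).symm).eq_of_tgt _ _)
  · exact (DerivedCategory.HomologySequence.exact₂ _ hd i).isZero_of_both_zeros
      ((h1.of_iso (H1 i).symm).eq_of_src _ _) ((h3.of_iso (H3 i).symm).eq_of_tgt _ _)
  · exact (DerivedCategory.HomologySequence.exact₁ _ hd i (i + 1)).isZero_of_both_zeros
      ((h3.of_iso (H3 i).symm).eq_of_src _ _) ((h2.of_iso (H2 (i + 1)).symm).eq_of_tgt _ _)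

/-- A flat module, as a complex. -/
theorem hasFlatAmplitudeIn_inD {F : X.Modules} (h : FlatMod.IsFlat F) :
    DCoh.HasFlatAmplitudeIn 0 0 (DCoh.inD X F) := by
  refine ⟨(CochainComplex.singleFunctor X.Modules 0).obj F, fun i hi => ?_, fun i => ?_,
    ⟨((DerivedCategory.singleFunctorIsoCompQ X.Modules 0).app F).symm⟩⟩
  · exact HomologicalComplex.isZero_single_obj_X (ComplexShape.up ℤ) 0 F i (by omega)
  · by_cases hi : i = 0
    · subst hi
      exact isFlat_of_iso (HomologicalComplex.singleObjXSelf (ComplexShape.up ℤ) 0 F).symm h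
    · exact isFlat_of_isZero (HomologicalComplex.isZero_single_obj_X (ComplexShape.up ℤ) 0 F i hi)

/-- A module is flat if the first tor sheaves vanish. -/
theorem isFlat_of_tor_one {F : X.Modules}
    (h : ∀ (G : X.Modules) [DCoh.HasLTensorMod G],
      IsZero (DCoh.HD ((DCoh.LTensorMod G).obj (DCoh.inD X F)) (-1))) :
    FlatMod.IsFlat F := by
  let P : ObjectProperty X.Modules := fun M => FlatMod.IsFlat M
  haveI : P.IsClosedUnderIsomorphisms := ⟨fun e hM => isFlat_of_iso e hM⟩
  obtain ⟨E, q, hq, hfl, hz⟩ := DerCat.exists_cover_resolution P (fun M => by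
    obtain ⟨G, π, hG, hπ⟩ := SiteBase.exists_flat_quotient (O := X.sheaf) M
    exact ⟨G, π, isFlat_of_siteFlat hG, hπ⟩) (fun Z hZ => isFlat_of_isZero hZ) F
  have hK := isKFlat_of_bddAbove_flat 0 hz hfl
  let e : DCoh.toD X E ≅ DCoh.inD X F := @asIso _ _ _ _ (DerivedCategory.Q.map q) inferInstance ≪≫
    ((DerivedCategory.singleFunctorIsoCompQ X.Modules 0).app F).symm
  have hex : ∀ G : X.Modules, ((tensModCx G).obj E).ExactAt (-1) := fun G => by
    haveI := hasLTensorMod G
    exact (isZero_HD_iff _ _).1 ((h G).of_iso ((DerivedCategory.homologyFunctor X.Modules (-1)).mapIso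
      ((DCoh.LTensorMod G).mapIso e.symm ≪≫ LTensorModIso G hK)).symm)
  have hc : FlatMod.IsFlat (cokernel (E.d (-1) 0)) := isFlat_cokernel_next (by norm_num) hex hfl
  haveI : IsIso (E.homologyι 0) :=
    E.isIso_homologyι 0 1 (by simp) ((hz 1 (by omega)).eq_of_tgt _ _)
  haveI : IsIso (HomologicalComplex.homologyMap q 0) := inferInstance
  exact isFlat_of_iso ((IsColimit.coconePointUniqueUpToIso (E.opcyclesIsCokernel (-1) 0 (by simp))
      (cokernelIsCokernel (E.d (-1) 0))).symm ≪≫ (asIso (E.homologyι 0)).symm ≪≫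
    asIso (HomologicalComplex.homologyMap q 0) ≪≫
    HomologicalComplex.singleObjHomologySelfIso (ComplexShape.up ℤ) 0 F) hc

variable (f : X ⟶ Y)

/-- The derived pullback of a K-flat complex. -/
noncomputable def LpullIso [DCoh.HasLpull f] {E : CochainComplex Y.Modules ℤ} (hE : DCoh.IsKFlat E) :
    (DCoh.Lpull f).obj (DCoh.toD Y E) ≅ DCoh.toD X ((pullCx f).obj E) :=
  haveI := isIso_Lpull_counit f hE
  (DCoh.Lpull f).mapIso ((DerivedCategory.quotientCompQhIso Y.Modules).app E).symm ≪≫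
    asIso (((DCoh.pullKh f).totalLeftDerivedCounit DerivedCategory.Qh
      (HomotopyCategory.quasiIso Y.Modules (ComplexShape.up ℤ))).app
        ((HomotopyCategory.quotient Y.Modules (ComplexShape.up ℤ)).obj E)) ≪≫
    DerivedCategory.Qh.mapIso (((Scheme.Modules.pullback f).mapHomotopyCategoryFactors (ComplexShape.up ℤ)).app E) ≪≫
    (DerivedCategory.quotientCompQhIso X.Modules).app _

/-- Pullbacks of flat modules are flat. -/
theorem isFlat_pullback {M : Y.Modules} (h : FlatMod.IsFlat M) :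
    FlatMod.IsFlat ((Scheme.Modules.pullback f).obj M) := fun x => by
  haveI h1 : Module.Flat (Y.presheaf.stalk (f.base x)) ((DerSch.stalkFunctor Y (f.base x)).obj M) := h _
  haveI h2 : Module.Flat (X.presheaf.stalk x) ((extSt f x).obj ((DerSch.stalkFunctor Y (f.base x)).obj M)) := by
    letI := (stφ f x).toAlgebra
    exact Module.Flat.baseChange (Y.presheaf.stalk (f.base x)) (X.presheaf.stalk x) _
  haveI h3 : Module.Flat (X.presheaf.stalk x)
      ((DerSch.stalkFunctor Y (f.base x) ⋙ extSt f x).obj M) := h2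
  exact @Module.Flat.of_linearEquiv _ _ _ _ _ _ _ _ h3 ((stalkPullIso f x).app M).toLinearEquiv

/-- Derived pullback preserves flat amplitude. -/
theorem hasFlatAmplitudeIn_Lpull [DCoh.HasLpull f] {K : DCoh.D Y} {a b : ℤ}
    (h : DCoh.HasFlatAmplitudeIn a b K) : DCoh.HasFlatAmplitudeIn a b ((DCoh.Lpull f).obj K) := by
  obtain ⟨E, hv, hfl, ⟨e⟩⟩ := h
  exact ⟨(pullCx f).obj E, fun i hi => (Scheme.Modules.pullback f).map_isZero (hv i hi),
    fun i => isFlat_pullback f (hfl i),
    ⟨(LpullIso f (isKFlat_of_bddAbove_flat b (fun q hq => hv q (Or.inr hq)) hfl)).symm ≪≫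
      (DCoh.Lpull f).mapIso e⟩⟩

end Groth.Agent.DCohBridge
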