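import Groth.Agent.DCohBridge.TildeLocal
import Groth.Agent.DCohBridge.TorAmp2
import Groth.Agent.DCohBridge.StalkTensor
import Groth.Agent.DCohBridge.PullTensorMod
import Groth.Agent.QCohBase.Qcqs

/-!
Tor amplitude of objects with quasi-coherent cohomology, tested on quasi-coherent modules.
-/

set_option backward.isDefEq.respectTransparency false
set_option backward.isDefEq.respectTransparency.types false
set_option backward.defeqAttrib.useBackward true

noncomputable section

universe u

open CategoryTheory MonoidalCategory Limits AlgebraicGeometry Opposite TopologicalSpace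
open scoped TensorProduct

attribute [local instance] HasDerivedCategory.standard

namespace Groth.Agent.DCohBridge

section Stalk

variable {X : Scheme.{u}} (x : X) (F : X.Modules)

/-- The stalk of a tensor product with a module. -/
def stalkTensorModIso (N : X.Modules) :
    (DerSch.stalkFunctor X x).obj ((DCoh.tensorRightMod F).obj N) ≅
      (DerSch.stalkFunctor X x).obj N ⊗ (DerSch.stalkFunctor X x).obj F :=
  stalkTensorIso x N F

lemma stalkTensorModIso_natural {N N' : X.Modules} (b : N ⟶ N') :
    (DerSch.stalkFunctor X x).map ((DCoh.tensorRightMod F).map b) ≫ (stalkTensorModIso x F N').hom =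
      (stalkTensorModIso x F N).hom ≫ (DerSch.stalkFunctor X x).map b ▷ _ := by
  have h := theta_natural x b (𝟙 F)
  rw [CategoryTheory.Functor.map_id, Category.comp_id, CategoryTheory.Functor.map_id, tensorHom_id] at h
  exact h

end Stalk

/-- Exactness of tilde tensored with tilde gives exactness of modules. -/
theorem exactAt_tensorCx_of_tilde {R : CommRingCat.{u}} (P : DRing.Cx R) (M : ModuleCat.{u} R) (i : ℤ)
    (h : ((tensModCx ((tilde.functor R).obj M)).obj ((Affine.TC R).obj P)).ExactAt i) :
    (DRing.tensorCx P M).ExactAt i := by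
  rw [DRingTorAmp.exact_tensor_iff _ _ (i - 1) i (i + 1) (by omega) rfl]
  refine exact_of_stalks R _ _ fun p => ?_
  let φ := tildeφ R p
  letI := φ.toAlgebra
  let S := (Spec (CommRingCat.of R)).presheaf.stalk p
  let St := DerSch.stalkFunctor (Spec (CommRingCat.of R)) p
  let E := ModuleCat.extendScalars.{u, u, u} φ
  let e : ∀ n, St.obj ((DCoh.tensorRightMod ((tilde.functor R).obj M)).obj ((tilde.functor R).obj (P.X n))) ≅
      E.obj (P.X n) ⊗ E.obj M := fun n =>
    stalkTensorModIso p _ _ ≪≫ MonoidalCategory.tensorIso ((stalkTildeIso R p).app (P.X n)) ((stalkTildeIso R p).app M)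
  have he : ∀ a b, St.map ((DCoh.tensorRightMod ((tilde.functor R).obj M)).map ((tilde.functor R).map (P.d a b))) ≫
      (e b).hom = (e a).hom ≫ E.map (P.d a b) ▷ E.obj M := fun a b => by
    have hn : St.map ((tilde.functor R).map (P.d a b)) ≫ (stalkTildeIso R p).hom.app (P.X b) =
        (stalkTildeIso R p).hom.app (P.X a) ≫ E.map (P.d a b) := (stalkTildeIso R p).hom.naturality (P.d a b)
    refine paste_square (stalkTensorModIso_natural p _ ((tilde.functor R).map (P.d a b))) ?_
    change (St.map ((tilde.functor R).map (P.d a b)) ▷ _) ≫ ((stalkTildeIso R p).hom.app _ ⊗ₘ (stalkTildeIso R p).hom.app M) =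
      ((stalkTildeIso R p).hom.app _ ⊗ₘ (stalkTildeIso R p).hom.app M) ≫ E.map (P.d a b) ▷ _
    rw [← tensorHom_id, ← tensorHom_id, tensorHom_comp_tensorHom, tensorHom_comp_tensorHom, hn, Category.id_comp,
      Category.comp_id]
  have h1 := ShortComplex.Exact.map ((HomologicalComplex.exactAt_iff' _ (i - 1) i (i + 1) (by simp) (by simp)).1 h) St
  let Sc : ShortComplex (ModuleCat.{u} S) :=
    ShortComplex.mk (E.map (P.d (i - 1) i) ▷ E.obj M) (E.map (P.d i (i + 1)) ▷ E.obj M)
      (by rw [← MonoidalCategory.comp_whiskerRight, ← Functor.map_comp, P.d_comp_d, Functor.map_zero,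
        MonoidalPreadditive.zero_whiskerRight])
  have h2 : Sc.Exact := ShortComplex.exact_of_iso
    (ShortComplex.isoMk (e (i - 1)) (e i) (e (i + 1)) (he _ _).symm (he _ _).symm) h1
  have hx := (ShortComplex.ShortExact.moduleCat_exact_iff_function_exact Sc).1 h2
  exact (Function.Exact.iff_of_ladder_linearEquiv
    (e₁ := (TensorProduct.AlgebraTensorModule.distribBaseChange R S (P.X (i - 1)) M).restrictScalars R)
    (e₂ := (TensorProduct.AlgebraTensorModule.distribBaseChange R S (P.X i) M).restrictScalars R)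
    (e₃ := (TensorProduct.AlgebraTensorModule.distribBaseChange R S (P.X (i + 1)) M).restrictScalars R)
    (g₁₂ := (((P.d (i - 1) i).hom.baseChange S).rTensor (TensorProduct R S M)).restrictScalars R)
    (g₂₃ := (((P.d i (i + 1)).hom.baseChange S).rTensor (TensorProduct R S M)).restrictScalars R)
    (TensorProduct.ext' fun s x => by
      induction x with
      | zero => simp
      | tmul p m => rfl
      | add x y hx hy => simp only [TensorProduct.tmul_add, map_add, hx, hy])
    (TensorProduct.ext' fun s x => by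
      induction x with
      | zero => simp
      | tmul p m => rfl
      | add x y hx hy => simp only [TensorProduct.tmul_add, map_add, hx, hy])).1 hx

variable {X V : Scheme.{u}}

/-- Restriction of a complex tensored with a module. -/
def tensModResIso (j : V ⟶ X) [IsOpenImmersion j] (F : X.Modules) (N : CochainComplex X.Modules ℤ) :
    (resCx j).obj ((tensModCx F).obj N) ≅
      (tensModCx ((Scheme.Modules.restrictFunctor j).obj F)).obj ((resCx j).obj N) :=
  let r := Scheme.Modules.restrictFunctorIsoPullback j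
  HomologicalComplex.Hom.isoOfComponents
    (fun n => r.app _ ≪≫ pullTensorModIso j (N.X n) F ≪≫
      ((DCoh.tensorBi.mapIso (r.app (N.X n)).symm).app _) ≪≫ (DCoh.tensorBi.obj _).mapIso (r.app F).symm)
    (fun a b _ => by
      refine Eq.symm ?_
      have h1 := r.hom.naturality ((DCoh.tensorRightMod F).map (N.d a b))
      have h2 := pullTensorModIso_left j (N.d a b) F
      have h3 := bi_square_left (DCoh.tensorBi (X := V)) ((Scheme.Modules.pullback j).map (N.d a b))
        ((Scheme.Modules.restrictFunctor j).map (N.d a b)) (r.inv.app (N.X a)) (r.inv.app (N.X b))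
        (r.inv.app F) (r.inv.naturality (N.d a b))
      exact paste_square h1 (paste_square h2 h3))

/-- Vanishing of a module is local. -/
theorem isZero_of_local {Z : X.Modules}
    (h : ∀ x : X, ∃ (V : Scheme.{u}) (j : V ⟶ X) (_ : IsOpenImmersion j) (v : V),
      j.base v = x ∧ IsZero ((Scheme.Modules.restrictFunctor j).obj Z)) : IsZero Z := by
  rw [IsZero.iff_id_eq_zero]
  choose V j hj v hv hz using h
  apply Scheme.Modules.hom_ext
  intro U
  ext s
  refine TopCat.Sheaf.eq_of_locally_eq' (C := AddCommGrpCat.{u}) (⟨Z.presheaf, Z.isSheaf⟩)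
    (fun x : X => U ⊓ @Scheme.Hom.opensRange _ _ (j x) (hj x)) U (fun x => homOfLE inf_le_left)
    (fun y hy => Opens.mem_iSup.2 ⟨y, hy, v y, hv y⟩) _ _ fun x => ?_
  haveI := hj x
  have key : ∀ W : X.Opens, W ≤ (j x).opensRange → ∀ t : Γ(Z, W), t = 0 := fun W hW t => by
    have hW' : (j x) ''ᵁ ((j x) ⁻¹ᵁ W) = W := by
      rw [Scheme.Hom.image_preimage_eq_opensRange_inf]; exact inf_eq_right.mpr hW
    have : ∀ t : Γ(Z, (j x) ''ᵁ ((j x) ⁻¹ᵁ W)), t = 0 := fun t =>
      congrArg (fun φ : (Scheme.Modules.restrictFunctor (j x)).obj Z ⟶ (Scheme.Modules.restrictFunctor (j x)).obj Z =>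
          φ.app ((j x) ⁻¹ᵁ W) (show Γ((Scheme.Modules.restrictFunctor (j x)).obj Z, (j x) ⁻¹ᵁ W) from t))
        ((hz x).eq_of_src (𝟙 _) 0)
    have gen : ∀ (W' : X.Opens), W' = W → (∀ t : Γ(Z, W'), t = 0) → ∀ t : Γ(Z, W), t = 0 :=
      fun _ e h => by subst e; exact h
    exact gen _ hW' this t
  exact (key _ inf_le_right _).trans (key _ inf_le_right _).symm

/-- Tensoring with isomorphic modules. -/
def tensModCxCongr {G G' : X.Modules} (e : G ≅ G') (A : CochainComplex X.Modules ℤ) :
    (tensModCx G).obj A ≅ (tensModCx G').obj A :=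
  HomologicalComplex.Hom.isoOfComponents (fun n => (DCoh.tensorBi.obj (A.X n)).mapIso e)
    (fun a b _ => ((DCoh.tensorBi (X := X)).map (A.d a b)).naturality e.hom)

/-- Tensoring a K-flat representative with a module detects vanishing. -/
theorem exactAt_tensMod_congr (G : X.Modules) {A B : CochainComplex X.Modules ℤ} (hA : DCoh.IsKFlat A)
    (hB : DCoh.IsKFlat B) (e : DCoh.toD X A ≅ DCoh.toD X B) (i : ℤ) :
    ((tensModCx G).obj A).ExactAt i ↔ ((tensModCx G).obj B).ExactAt i := by
  haveI := hasLTensorMod G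
  rw [← isZero_HD_iff, ← isZero_HD_iff]
  exact ((DerivedCategory.homologyFunctor X.Modules i).mapIso
    ((LTensorModIso G hA).symm ≪≫ (DCoh.LTensorMod G).mapIso e ≪≫ LTensorModIso G hB)).isZero_iff

variable {E : DCoh.D X}

/-- Tor amplitude follows from the vanishing on quasi-coherent modules. -/
theorem hasTorAmplitudeIn_of_qcoh [QuasiSeparatedSpace X] (hE : DCoh.IsQCohD E) (a b : ℤ)
    (h : ∀ (F : X.Modules), Coh.IsQCoh F → ∀ [DCoh.HasLTensorMod F] (i : ℤ), (i < a ∨ b < i) →
      IsZero (DCoh.HD ((DCoh.LTensorMod F).obj E) i)) : DCoh.HasTorAmplitudeIn a b E := by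
  intro F _ i hi
  obtain ⟨N, hN, ⟨eN⟩⟩ := exists_kFlat_obj E
  refine IsZero.of_iso ?_ ((DerivedCategory.homologyFunctor X.Modules i).mapIso
    ((DCoh.LTensorMod F).mapIso eN.symm ≪≫ LTensorModIso F hN))
  rw [isZero_HD_iff, HomologicalComplex.exactAt_iff' _ (i - 1) i (i + 1) (by simp) (by simp)]
  -- exactness is local
  rw [ShortComplex.exact_iff_isZero_homology]
  refine isZero_of_local fun x => ?_
  obtain ⟨R, j, hj, p, hp, -⟩ := exists_affine_chart ⊤ x trivial
  refine ⟨Spec R, j, hj, p, hp, ?_⟩
  obtain ⟨P, hP, ⟨eP⟩⟩ := exists_tilde_rep hE R j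
  let T := Scheme.Modules.restrictFunctor j
  let eN' : DCoh.toD (Spec R) ((resCx j).obj N) ≅ DCoh.toD (Spec R) ((Affine.TC R).obj P) :=
    (restrictObjIso j N).symm ≪≫ (DCoh.restrictD j).mapIso eN ≪≫ eP
  have hres : ∀ (G : X.Modules) (G' : (Spec R).Modules) (_ : T.obj G ≅ G') (k : ℤ),
      (((resCx j).obj ((tensModCx G).obj N))).ExactAt k ↔
        ((tensModCx G').obj ((Affine.TC R).obj P)).ExactAt k := fun G G' eG k => by
    let c := tensModCxCongr eG ((Affine.TC R).obj P)
    rw [HomologicalComplex.exactAt_iff_isZero_homology, HomologicalComplex.exactAt_iff_isZero_homology,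
      (HomologicalComplex.homologyMapIso (tensModResIso j G N) k).isZero_iff,
      ← (HomologicalComplex.homologyMapIso c k).isZero_iff, ← HomologicalComplex.exactAt_iff_isZero_homology,
      ← HomologicalComplex.exactAt_iff_isZero_homology]
    exact exactAt_tensMod_congr _ (isKFlat_resCx j hN) (isKFlat_tilde hP) eN' k
  have hA : DRing.HasTorAmplitudeIn R a b (DRing.toD P) := by
    refine DRingTorAmp.hasTorAmplitudeIn_of_exact hP (Iso.refl _) fun M k hk => ?_
    refine exactAt_tensorCx_of_tilde P M k ?_
    let F' := (Scheme.Modules.pushforward j).obj ((tilde.functor R).obj M)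
    haveI : ((tilde.functor R).obj M).IsQuasicoherent := inferInstance
    have hF' : Coh.IsQCoh F' := QCohBase.isQuasicoherent_pushforward ((tilde.functor R).obj M) j
    haveI := hasLTensorMod F'
    have hz : ((tensModCx F').obj N).ExactAt k := (isZero_HD_iff _ k).1
      ((h F' hF' k hk).of_iso ((DerivedCategory.homologyFunctor X.Modules k).mapIso
        ((DCoh.LTensorMod F').mapIso eN.symm ≪≫ LTensorModIso F' hN)).symm)
    exact (hres F' _ (asIso ((Scheme.Modules.restrictAdjunction j).counit.app ((tilde.functor R).obj M))) k).1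
      (exactAt_res j hz)
  obtain ⟨E', hv, hfl, ⟨e'⟩⟩ := hA
  haveI := hasLTensorMod (T.obj F)
  have hamp : DCoh.HasTorAmplitudeIn a b (DCoh.toD (Spec R) ((Affine.TC R).obj P)) :=
    hasTorAmplitudeIn_of_flat ⟨(Affine.TC R).obj E', fun k hk => (tilde.functor R).map_isZero (hv k hk),
      fun k => by haveI : Module.Flat R (E'.X k) := hfl k; exact isFlat_tilde (E'.X k),
      ⟨(Affine.factor E').symm ≪≫ (DCoh.tildeD R).mapIso e' ≪≫ Affine.factor P⟩⟩
  have hz := (hres F _ (Iso.refl _) i).2 (exactAt_tensor_of_tor (isKFlat_tilde hP) hamp i hi (T.obj F))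
  rw [HomologicalComplex.exactAt_iff_isZero_homology] at hz
  refine IsZero.of_iso ?_ ((((tensModCx F).obj N).sc' (i - 1) i (i + 1)).mapHomologyIso T).symm
  exact hz.of_iso (((resCx j).obj ((tensModCx F).obj N)).homologyIsoSc' (i - 1) i (i + 1) (by simp) (by simp)).symm

end Groth.Agent.DCohBridge
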