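import Groth.Agent.DCohBridge.StalkExact
import Groth.Agent.DCohBridge.TorQCoh
import Groth.Agent.DerCat.AdjHomotopy
import Groth.Prelude.Def_CxOX
import Mathlib.CategoryTheory.Adjunction.Triple
import Mathlib.CategoryTheory.Localization.Adjunction

/-!
Extension by zero along an open immersion is exact; projection formula.
-/

set_option backward.isDefEq.respectTransparency false
set_option backward.isDefEq.respectTransparency.types false
set_option backward.defeqAttrib.useBackward true

noncomputable section

universe u

open CategoryTheory MonoidalCategory Limits AlgebraicGeometry Opposite TopologicalSpace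

attribute [local instance] HasDerivedCategory.standard

namespace Groth.Agent.DCohBridge

variable {U X : Scheme.{u}} (j : U ⟶ X) [IsOpenImmersion j]

/-- Supported on the image of `j`. -/
def SuppIn (T : X.Modules) : Prop := ∀ x : X, x ∉ Set.range j.base → IsZero ((DerSch.stalkFunctor X x).obj T)

/-- A module supported in the image of `j` with zero restriction vanishes. -/
theorem isZero_of_support {Z : X.Modules} (hs : SuppIn j Z)
    (hr : IsZero ((Scheme.Modules.restrictFunctor j).obj Z)) : IsZero Z := by
  rw [IsZero.iff_id_eq_zero]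
  apply Scheme.Modules.hom_ext
  intro V
  ext s
  change s = 0
  refine TopCat.Presheaf.section_ext (C := AddCommGrpCat.{u}) (⟨Z.presheaf, Z.isSheaf⟩ : TopCat.Sheaf _ _)
    V s 0 fun x hx => ?_
  rw [map_zero]
  by_cases h : x ∈ Set.range j.base
  · have hW' : j ''ᵁ (j ⁻¹ᵁ (V ⊓ j.opensRange)) = V ⊓ j.opensRange := by
      rw [Scheme.Hom.image_preimage_eq_opensRange_inf]; exact inf_eq_right.mpr inf_le_right
    have key : ∀ t : Γ(Z, j ''ᵁ (j ⁻¹ᵁ (V ⊓ j.opensRange))), t = 0 := fun t =>
      congrArg (fun φ : (Scheme.Modules.restrictFunctor j).obj Z ⟶ (Scheme.Modules.restrictFunctor j).obj Z =>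
          φ.app (j ⁻¹ᵁ (V ⊓ j.opensRange))
            (show Γ((Scheme.Modules.restrictFunctor j).obj Z, j ⁻¹ᵁ (V ⊓ j.opensRange)) from t))
        (hr.eq_of_src (𝟙 _) 0)
    have gen : ∀ (W' : X.Opens), W' = V ⊓ j.opensRange → (∀ t : Γ(Z, W'), t = 0) →
        ∀ t : Γ(Z, V ⊓ j.opensRange), t = 0 := fun _ e h => by subst e; exact h
    have h0 := gen _ hW' key (Z.presheaf.map (homOfLE (inf_le_left : V ⊓ j.opensRange ≤ V)).op s)
    have := congrArg (TopCat.Presheaf.germ (C := AddCommGrpCat.{u}) Z.presheaf (V ⊓ j.opensRange) x ⟨hx, h⟩) h0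
    rw [map_zero] at this
    exact (TopCat.Presheaf.germ_res_apply (C := AddCommGrpCat.{u}) Z.presheaf
      (homOfLE (inf_le_left : V ⊓ j.opensRange ≤ V)) x ⟨hx, h⟩ s).symm.trans this
  · haveI := ModuleCat.subsingleton_of_isZero (hs x h)
    exact Subsingleton.elim (α := (DerSch.stalkFunctor X x).obj Z) _ _

/-- Skyscrapers outside the image restrict to zero. -/
lemma isZero_restrict_sky (x : X) (hx : x ∉ Set.range j.base) (N : ModuleCat.{u} (X.presheaf.stalk x)) :
    IsZero ((Scheme.Modules.restrictFunctor j).obj ((sky x).obj N)) := by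
  rw [IsZero.iff_id_eq_zero]
  apply Scheme.Modules.hom_ext
  intro V
  ext s
  change s = 0
  exact funext fun h => (hx (Set.image_subset_range _ _ h.down)).elim

/-- Extension by zero is supported in the image. -/
theorem suppIn_extZero (M : U.Modules) : SuppIn j ((CxOX.extZero j).obj M) := fun x hx => by
  rw [IsZero.iff_id_eq_zero]
  apply ((stalkSkyAdj x).homEquiv _ _).injective
  apply ((CxOX.extZeroAdj j).homEquiv _ _).injective
  exact (isZero_restrict_sky j x hx _).eq_of_tgt _ _

/-- `j_!` is fully faithful. -/
instance isIso_extZero_unit : IsIso (CxOX.extZeroAdj j).unit :=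
  haveI : IsIso (Scheme.Modules.restrictAdjunction j).counit := inferInstance
  (Adjunction.Triple.mk (CxOX.extZeroAdj j) (Scheme.Modules.restrictAdjunction j)).isIso_unit_iff_isIso_counit.2 this

theorem suppIn_of_mono {A B : X.Modules} (f : A ⟶ B) [Mono f] (hB : SuppIn j B) : SuppIn j A := fun x hx => by
  haveI : Mono ((DerSch.stalkFunctor X x).map f) := inferInstance
  exact IsZero.of_mono ((DerSch.stalkFunctor X x).map f) (hB x hx)

theorem suppIn_of_epi {A B : X.Modules} (f : A ⟶ B) [Epi f] (hA : SuppIn j A) : SuppIn j B := fun x hx => by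
  haveI : Epi ((DerSch.stalkFunctor X x).map f) := inferInstance
  exact IsZero.of_epi ((DerSch.stalkFunctor X x).map f) (hA x hx)

/-- `j_!` preserves monomorphisms. -/
instance preservesMono_extZero : (CxOX.extZero j).PreservesMonomorphisms where
  preserves {A B} f _ := by
    let T := Scheme.Modules.restrictFunctor j
    let g := (CxOX.extZero j).map f
    refine Preadditive.mono_of_kernel_zero (f := g) ?_
    refine (isZero_of_support j (suppIn_of_mono j (kernel.ι g) (suppIn_extZero j A)) ?_).eq_of_src _ _
    haveI : Mono (T.map g) := by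
      have hn := (CxOX.extZeroAdj j).unit.naturality f
      have he : T.map g = inv ((CxOX.extZeroAdj j).unit.app A) ≫ f ≫ (CxOX.extZeroAdj j).unit.app B := by
        rw [eq_comm, IsIso.inv_comp_eq]; exact hn
      rw [he]
      infer_instance
    exact (isZero_kernel_of_mono (T.map g)).of_iso (PreservesKernel.iso T g)

instance preservesFiniteLimits_extZero : PreservesFiniteLimits (CxOX.extZero j) :=
  DRingKFlat.preservesFiniteLimits_of_preservesMono _

/-- The counit at a module supported in the image is an isomorphism. -/
theorem isIso_counit_of_suppIn {T : X.Modules} (hT : SuppIn j T) : IsIso ((CxOX.extZeroAdj j).counit.app T) := by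
  let R := Scheme.Modules.restrictFunctor j
  let c := (CxOX.extZeroAdj j).counit.app T
  haveI : IsIso (R.map c) := IsIso.of_isIso_fac_left ((CxOX.extZeroAdj j).right_triangle_components T)
  haveI : Mono c := by
    refine Preadditive.mono_of_kernel_zero (f := c) ?_
    refine (isZero_of_support j (suppIn_of_mono j (kernel.ι c) (suppIn_extZero j _)) ?_).eq_of_src _ _
    exact (isZero_kernel_of_mono (R.map c)).of_iso (PreservesKernel.iso R c)
  haveI : Epi c := by
    refine Preadditive.epi_of_cokernel_zero (f := c) ?_
    refine (isZero_of_support j (suppIn_of_epi j (cokernel.π c) hT) ?_).eq_of_tgt _ _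
    exact (isZero_cokernel_of_epi (R.map c)).of_iso (PreservesCokernel.iso R c)
  exact isIso_of_mono_of_epi c

/-- Restriction to an open subscheme preserves K-injective complexes. -/
theorem isKInjective_resCx (I : CochainComplex X.Modules ℤ) [I.IsKInjective] :
    CochainComplex.IsKInjective ((resCx j).obj I) :=
  DerCat.isKInjective_map_rightAdjoint (CxOX.extZeroAdj j) I

/-- `j_! ⊣ j^*` on derived categories. -/
def extZeroDAdj : CxOX.extZeroD j ⊣ DCoh.restrictD j :=
  letI : CatCommSq ((CxOX.extZero j).mapHomologicalComplex (ComplexShape.up ℤ)) DerivedCategory.Q DerivedCategory.Q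
      (CxOX.extZeroD j) := ⟨(CxOX.extZero j).mapDerivedCategoryFactors.symm⟩
  letI : CatCommSq ((Scheme.Modules.restrictFunctor j).mapHomologicalComplex (ComplexShape.up ℤ)) DerivedCategory.Q
      DerivedCategory.Q (DCoh.restrictD j) := ⟨(Scheme.Modules.restrictFunctor j).mapDerivedCategoryFactors.symm⟩
  let adj : (CxOX.extZero j).mapHomologicalComplex (ComplexShape.up ℤ) ⊣
      (Scheme.Modules.restrictFunctor j).mapHomologicalComplex (ComplexShape.up ℤ) :=
    { unit :=
        { app := fun K => DerCat.unitCx (CxOX.extZeroAdj j) _ K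
          naturality := fun _ _ f => by ext i : 1; exact (CxOX.extZeroAdj j).unit.naturality (f.f i) }
      counit :=
        { app := fun K => DerCat.counitCx (CxOX.extZeroAdj j) _ K
          naturality := fun _ _ f => by ext i : 1; exact (CxOX.extZeroAdj j).counit.naturality (f.f i) }
      left_triangle_components := fun K => by ext i : 1; exact (CxOX.extZeroAdj j).left_triangle_components _
      right_triangle_components := fun K => by ext i : 1; exact (CxOX.extZeroAdj j).right_triangle_components _ }
  adj.localization DerivedCategory.Q (HomologicalComplex.quasiIso U.Modules (ComplexShape.up ℤ))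
    DerivedCategory.Q (HomologicalComplex.quasiIso X.Modules (ComplexShape.up ℤ)) _ _

/-- A tensor product with a module supported in the image is supported in the image. -/
theorem suppIn_tensor {A : X.Modules} (hA : SuppIn j A) (M : X.Modules) :
    SuppIn j ((DCoh.tensorBi.obj A).obj M) := fun x hx =>
  IsZero.of_iso ((tensorRight ((DerSch.stalkFunctor X x).obj M)).map_isZero (hA x hx)) (stalkTensorIso x A M)

end Groth.Agent.DCohBridge
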