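import Groth.Agent.DCohBridge.PerfRetract
import Groth.Agent.TensorMod.Restrict
import Groth.Prelude.Def_DCoh4

/-!
Finite sums and tensor products of finite locally free modules.
-/

set_option backward.isDefEq.respectTransparency false
set_option backward.defeqAttrib.useBackward true

universe u

open CategoryTheory Limits AlgebraicGeometry

namespace Groth.Agent.DCohBridge

variable {X : Scheme.{u}}

/-- Finite local freeness is local. -/
theorem isFinLocFree_of_restrict {M : X.Modules}
    (h : ∀ x : X, ∃ U : X.Opens, x ∈ U ∧ FlatMod.IsFinLocFree (M.restrict U.ι)) : FlatMod.IsFinLocFree M := by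
  intro x
  obtain ⟨U, hx, hU⟩ := h x
  obtain ⟨W, k, hW, ⟨t⟩⟩ := hU ⟨x, hx⟩
  let j := W.ι ≫ U.ι
  let l := j.isoOpensRange.inv
  exact ⟨j.opensRange, k, ⟨⟨⟨x, hx⟩, hW⟩, rfl⟩,
    ⟨((Scheme.Modules.restrictFunctorCongr (show j.opensRange.ι = l ≫ j by
        rw [eq_comm, Iso.inv_comp_eq, Scheme.Hom.isoOpensRange_hom_ι])) ≪≫
      Scheme.Modules.restrictFunctorComp l j).app M ≪≫
      (Scheme.Modules.restrictFunctor l).mapIso ((Scheme.Modules.restrictFunctorComp W.ι U.ι).app M ≪≫ t) ≪≫
      TensorMod.restrictFreeModIso l k⟩⟩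

theorem isFinLocFree_of_isZero {M : X.Modules} (hM : IsZero M) : FlatMod.IsFinLocFree M :=
  TensorMod.isFinLocFree_of_iso (IsZero.iso (IsZero.of_iso (Limits.isZero_zero X.Modules) (IsInitial.uniqueUpToIso
    (show IsInitial (FlatMod.freeMod X 0) from IsInitial.ofUniqueHom (fun _ => Sigma.desc fun i => i.elim0)
      (fun _ _ => Sigma.hom_ext _ _ fun i => i.elim0)) (isZero_zero X.Modules).isInitial)) hM)
    (TensorMod.isFinLocFree_freeMod X 0)

/-- A module whose identity is a finite sum of maps through finite locally free modules. -/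
theorem isFinLocFree_of_sum_factor {T : X.Modules} {ι : Type*} (s : Finset ι) (P : ι → X.Modules)
    (hP : ∀ j, FlatMod.IsFinLocFree (P j)) (a : ∀ j, T ⟶ P j) (b : ∀ j, P j ⟶ T)
    (h : ∑ j ∈ s, a j ≫ b j = 𝟙 T) : FlatMod.IsFinLocFree T := by
  classical
  haveI : HasFiniteBiproducts X.Modules := Abelian.hasFiniteBiproducts
  suffices ∀ s : Finset ι, ∃ (Q : X.Modules) (i : T ⟶ Q) (p : Q ⟶ T),
      FlatMod.IsFinLocFree Q ∧ i ≫ p = ∑ j ∈ s, a j ≫ b j by
    obtain ⟨Q, i, p, hQ, e⟩ := this s
    exact isFinLocFree_retract hQ i p (e.trans h)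
  intro s
  induction s using Finset.induction with
  | empty => exact ⟨FlatMod.freeMod X 0, 0, 0, TensorMod.isFinLocFree_freeMod X 0, by simp⟩
  | insert q s hq ih =>
    obtain ⟨Q, i, p, hQ, e⟩ := ih
    exact ⟨P q ⊞ Q, biprod.lift (a q) i, biprod.desc (b q) p, isFinLocFree_biprod (hP q) hQ, by
      rw [biprod.lift_desc, Finset.sum_insert hq, e]⟩

/-- The identity of a free module, split into coordinates. -/
theorem freeMod_id_eq_sum (X : Scheme.{u}) (n : ℕ) :
    ∑ i : Fin n, (Sigma.desc fun j => if j = i then 𝟙 (Coh.structureModule X) else 0 :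
        FlatMod.freeMod X n ⟶ Coh.structureModule X) ≫ Sigma.ι (fun _ : Fin n => Coh.structureModule X) i =
      𝟙 (FlatMod.freeMod X n) := by
  refine Sigma.hom_ext _ _ fun j => ?_
  simp [Preadditive.comp_sum, ite_comp]

theorem isFinLocFree_tensor_freeMod {M : X.Modules} (hM : FlatMod.IsFinLocFree M) (n : ℕ) :
    FlatMod.IsFinLocFree ((DCoh.tensorBi.obj M).obj (FlatMod.freeMod X n)) := by
  let F := (DCoh.tensorBi (X := X)).obj M
  refine isFinLocFree_of_sum_factor (Finset.univ : Finset (Fin n)) (fun _ => F.obj (Coh.structureModule X))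
    (fun _ => TensorMod.isFinLocFree_of_iso (TensorMod.unitRightIso M).symm hM)
    (fun i => F.map (Sigma.desc fun j => if j = i then 𝟙 (Coh.structureModule X) else 0))
    (fun i => F.map (Sigma.ι (fun _ : Fin n => Coh.structureModule X) i)) ?_
  simp only [← Functor.map_comp, ← Functor.map_sum, freeMod_id_eq_sum, Functor.map_id]
  exact F.map_id _

/-- The tensor product of finite locally free modules. -/
theorem isFinLocFree_tensorBi {M N : X.Modules} (hM : FlatMod.IsFinLocFree M) (hN : FlatMod.IsFinLocFree N) :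
    FlatMod.IsFinLocFree ((DCoh.tensorBi.obj M).obj N) := by
  refine isFinLocFree_of_restrict fun x => ?_
  obtain ⟨U, n, hx, ⟨t⟩⟩ := hN x
  exact ⟨U, hx, TensorMod.isFinLocFree_of_iso
    (((DCoh.tensorBi (X := (U : Scheme.{u}))).obj (M.restrict U.ι)).mapIso t.symm ≪≫
      (TensorMod.restrictTensorIso U.ι M N).symm)
    (isFinLocFree_tensor_freeMod (TensorMod.isFinLocFree_restrict U.ι hM) n)⟩

end Groth.Agent.DCohBridge
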