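import Mathlib.RingTheory.Flat.Tensor
import Mathlib.LinearAlgebra.TensorProduct.RightExactness

/-!
Flatness from universal exactness.
-/

universe u

open TensorProduct LinearMap Function

namespace Groth.Agent.DCohBridge

variable {R : Type u} [CommRing R] {A B C : Type u} [AddCommGroup A] [Module R A] [AddCommGroup B] [Module R B]
  [AddCommGroup C] [Module R C]

/-- A pure submodule of a flat module is flat. -/
theorem flat_of_pure_injective {ι : B →ₗ[R] C} [Module.Flat R C]
    (h : ∀ (M : Type u) [AddCommGroup M] [Module R M], Injective (ι.lTensor M)) : Module.Flat R B := by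
  refine Module.Flat.iff_rTensor_injective.2 fun I _ => ?_
  have hc : (ι.lTensor R).comp (I.subtype.rTensor B) = (I.subtype.rTensor C).comp (ι.lTensor I) :=
    TensorProduct.ext' fun a b => rfl
  have hi : Injective ((ι.lTensor R).comp (I.subtype.rTensor B)) := by
    rw [hc]
    exact (Module.Flat.rTensor_preserves_injective_linearMap _ I.injective_subtype).comp (h I)
  exact Injective.of_comp hi

/-- The quotient of a flat module by a pure submodule is flat. -/
theorem flat_of_pure_exact {ι : A →ₗ[R] B} {π : B →ₗ[R] C} [Module.Flat R B] (hex : Exact ι π)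
    (hπ : Surjective π) (h : ∀ (M : Type u) [AddCommGroup M] [Module R M], Injective (ι.lTensor M)) :
    Module.Flat R C := by
  refine Module.Flat.iff_rTensor_injective.2 fun I _ => (injective_iff_map_eq_zero _).2 fun x hx => ?_
  obtain ⟨y, rfl⟩ := LinearMap.lTensor_surjective I hπ x
  have hy : π.lTensor R (I.subtype.rTensor B y) = 0 := by
    rw [← hx]
    exact LinearMap.congr_fun (TensorProduct.ext' (fun a b => rfl) :
      (π.lTensor R).comp (I.subtype.rTensor B) = (I.subtype.rTensor C).comp (π.lTensor I)) y
  obtain ⟨c, hc⟩ := (_root_.lTensor_exact R hex hπ _).1 hy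
  have hq : (Submodule.mkQ I).rTensor A c = 0 := by
    refine h (R ⧸ I) ?_
    rw [map_zero]
    have e : (ι.lTensor (R ⧸ I)).comp ((Submodule.mkQ I).rTensor A) =
        ((Submodule.mkQ I).rTensor B).comp (ι.lTensor R) := TensorProduct.ext' fun a b => rfl
    refine (LinearMap.congr_fun e c).trans ?_
    change (Submodule.mkQ I).rTensor B (ι.lTensor R c) = 0
    rw [hc, ← LinearMap.comp_apply, ← LinearMap.rTensor_comp]
    have : (Submodule.mkQ I).comp I.subtype = 0 := by
      ext a
      exact Ideal.Quotient.eq_zero_iff_mem.2 a.2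
    rw [this]
    simp
  obtain ⟨w, rfl⟩ := (_root_.rTensor_exact A (LinearMap.exact_subtype_mkQ I) (Submodule.mkQ_surjective I) _).1 hq
  have e : y = ι.lTensor I w := by
    refine Module.Flat.rTensor_preserves_injective_linearMap (M := B) _ I.injective_subtype ?_
    rw [← hc]
    exact LinearMap.congr_fun (TensorProduct.ext' (fun a b => rfl) :
      (ι.lTensor R).comp (I.subtype.rTensor A) = (I.subtype.rTensor B).comp (ι.lTensor I)) w
  rw [e, ← LinearMap.comp_apply, ← LinearMap.lTensor_comp, hex.linearMap_comp_eq_zero, LinearMap.lTensor_zero,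
    LinearMap.zero_apply]

variable {f : A →ₗ[R] B} {g : B →ₗ[R] C}

/-- If `A → B → C` stays exact after every tensor product and `C` is flat, then the cokernels are flat. -/
theorem flat_of_exact_lTensor [Module.Flat R C]
    (h : ∀ (M : Type u) [AddCommGroup M] [Module R M], Exact (f.lTensor M) (g.lTensor M))
    (hfg : g.comp f = 0) :
    Module.Flat R (B ⧸ LinearMap.range f) ∧ Module.Flat R (C ⧸ LinearMap.range g) := by
  let ι := (LinearMap.range f).liftQ g (by
    rintro _ ⟨a, rfl⟩
    exact LinearMap.congr_fun hfg a)
  have hι : ∀ (M : Type u) [AddCommGroup M] [Module R M], Injective (ι.lTensor M) := fun M _ _ => by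
    refine (injective_iff_map_eq_zero _).2 fun t ht => ?_
    obtain ⟨b, rfl⟩ := LinearMap.lTensor_surjective M (Submodule.mkQ_surjective (LinearMap.range f)) t
    rw [← LinearMap.comp_apply, ← LinearMap.lTensor_comp, Submodule.liftQ_mkQ] at ht
    obtain ⟨a, rfl⟩ := (h M b).1 ht
    rw [← LinearMap.comp_apply, ← LinearMap.lTensor_comp, LinearMap.range_mkQ_comp, LinearMap.lTensor_zero,
      LinearMap.zero_apply]
  refine ⟨flat_of_pure_injective hι, flat_of_pure_exact (ι := ι) (π := Submodule.mkQ (LinearMap.range g)) ?_
    (Submodule.mkQ_surjective _) hι⟩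
  rw [LinearMap.exact_iff, Submodule.ker_mkQ, Submodule.range_liftQ]

end Groth.Agent.DCohBridge
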