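import Groth.Agent.DCohBridge.PerfectBasic
import Groth.Agent.GenLocus.Extend

/-!
Local lifting of maps out of strictly perfect complexes.
-/

set_option backward.isDefEq.respectTransparency false
set_option backward.isDefEq.respectTransparency.types false
set_option backward.defeqAttrib.useBackward true

universe u

open CategoryTheory Limits AlgebraicGeometry Opposite
open Groth.Agent.QCohBase

namespace Groth.Agent.DCohBridge

variable {X : Scheme.{u}}

/-- Maps out of the structure sheaf are determined by the global value. -/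
lemma hom_ext_sect {M : X.Modules} {s t : Coh.structureModule X ⟶ M}
    (h : GenLocus.sect s ⊤ = GenLocus.sect t ⊤) : s = t :=
  M.unitHomEquiv.injective (Subtype.ext (funext fun U => by
    have hs := GenLocus.mres_sect s (le_top : U.unop ≤ ⊤)
    have ht := GenLocus.mres_sect t (le_top : U.unop ≤ ⊤)
    exact hs.symm.trans ((congrArg _ h).trans ht)))

/-- A local preimage of the value gives a lift. -/
theorem exists_unit_lift {A B : X.Modules} (p : A ⟶ B) (g : Coh.structureModule X ⟶ B) (V : X.Opens)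
    (a : Γ(A, V)) (ha : p.app V a = GenLocus.sect g V) :
    ∃ s : Coh.structureModule (V : Scheme.{u}) ⟶ (Scheme.Modules.restrictFunctor V.ι).obj A,
      s ≫ (Scheme.Modules.restrictFunctor V.ι).map p =
        (Scheme.Modules.restrictUnitIso V.ι).inv ≫ (Scheme.Modules.restrictFunctor V.ι).map g := by
  have hle : V.ι ''ᵁ ⊤ ≤ V := le_of_eq V.ι_image_top
  let a' : Γ((Scheme.Modules.restrictFunctor V.ι).obj A, ⊤) :=
    (A.restrictAppIso V.ι ⊤).inv (mres A hle a)
  refine ⟨GenLocus.homOfSection _ a', hom_ext_sect ?_⟩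
  have h1 : GenLocus.sect (GenLocus.homOfSection _ a') ⊤ = a' :=
    (GenLocus.sect_homOfSection _ a' ⊤).trans (mres_refl _ _ _)
  have h2 : p.app (V.ι ''ᵁ ⊤) (mres A hle a) = GenLocus.sect g (V.ι ''ᵁ ⊤) := by
    refine Eq.trans ?_ (GenLocus.mres_sect g hle)
    rw [← ha]
    exact ConcreteCategory.congr_hom (p.mapPresheaf.naturality (homOfLE hle).op) a
  refine Eq.trans (congrArg (((Scheme.Modules.restrictFunctor V.ι).map p).app ⊤) h1) ?_
  refine h2.trans ?_
  exact congrArg (g.app (V.ι ''ᵁ ⊤)) (map_one (V.ι.appIso ⊤).inv.hom).symm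

/-- Sections lift locally along epimorphisms. -/
theorem exists_local_preimage {A B : X.Modules} (p : A ⟶ B) [Epi p] (b : Γ(B, (⊤ : X.Opens))) (x : X) :
    ∃ (V : X.Opens) (a : Γ(A, V)), x ∈ V ∧ p.app V a = mres B le_top b := by
  have hsurj : Sheaf.IsLocallySurjective ((SheafOfModules.toSheaf X.ringCatSheaf).map p) := by
    rw [Sheaf.isLocallySurjective_iff_epi']
    haveI : @Epi (SheafOfModules X.ringCatSheaf) _ _ _ p := ‹Epi p›
    exact @Functor.map_epi _ _ _ _ (SheafOfModules.toSheaf X.ringCatSheaf) _ _ _ p this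
  obtain ⟨V, i, ⟨a, ha⟩, hxV⟩ := hsurj.imageSieve_mem (U := (⊤ : X.Opens)) b x trivial
  exact ⟨V, a, hxV, ha⟩

/-- Maps from free modules of finite rank lift locally along epimorphisms. -/
theorem exists_free_lift {A B : X.Modules} (p : A ⟶ B) [Epi p] (n : ℕ) (g : FlatMod.freeMod X n ⟶ B) (x : X) :
    ∃ (V : X.Opens) (s : FlatMod.freeMod (V : Scheme.{u}) n ⟶ (Scheme.Modules.restrictFunctor V.ι).obj A),
      x ∈ V ∧ s ≫ (Scheme.Modules.restrictFunctor V.ι).map p =
        (TensorMod.restrictFreeModIso V.ι n).inv ≫ (Scheme.Modules.restrictFunctor V.ι).map g := by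
  choose W a hW ha using fun i : Fin n => exists_local_preimage p
    (GenLocus.sect (Sigma.ι (fun _ : Fin n => Coh.structureModule X) i ≫ g) ⊤) x
  obtain ⟨V, hxV, hV⟩ : ∃ V : X.Opens, x ∈ V ∧ ∀ i, V ≤ W i :=
    ⟨Finset.univ.inf W, by
      rw [← SetLike.mem_coe, TopologicalSpace.Opens.coe_finset_inf]
      simpa [Finset.inf_eq_iInf] using hW, fun i => Finset.inf_le (Finset.mem_univ i)⟩
  have key : ∀ i, p.app V (mres A (hV i) (a i)) =
      GenLocus.sect (Sigma.ι (fun _ : Fin n => Coh.structureModule X) i ≫ g) V := fun i => by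
    refine Eq.trans ?_ ((congrArg (mres B (hV i)) (ha i)).trans ?_)
    · exact ConcreteCategory.congr_hom (p.mapPresheaf.naturality (homOfLE (hV i)).op) (a i)
    · exact (congrArg (mres B (hV i)) (GenLocus.mres_sect _ le_top)).trans (GenLocus.mres_sect _ (hV i))
  choose s hs using fun i => exists_unit_lift p _ V _ (key i)
  refine ⟨V, Sigma.desc s, hxV, Sigma.hom_ext _ _ fun i => ?_⟩
  rw [Sigma.ι_desc_assoc, hs i, TensorMod.restrictFreeModIso, Iso.trans_inv, Functor.map_comp]
  simp only [← Category.assoc]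
  congr 1
  rw [Category.assoc, PreservesCoproduct.inv_hom]
  refine (Eq.trans ?_ (Sigma.ι_mapIso_inv_assoc
    (f := fun _ : Fin n => (Scheme.Modules.restrictFunctor V.ι).obj (Coh.structureModule X))
    (g := fun _ : Fin n => Coh.structureModule (V : Scheme.{u}))
    (fun _ => Scheme.Modules.restrictUnitIso V.ι) i _).symm)
  exact congrArg _ (ι_comp_sigmaComparison (Scheme.Modules.restrictFunctor V.ι) (fun _ : Fin n => Coh.structureModule X) i).symm

/-- Maps from finite locally free modules lift locally along epimorphisms. -/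
theorem exists_local_lift {M A B : X.Modules} (hM : FlatMod.IsFinLocFree M) (p : A ⟶ B) [Epi p]
    (g : M ⟶ B) (x : X) :
    ∃ (V : Scheme.{u}) (j : V ⟶ X) (_ : IsOpenImmersion j) (v : V)
      (s : (Scheme.Modules.restrictFunctor j).obj M ⟶ (Scheme.Modules.restrictFunctor j).obj A),
      j.base v = x ∧ s ≫ (Scheme.Modules.restrictFunctor j).map p = (Scheme.Modules.restrictFunctor j).map g := by
  obtain ⟨U, n, hxU, ⟨e⟩⟩ := hM x
  let R := Scheme.Modules.restrictFunctor U.ι
  haveI : Epi (R.map p) := inferInstance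
  obtain ⟨W, s, hxW, hs⟩ := exists_free_lift (R.map p) n (e.inv ≫ R.map g) ⟨x, hxU⟩
  let S := Scheme.Modules.restrictFunctor W.ι
  let c := Scheme.Modules.restrictFunctorComp W.ι U.ι
  refine ⟨W, W.ι ≫ U.ι, inferInstance, ⟨⟨x, hxU⟩, hxW⟩,
    c.hom.app M ≫ S.map e.hom ≫ (TensorMod.restrictFreeModIso W.ι n).hom ≫ s ≫ c.inv.app A, rfl, ?_⟩
  simp only [Category.assoc]
  erw [← c.inv.naturality p]
  change c.hom.app M ≫ S.map e.hom ≫ _ ≫ s ≫ S.map (R.map p) ≫ c.inv.app B = _
  rw [reassoc_of% hs, Iso.hom_inv_id_assoc, ← Functor.map_comp_assoc, Iso.hom_inv_id_assoc]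
  exact (NatIso.naturality_2 c g)

section NullHomotopy

variable {V W : Scheme.{u}}

/-- Restriction of complexes along an open immersion. -/
noncomputable abbrev resCx (j : V ⟶ X) [IsOpenImmersion j] :
    CochainComplex X.Modules ℤ ⥤ CochainComplex V.Modules ℤ :=
  (Scheme.Modules.restrictFunctor j).mapHomologicalComplex (ComplexShape.up ℤ)

/-- Restricting twice. -/
noncomputable def resCxCompIso (k : W ⟶ V) [IsOpenImmersion k] (j : V ⟶ X) [IsOpenImmersion j] :
    resCx (k ≫ j) ≅ resCx j ⋙ resCx k :=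
  NatIso.ofComponents (fun K => HomologicalComplex.Hom.isoOfComponents
    (fun n => (Scheme.Modules.restrictFunctorComp k j).app (K.X n))
    (fun a b _ => ((Scheme.Modules.restrictFunctorComp k j).hom.naturality (K.d a b)).symm))
    (fun {K L} f => by
      ext n : 1
      exact (Scheme.Modules.restrictFunctorComp k j).hom.naturality (f.f n))

lemma isFinLocFree_res (j : V ⟶ X) [IsOpenImmersion j] {E : CochainComplex X.Modules ℤ}
    (hE : DCoh.IsStrictlyPerfect E) (i : ℤ) : FlatMod.IsFinLocFree (((resCx j).obj E).X i) :=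
  TensorMod.isFinLocFree_restrict j (hE.2 i)

lemma exactAt_res (j : V ⟶ X) [IsOpenImmersion j] {F : CochainComplex X.Modules ℤ} {i : ℤ}
    (hF : F.ExactAt i) : ((resCx j).obj F).ExactAt i := by
  rw [HomologicalComplex.exactAt_iff' _ (i - 1) i (i + 1) (by simp) (by simp)] at hF ⊢
  exact hF.map (Scheme.Modules.restrictFunctor j)

/-- A null-homotopic map stays so on smaller opens. -/
noncomputable def homotopyRestrict (k : W ⟶ V) [IsOpenImmersion k] (j : V ⟶ X) [IsOpenImmersion j]
    (l : W ⟶ X) [IsOpenImmersion l] (h : k ≫ j = l) {E F : CochainComplex X.Modules ℤ} {φ ψ : E ⟶ F}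
    (H : Homotopy ((resCx j).map φ) ((resCx j).map ψ)) : Homotopy ((resCx l).map φ) ((resCx l).map ψ) := by
  subst h
  exact (Homotopy.ofEq ((NatIso.naturality_2 (resCxCompIso k j) φ).symm)).trans
    (((((Scheme.Modules.restrictFunctor k).mapHomotopy H).compLeft ((resCxCompIso k j).hom.app E)).compRight
      ((resCxCompIso k j).inv.app F)).trans (Homotopy.ofEq ((NatIso.naturality_2 (resCxCompIso k j) ψ))))

/-- One step of the descending induction. -/
theorem exists_kill_step {E F : CochainComplex V.Modules ℤ} (k : ℤ) (hE : FlatMod.IsFinLocFree (E.X k))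
    (hF : F.ExactAt k) (β : E ⟶ F) (hβ : ∀ i, k < i → β.f i = 0) (v : V) :
    ∃ (W : Scheme.{u}) (j : W ⟶ V) (_ : IsOpenImmersion j) (w : W) (γ : (resCx j).obj E ⟶ (resCx j).obj F),
      j.base w = v ∧ Nonempty (Homotopy ((resCx j).map β) γ) ∧ ∀ i, k ≤ i → γ.f i = 0 := by
  rw [HomologicalComplex.exactAt_iff' _ (k - 1) k (k + 1) (by simp) (by simp)] at hF
  let S := F.sc' (k - 1) k (k + 1)
  haveI : Epi S.toCycles := hF.epi_toCycles
  have hβk : β.f k ≫ S.g = 0 :=
    (β.comm k (k + 1)).trans (by rw [hβ (k + 1) (by lia), comp_zero])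
  obtain ⟨W, j, hj, w, s, hw, hs⟩ := exists_local_lift hE S.toCycles (S.liftCycles (β.f k) hβk) v
  let R := Scheme.Modules.restrictFunctor j
  have hsd : s ≫ R.map (F.d (k - 1) k) = R.map (β.f k) := by
    have e1 : R.map (F.d (k - 1) k) = R.map S.toCycles ≫ R.map S.iCycles := by
      rw [← R.map_comp, S.toCycles_i]; rfl
    rw [e1, reassoc_of% hs, ← R.map_comp, S.liftCycles_i]
  let h : ∀ a b, (ComplexShape.up ℤ).Rel b a → (((resCx j).obj E).X a ⟶ ((resCx j).obj F).X b) :=
    fun a b hab => if ha : a = k then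
      (((resCx j).obj E).XIsoOfEq ha).hom ≫ s ≫ (((resCx j).obj F).XIsoOfEq
        (show k - 1 = b by simp at hab; lia)).hom else 0
  let N := Homotopy.nullHomotopicMap' h
  refine ⟨W, j, hj, w, (resCx j).map β - N, hw, ⟨?_⟩, fun i hi => ?_⟩
  · exact ((Homotopy.ofEq (sub_add_cancel _ N).symm).trans
      (((Homotopy.refl _).add (Homotopy.nullHomotopy' h)).trans (Homotopy.ofEq (add_zero _))))
  · rw [HomologicalComplex.sub_f_apply, sub_eq_zero,
      Homotopy.nullHomotopicMap'_f (k₂ := i - 1) (k₀ := i + 1) (by simp) (by simp)]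
    obtain rfl | hlt := eq_or_lt_of_le hi
    · simp only [h, dif_neg (show k + 1 ≠ k by lia), dif_pos, comp_zero, zero_add]
      refine hsd.symm.trans ?_
      simp [R]; erw [Category.id_comp]
    · simp [h, hβ i hlt, show i + 1 ≠ k by lia, show i ≠ k by lia]

/-- A map from a strictly perfect complex into a complex exact in its range is locally null-homotopic. -/
theorem exists_nullHomotopy {E F : CochainComplex X.Modules ℤ} (α : E ⟶ F) (hE : DCoh.IsStrictlyPerfect E) (a : ℤ)
    (hEa : ∀ i : ℤ, i < a → IsZero (E.X i)) (hF : ∀ i : ℤ, a ≤ i → F.ExactAt i) (x : X) :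
    ∃ U : X.Opens, x ∈ U ∧ Nonempty (Homotopy ((DCoh.restrictCx U).map α) 0) := by
  obtain ⟨c, b, hv⟩ := hE.1
  suffices key : ∀ n : ℕ, (n : ℤ) ≤ max (b + 1) a - a → ∃ (V : Scheme.{u}) (j : V ⟶ X) (_ : IsOpenImmersion j)
      (v : V) (β : (resCx j).obj E ⟶ (resCx j).obj F),
      j.base v = x ∧ Nonempty (Homotopy ((resCx j).map α) β) ∧ ∀ i, max (b + 1) a - n ≤ i → β.f i = 0 by
    obtain ⟨n, hn⟩ := Int.eq_ofNat_of_zero_le (show 0 ≤ max (b + 1) a - a by lia)
    obtain ⟨V, j, hj, v, β, hv', ⟨H⟩, hβ⟩ := key n (by lia)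
    have h0 : β = 0 := by
      ext i : 1
      by_cases hi : a ≤ i
      · exact (hβ i (by lia)).trans rfl
      · exact ((Scheme.Modules.restrictFunctor j).map_isZero (hEa i (by lia))).eq_of_src _ _
    subst h0
    refine ⟨j.opensRange, ⟨v, hv'⟩, ⟨(homotopyRestrict j.isoOpensRange.inv j j.opensRange.ι
      (by rw [Iso.inv_comp_eq, Scheme.Hom.isoOpensRange_hom_ι]) (ψ := 0)
      (H.trans (Homotopy.ofEq (Functor.map_zero _ _ _).symm))).trans (Homotopy.ofEq (Functor.map_zero _ _ _))⟩⟩
  intro n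
  induction n with
  | zero =>
    refine fun _ => ⟨_, (⊤ : X.Opens).ι, inferInstance, ⟨x, trivial⟩, _, rfl, ⟨Homotopy.refl _⟩, fun i hi => ?_⟩
    exact ((Scheme.Modules.restrictFunctor _).map_isZero (hv i (Or.inr (by lia)))).eq_of_src _ _
  | succ n ih =>
    intro hn
    obtain ⟨V, j, hj, v, β, hv', ⟨H⟩, hβ⟩ := ih (by lia)
    obtain ⟨W, k, hk, w, γ, hw, ⟨K⟩, hγ⟩ := exists_kill_step (max (b + 1) a - (n + 1 : ℕ))
      (isFinLocFree_res j hE _) (exactAt_res j (hF _ (by lia))) β (fun i hi => hβ i (by lia)) v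
    let c := resCxCompIso k j
    refine ⟨W, k ≫ j, inferInstance, w, c.hom.app E ≫ γ ≫ c.inv.app F, by simp [hw, hv'],
      ⟨(Homotopy.ofEq (NatIso.naturality_2 c α).symm).trans (((((Scheme.Modules.restrictFunctor k).mapHomotopy H).trans
        K).compRight (c.inv.app F)).compLeft (c.hom.app E))⟩, fun i hi => ?_⟩
    rw [HomologicalComplex.comp_f, HomologicalComplex.comp_f, hγ i hi, zero_comp, comp_zero]

end NullHomotopy

attribute [local instance] HasDerivedCategory.standard

/-- The cone is exact in degrees `≥ a` when the map is an isomorphism above `a` and surjective at `a`. -/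
theorem exactAt_cone {F G : CochainComplex X.Modules ℤ} (f : G ⟶ F) (a : ℤ)
    (hf : ∀ j : ℤ, a < j → IsIso (HomologicalComplex.homologyMap f j))
    (hfa : Epi (HomologicalComplex.homologyMap f a)) (i : ℤ) (hi : a ≤ i) :
    (CochainComplex.mappingCone f).ExactAt i := by
  have h := (cone_exact_iff f a).1 ⟨fun j hj =>
      (NatIso.isIso_map_iff (DerivedCategory.homologyFunctorFactors X.Modules j) f).2 (hf j hj), by
    let e := DerivedCategory.homologyFunctorFactors X.Modules a
    have hn : (DerivedCategory.homologyFunctor X.Modules a).map (DerivedCategory.Q.map f) =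
        e.hom.app G ≫ HomologicalComplex.homologyMap f a ≫ e.inv.app F := (NatIso.naturality_2 e f).symm
    rw [hn]
    infer_instance⟩
  exact (CochainComplex.isLE_iff _ (a - 1)).1 h i (by lia)

/-- Lifting along a map which is an isomorphism on cohomology above `a`. -/
theorem exists_lift_upToHomotopy {E F G : CochainComplex X.Modules ℤ} (α : E ⟶ F) (f : G ⟶ F)
    (hE : DCoh.IsStrictlyPerfect E) (a : ℤ) (hEa : ∀ j : ℤ, j < a → IsZero (E.X j))
    (hf : ∀ j : ℤ, a < j → IsIso (HomologicalComplex.homologyMap f j))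
    (hfa : Epi (HomologicalComplex.homologyMap f a)) (x : X) :
    ∃ (V : X.Opens) (β : (DCoh.restrictCx V).obj E ⟶ (DCoh.restrictCx V).obj G), x ∈ V ∧
      Nonempty (Homotopy (β ≫ (DCoh.restrictCx V).map f) ((DCoh.restrictCx V).map α)) := by
  obtain ⟨V, hxV, ⟨H⟩⟩ := exists_nullHomotopy (α ≫ CochainComplex.mappingCone.inr f) hE a hEa
    (exactAt_cone f a hf hfa) x
  let R := Scheme.Modules.restrictFunctor V.ι
  let q := HomotopyCategory.quotient (V : Scheme.{u}).Modules (ComplexShape.up ℤ)
  have hT := HomotopyCategory.mappingCone_triangleh_distinguished ((DCoh.restrictCx V).map f)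
  have h0 : q.map ((DCoh.restrictCx V).map α) ≫
      q.map (CochainComplex.mappingCone.inr ((DCoh.restrictCx V).map f)) = 0 := by
    rw [← q.map_comp, ← CochainComplex.mappingCone.map_inr f R, ← Functor.map_comp_assoc, q.map_comp,
      HomotopyCategory.eq_of_homotopy _ _ H, Functor.map_zero, zero_comp]
  obtain ⟨g, hg⟩ := Pretriangulated.Triangle.coyoneda_exact₂ _ hT (q.map ((DCoh.restrictCx V).map α)) h0
  obtain ⟨β, rfl⟩ := q.map_surjective g
  exact ⟨V, β, hxV, ⟨HomotopyCategory.homotopyOfEq _ _ (((q.map_comp _ _).trans hg.symm))⟩⟩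

/-- A morphism in the derived category out of a strictly perfect complex is locally a chain map. -/
theorem exists_chainMap {E F : CochainComplex X.Modules ℤ} (hE : DCoh.IsStrictlyPerfect E)
    (α : DCoh.toD X E ⟶ DCoh.toD X F) (x : X) :
    ∃ V : X.Opens, x ∈ V ∧ ∃ β : (DCoh.restrictCx V).obj E ⟶ (DCoh.restrictCx V).obj F,
      (DCoh.restrictD V.ι).map α =
        (Scheme.Modules.restrictFunctor V.ι).mapDerivedCategoryFactors.hom.app E ≫ DerivedCategory.Q.map β ≫
          (Scheme.Modules.restrictFunctor V.ι).mapDerivedCategoryFactors.inv.app F := by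
  obtain ⟨Y, g, s, hs, rfl⟩ := DerivedCategory.left_fac α
  haveI : QuasiIso s := (DerivedCategory.isIso_Q_map_iff_quasiIso (C := X.Modules) s).1 hs
  obtain ⟨c, b, hv⟩ := hE.1
  obtain ⟨V, β, hxV, ⟨H⟩⟩ := exists_lift_upToHomotopy g s hE c (fun j hj => hv j (Or.inl hj))
    (fun j _ => inferInstance) inferInstance x
  refine ⟨V, hxV, β, ?_⟩
  let e := (Scheme.Modules.restrictFunctor V.ι).mapDerivedCategoryFactors
  have hβ : DerivedCategory.Q.map β ≫ DerivedCategory.Q.map ((DCoh.restrictCx V).map s) =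
      DerivedCategory.Q.map ((DCoh.restrictCx V).map g) := by
    rw [← Functor.map_comp]
    have nat := fun {A B : CochainComplex (V : Scheme.{u}).Modules ℤ} (φ : A ⟶ B) =>
      (NatIso.naturality_2 (DerivedCategory.quotientCompQhIso (V : Scheme.{u}).Modules) φ)
    exact (nat _).symm.trans ((congrArg (fun t => _ ≫ DerivedCategory.Qh.map t ≫ _)
      (HomotopyCategory.eq_of_homotopy _ _ H)).trans (nat _))
  rw [Functor.map_comp, Functor.map_inv, IsIso.comp_inv_eq, ← cancel_mono (e.hom.app Y)]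
  simp only [Category.assoc]
  erw [e.hom.naturality s, e.hom.naturality g]
  rw [Iso.inv_hom_id_app_assoc]
  exact congrArg (e.hom.app E ≫ ·) hβ.symm

end Groth.Agent.DCohBridge
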