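import Groth.Agent.DCohBridge.OpenBaseChange
import Groth.Agent.RPushQCoh.Qcoh
import Mathlib.Algebra.Homology.DerivedCategory.ShortExact
import Mathlib.Algebra.Homology.HomologicalComplexBiprod

/-!
The Mayer-Vietoris triangle for derived direct images.
-/

set_option backward.isDefEq.respectTransparency false
set_option backward.defeqAttrib.useBackward true

noncomputable section

universe u v w

open CategoryTheory Limits AlgebraicGeometry Opposite TopologicalSpace

attribute [local instance] HasDerivedCategory.standard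

namespace Groth.Agent.DCohBridge

lemma shortExact_square {C : Type w} [Category.{v} C] [Abelian C] {P A B Q : C} (a : P ⟶ A) (b : P ⟶ B)
    (p : A ⟶ Q) (q : B ⟶ Q) (w' : a ≫ p = b ≫ q) [Epi a] [Epi p] (wK : (kernel.ι a ≫ b) ≫ q = 0)
    (hK : (ShortComplex.mk _ _ wK).ShortExact) :
    (ShortComplex.mk (biprod.lift a b) (biprod.desc p (-q)) (by simp [w'])).ShortExact := by
  haveI : Mono (kernel.ι a ≫ b) := hK.mono_f
  haveI : Mono (biprod.lift a b) := by
    refine Preadditive.mono_of_cancel_zero _ fun {T} x hx => ?_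
    have h1 : x ≫ a = 0 := by simpa using congrArg (· ≫ biprod.fst) hx
    have h2 : x ≫ b = 0 := by simpa using congrArg (· ≫ biprod.snd) hx
    have h3 : kernel.lift a x h1 = 0 := by rw [← cancel_mono (kernel.ι a ≫ b)]; simp [h2]
    rw [← kernel.lift_ι a x h1, h3, zero_comp]
  haveI : Epi (biprod.desc p (-q)) := epi_of_epi_fac (biprod.inl_desc p (-q))
  refine ShortComplex.ShortExact.mk ?_
  rw [ShortComplex.exact_iff_exact_up_to_refinements]
  intro T x hx
  dsimp at x hx ⊢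
  obtain ⟨T', π, hπ, g, hg⟩ := surjective_up_to_refinements_of_epi a (x ≫ biprod.fst)
  have hx' : (x ≫ biprod.fst) ≫ p - (x ≫ biprod.snd) ≫ q = 0 := by
    have h := congrArg (· ≫ biprod.desc p (-q)) ((show biprod.lift (x ≫ biprod.fst) (x ≫ biprod.snd) = x by apply biprod.hom_ext <;> simp))
    simp only [biprod.lift_desc] at h
    rw [hx] at h
    simpa [sub_eq_add_neg] using h
  have h0 : (π ≫ x ≫ biprod.snd - g ≫ b) ≫ q = 0 := by
    rw [Preadditive.sub_comp, Category.assoc g, ← w', reassoc_of% hg.symm]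
    simpa using congrArg (π ≫ ·) (neg_eq_zero.2 hx')
  obtain ⟨T'', π', hπ', k, hk⟩ := hK.exact.exact_up_to_refinements _ h0
  dsimp at k hk
  refine ⟨T'', π' ≫ π, inferInstance, π' ≫ g + k ≫ kernel.ι a, ?_⟩
  apply biprod.hom_ext
  · simp [hg]
  · simp [← hk]

lemma shortExact_of_square_eval {C : Type w} [Category.{v} C] [Abelian C] {P A B Q : CochainComplex C ℤ}
    (a : P ⟶ A) (b : P ⟶ B) (p : A ⟶ Q) (q : B ⟶ Q) (w' : a ≫ p = b ≫ q)
    (h : ∀ n, (ShortComplex.mk (biprod.lift (a.f n) (b.f n)) (biprod.desc (p.f n) (-(q.f n)))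
      (by simp [← HomologicalComplex.comp_f, w'])).ShortExact) :
    (ShortComplex.mk (biprod.lift a b) (biprod.desc p (-q)) (by simp [w'])).ShortExact := by
  refine HomologicalComplex.shortExact_of_degreewise_shortExact _ fun n => ?_
  refine (ShortComplex.shortExact_iff_of_iso (S₂ := ShortComplex.mk (biprod.lift (a.f n) (b.f n))
    (biprod.desc (p.f n) (-(q.f n))) (by simp [← HomologicalComplex.comp_f, w'])) ?_).2 (h n)
  exact (ShortComplex.isoMk (Iso.refl _) ((HomologicalComplex.eval C (ComplexShape.up ℤ) n).mapBiprod A B)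
    (Iso.refl _) (by
      apply biprod.hom_ext <;> simp [← HomologicalComplex.comp_f]) (by
      rw [← cancel_epi ((HomologicalComplex.eval C (ComplexShape.up ℤ) n).mapBiprod A B).inv,
        Iso.inv_hom_id_assoc]
      apply biprod.hom_ext' <;> simp [← HomologicalComplex.comp_f]))

variable {X Y : Scheme.{u}} (f : X ⟶ Y)

open RPushQCoh

/-- The complex `(W ↪ X → Y)_* (I|_W)`. -/
abbrev gCxZ (W : X.Opens) (I : CochainComplex X.Modules ℤ) : CochainComplex Y.Modules ℤ :=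
  ((gFun f W).mapHomologicalComplex (ComplexShape.up ℤ)).obj I

/-- Restriction between these complexes. -/
abbrev gCxZMap {A B : X.Opens} (h : A ≤ B) (I : CochainComplex X.Modules ℤ) : gCxZ f B I ⟶ gCxZ f A I :=
  (NatTrans.mapHomologicalComplex (gMap f h) (ComplexShape.up ℤ)).app I

lemma gCxZMap_w (A B : X.Opens) (I : CochainComplex X.Modules ℤ) :
    gCxZMap f (le_sup_left : A ≤ A ⊔ B) I ≫ gCxZMap f (inf_le_left : A ⊓ B ≤ A) I =
      gCxZMap f (le_sup_right : B ≤ A ⊔ B) I ≫ gCxZMap f (inf_le_right : A ⊓ B ≤ B) I :=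
  HomologicalComplex.hom_ext _ _ fun n =>
    (gMap_comp f (I.X n) inf_le_left le_sup_left).trans (gMap_comp f (I.X n) inf_le_right le_sup_right).symm

theorem shortExact_mv (A B : X.Opens) (I : CochainComplex X.Modules ℤ) [∀ n, Injective (I.X n)] :
    (ShortComplex.mk (biprod.lift (gCxZMap f (le_sup_left : A ≤ A ⊔ B) I) (gCxZMap f (le_sup_right : B ≤ A ⊔ B) I))
      (biprod.desc (gCxZMap f (inf_le_left : A ⊓ B ≤ A) I) (-gCxZMap f (inf_le_right : A ⊓ B ≤ B) I))
      (by simp [gCxZMap_w])).ShortExact := by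
  refine shortExact_of_square_eval _ _ _ _ (gCxZMap_w f A B I) fun n => ?_
  haveI : TopCat.Sheaf.IsFlasque (X := X.toTopCat) (Coh.toAb (I.X n)) :=
    @FlasqueAcyclic.isFlasque_toAb X _ inferInstance
  haveI : Epi ((gMap f (le_sup_left : A ≤ A ⊔ B)).app (I.X n)) := epi_gMap f (I.X n) _
  haveI : Epi ((gMap f (inf_le_left : A ⊓ B ≤ A)).app (I.X n)) := epi_gMap f (I.X n) _
  have w1 : kernel.ι ((gMap f (le_sup_left : A ≤ A ⊔ B)).app (I.X n)) ≫
      (gMap f (le_sup_left : A ≤ A ⊔ B)).app (I.X n) = 0 := kernel.condition _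
  have hw := (gMap_comp f (I.X n) (inf_le_left : A ⊓ B ≤ A) le_sup_left).trans
    (gMap_comp f (I.X n) (inf_le_right : A ⊓ B ≤ B) le_sup_right).symm
  exact shortExact_square ((gMap f (le_sup_left : A ≤ A ⊔ B)).app (I.X n))
    ((gMap f (le_sup_right : B ≤ A ⊔ B)).app (I.X n)) ((gMap f (inf_le_left : A ⊓ B ≤ A)).app (I.X n))
    ((gMap f (inf_le_right : A ⊓ B ≤ B)).app (I.X n)) hw
    (by rw [Category.assoc, ← hw, kernel.condition_assoc, zero_comp])
    (shortExact_right f A B (I.X n) (kernel.ι _) w1 (ShortComplex.exact_of_f_is_kernel _ (kernelIsKernel _))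
      inferInstance _)

/-- The derived direct image from an open, computed on a K-injective complex. -/
theorem nonempty_Rpush_restrict_iso (W : X.Opens) (g : (W : Scheme.{u}) ⟶ Y) (hg : g = W.ι ≫ f) [DCoh.HasRpush g]
    (I : CochainComplex X.Modules ℤ) [I.IsKInjective] {E : DCoh.D X} (e : DCoh.toD X I ≅ E) :
    Nonempty ((DCoh.Rpush g).obj ((DCoh.restrictD W.ι).obj E) ≅ DCoh.toD Y (gCxZ f W I)) := by
  subst hg
  haveI : ((resCx W.ι).obj I).IsKInjective := isKInjective_resCx W.ι I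
  let ηg := (DCoh.pushKh (W.ι ≫ f)).totalRightDerivedUnit DerivedCategory.Qh
    (HomotopyCategory.quasiIso (W : Scheme.{u}).Modules (ComplexShape.up ℤ))
  haveI : IsIso (ηg.app ((HomotopyCategory.quotient _ _).obj ((resCx W.ι).obj I))) :=
    isIso_Rpush_unit (W.ι ≫ f) ⟨_, inferInstance, rfl⟩
  let eg : (DCoh.Rpush (W.ι ≫ f)).obj (DCoh.toD (W : Scheme.{u}) ((resCx W.ι).obj I)) ≅
      DCoh.toD Y (((Scheme.Modules.pushforward (W.ι ≫ f)).mapHomologicalComplex (ComplexShape.up ℤ)).obj ((resCx W.ι).obj I)) :=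
    (asIso (ηg.app ((HomotopyCategory.quotient _ _).obj ((resCx W.ι).obj I)))).symm
  exact ⟨(DCoh.Rpush (W.ι ≫ f)).mapIso ((DCoh.restrictD W.ι).mapIso e.symm ≪≫ restrictObjIso W.ι I) ≪≫ eg ≪≫
    DerivedCategory.Q.mapIso (HomologicalComplex.Hom.isoOfComponents (fun n => Iso.refl _)
      (fun a b _ => by simp))⟩

/-- Everything is a restriction to an open containing everything. -/
theorem nonempty_gCxZ_top_iso (W : X.Opens) (hW : W = ⊤) (I : CochainComplex X.Modules ℤ) :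
    Nonempty (gCxZ f W I ≅ ((Scheme.Modules.pushforward f).mapHomologicalComplex (ComplexShape.up ℤ)).obj I) := by
  let α : Scheme.Modules.pushforward f ≅ gFun f W :=
    (Functor.rightUnitor _).symm ≪≫
      Functor.isoWhiskerLeft _ (Scheme.Modules.restrictFunctorId (X := Y)).symm ≪≫
      pushResIso f (𝟙 Y) W.ι (W.ι ≫ f) (by simp) (by rw [Scheme.Opens.opensRange_ι, hW, Scheme.Hom.opensRange_of_isIso]; rfl)
  exact ⟨((NatIso.mapHomologicalComplex α (ComplexShape.up ℤ)).app I).symm⟩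

/-- The Mayer-Vietoris triangle, with the three restricted direct images. -/
theorem exists_mv_triangle (A B : X.Opens) (hAB : A ⊔ B = ⊤) (gA : (A : Scheme.{u}) ⟶ Y) (hA : gA = A.ι ≫ f)
    (gB : (B : Scheme.{u}) ⟶ Y) (hB : gB = B.ι ≫ f)
    (gC : ((A ⊓ B : X.Opens) : Scheme.{u}) ⟶ Y) (hC : gC = (A ⊓ B).ι ≫ f)
    [DCoh.HasRpush gA] [DCoh.HasRpush gB] [DCoh.HasRpush gC] (E : DCoh.D X) (Z : DCoh.D Y)
    (hZ : ∀ (I : CochainComplex X.Modules ℤ), I.IsKInjective → (DCoh.toD X I ≅ E) →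
      Nonempty (DCoh.toD Y (((Scheme.Modules.pushforward f).mapHomologicalComplex (ComplexShape.up ℤ)).obj I) ≅ Z)) :
    ∃ (a : Z ⟶ ((DCoh.Rpush gA).obj ((DCoh.restrictD A.ι).obj E) ⊞ (DCoh.Rpush gB).obj ((DCoh.restrictD B.ι).obj E)))
      (b : ((DCoh.Rpush gA).obj ((DCoh.restrictD A.ι).obj E) ⊞ (DCoh.Rpush gB).obj ((DCoh.restrictD B.ι).obj E)) ⟶
        (DCoh.Rpush gC).obj ((DCoh.restrictD (A ⊓ B).ι).obj E))
      (c : (DCoh.Rpush gC).obj ((DCoh.restrictD (A ⊓ B).ι).obj E) ⟶ Z⟦(1 : ℤ)⟧),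
      Pretriangulated.Triangle.mk a b c ∈ Pretriangulated.distinguishedTriangles := by
  obtain ⟨I, s, hI, hs, -, hinj⟩ := Groth.Agent.S0476.result (DerivedCategory.Q.objPreimage E)
  haveI := hs
  haveI := hI
  haveI := hinj
  let eE : DCoh.toD X I ≅ E := (asIso (DerivedCategory.Q.map s)).symm ≪≫ DerivedCategory.Q.objObjPreimageIso E
  obtain ⟨eA⟩ := nonempty_Rpush_restrict_iso f A gA hA I eE
  obtain ⟨eB⟩ := nonempty_Rpush_restrict_iso f B gB hB I eE
  obtain ⟨eC⟩ := nonempty_Rpush_restrict_iso f (A ⊓ B) gC hC I eE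
  obtain ⟨eT⟩ := nonempty_gCxZ_top_iso f (A ⊔ B) hAB I
  obtain ⟨eZ⟩ := hZ I hI eE
  have hS := shortExact_mv f A B I
  let T := DerivedCategory.triangleOfSES hS
  let e₁ : Z ≅ T.obj₁ := eZ.symm ≪≫ DerivedCategory.Q.mapIso eT.symm
  haveI := preservesBinaryBiproducts_of_preservesBiproducts (DerivedCategory.Q (C := Y.Modules))
  let e₂ : ((DCoh.Rpush gA).obj ((DCoh.restrictD A.ι).obj E) ⊞ (DCoh.Rpush gB).obj ((DCoh.restrictD B.ι).obj E)) ≅ T.obj₂ :=
    biprod.mapIso eA eB ≪≫ (DerivedCategory.Q.mapBiprod _ _).symm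
  let e₃ : (DCoh.Rpush gC).obj ((DCoh.restrictD (A ⊓ B).ι).obj E) ≅ T.obj₃ := eC
  refine ⟨e₁.hom ≫ T.mor₁ ≫ e₂.inv, e₂.hom ≫ T.mor₂ ≫ e₃.inv, e₃.hom ≫ T.mor₃ ≫ e₁.inv⟦(1 : ℤ)⟧',
    Pretriangulated.isomorphic_distinguished _ (DerivedCategory.triangleOfSES_distinguished hS) _
      (Pretriangulated.Triangle.isoMk _ T e₁ e₂ e₃ (by simp) (by simp) (by simp [← Functor.map_comp]))⟩

end Groth.Agent.DCohBridge
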