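import Groth.Agent.DCohBridge.LocalLift

/-!
Local description of perfect and pseudo-coherent objects.
-/

set_option backward.isDefEq.respectTransparency false
set_option backward.defeqAttrib.useBackward true

universe u

open CategoryTheory Limits AlgebraicGeometry Pretriangulated

attribute [local instance] HasDerivedCategory.standard

namespace Groth.Agent.DCohBridge

variable {X V W : Scheme.{u}}

/-- The restriction of a represented object. -/
noncomputable def restrictObjIso (j : V ⟶ X) [IsOpenImmersion j] (F : CochainComplex X.Modules ℤ) :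
    (DCoh.restrictD j).obj (DCoh.toD X F) ≅ DCoh.toD V ((resCx j).obj F) :=
  (Scheme.Modules.restrictFunctor j).mapDerivedCategoryFactors.app F

/-- Restricting twice in the derived category. -/
noncomputable def compObjIso (k : W ⟶ V) [IsOpenImmersion k] (j : V ⟶ X) [IsOpenImmersion j] (K : DCoh.D X) :
    (DCoh.restrictD (k ≫ j)).obj K ≅ (DCoh.restrictD k).obj ((DCoh.restrictD j).obj K) :=
  (DCoh.restrictD (k ≫ j)).mapIso (DerivedCategory.Q.objObjPreimageIso K).symm ≪≫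
    restrictObjIso (k ≫ j) _ ≪≫ DerivedCategory.Q.mapIso ((resCxCompIso k j).app _) ≪≫
    (restrictObjIso k _).symm ≪≫ (DCoh.restrictD k).mapIso ((restrictObjIso j _).symm ≪≫
      (DCoh.restrictD j).mapIso (DerivedCategory.Q.objObjPreimageIso K))

/-- Restricting twice, along an equality. -/
noncomputable def compObjIso' (k : W ⟶ V) [IsOpenImmersion k] (j : V ⟶ X) [IsOpenImmersion j]
    (l : W ⟶ X) [IsOpenImmersion l] (h : k ≫ j = l) (K : DCoh.D X) :
    (DCoh.restrictD l).obj K ≅ (DCoh.restrictD k).obj ((DCoh.restrictD j).obj K) := by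
  subst h
  exact compObjIso k j K

lemma isStrictlyPerfect_res (j : V ⟶ X) [IsOpenImmersion j] {E : CochainComplex X.Modules ℤ}
    (hE : DCoh.IsStrictlyPerfect E) : DCoh.IsStrictlyPerfect ((resCx j).obj E) :=
  ⟨hE.1.imp fun _ ⟨b, hv⟩ => ⟨b, fun i hi => (Scheme.Modules.restrictFunctor j).map_isZero (hv i hi)⟩,
    fun i => isFinLocFree_res j hE i⟩

lemma isLE_restrictD (j : V ⟶ X) [IsOpenImmersion j] (K : DCoh.D X) (n : ℤ) [K.IsLE n] :
    ((DCoh.restrictD j).obj K).IsLE n := by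
  obtain ⟨F, _, ⟨e⟩⟩ := DerivedCategory.exists_iso_Q_obj_of_isLE K n
  haveI : ((resCx j).obj F).IsLE n := (CochainComplex.isLE_iff _ _).2 fun i hi =>
    exactAt_res j (F.exactAt_of_isLE n i hi)
  exact DerivedCategory.TStructure.t.isLE_of_iso ((DCoh.restrictD j).mapIso e ≪≫ restrictObjIso j F).symm n

/-- An isomorphism above `m`, surjective in degree `m`. -/
def Cond (m : ℤ) {A B : DCoh.D X} (f : A ⟶ B) : Prop :=
  (∀ i, m < i → IsIso ((DerivedCategory.homologyFunctor X.Modules i).map f)) ∧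
    Epi ((DerivedCategory.homologyFunctor X.Modules m).map f)

lemma cond_comp {m : ℤ} {A B C : DCoh.D X} {f : A ⟶ B} {g : B ⟶ C} (hf : Cond m f) (hg : Cond m g) :
    Cond m (f ≫ g) := by
  refine ⟨fun i hi => ?_, ?_⟩
  · haveI := hf.1 i hi; haveI := hg.1 i hi
    rw [Functor.map_comp]; infer_instance
  · haveI := hf.2; haveI := hg.2
    rw [Functor.map_comp]; exact epi_comp _ _

lemma cond_isIso (m : ℤ) {A B : DCoh.D X} (f : A ⟶ B) [IsIso f] : Cond m f :=
  ⟨fun _ _ => inferInstance, inferInstance⟩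

lemma cond_mono {m n : ℤ} (h : m ≤ n) {A B : DCoh.D X} {f : A ⟶ B} (hf : Cond m f) : Cond n f := by
  refine ⟨fun i hi => hf.1 i (by lia), ?_⟩
  rcases eq_or_lt_of_le h with rfl | h
  · exact hf.2
  · haveI := hf.1 n h; infer_instance

/-- The conditions in terms of the third term of a triangle. -/
theorem cond_iff_isLE {T : Triangle (DCoh.D X)} (hd : T ∈ distTriang (DCoh.D X)) (m : ℤ) :
    Cond m T.mor₁ ↔ T.obj₃.IsLE (m - 1) := by
  rw [DerivedCategory.isLE_iff]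
  have hmono : ∀ i, IsZero ((DerivedCategory.homologyFunctor X.Modules (i - 1)).obj T.obj₃) →
      Mono ((DerivedCategory.homologyFunctor X.Modules i).map T.mor₁) := fun i h =>
    (DerivedCategory.HomologySequence.exact₁ T hd (i - 1) i (by lia)).mono_g (h.eq_of_src _ _)
  have hepi : ∀ i, IsZero ((DerivedCategory.homologyFunctor X.Modules i).obj T.obj₃) →
      Epi ((DerivedCategory.homologyFunctor X.Modules i).map T.mor₁) := fun i h =>
    (DerivedCategory.HomologySequence.exact₂ T hd i).epi_f (h.eq_of_tgt _ _)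
  refine ⟨fun ⟨h1, h2⟩ i hi => ?_, fun h => ⟨fun i hi => ?_, hepi m (h m (by lia))⟩⟩
  · haveI : Epi ((DerivedCategory.homologyFunctor X.Modules i).map T.mor₁) := by
      rcases eq_or_lt_of_le (show m ≤ i by lia) with rfl | hlt
      · exact h2
      · haveI := h1 i hlt; infer_instance
    haveI := h1 (i + 1) (by lia)
    refine (DerivedCategory.HomologySequence.exact₃ T hd i (i + 1) rfl).isZero_of_both_zeros ?_ ?_
    · exact (cancel_epi ((DerivedCategory.homologyFunctor X.Modules i).map T.mor₁)).1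
        ((show (DerivedCategory.homologyFunctor X.Modules i).map T.mor₁ ≫ (DerivedCategory.homologyFunctor X.Modules i).map T.mor₂ = 0 by
          rw [← Functor.map_comp, comp_distTriang_mor_zero₁₂ T hd, Functor.map_zero]) |>.trans Limits.comp_zero.symm)
    · exact (cancel_mono ((DerivedCategory.homologyFunctor X.Modules (i + 1)).map T.mor₁)).1
        ((DerivedCategory.HomologySequence.δ_comp T hd i (i + 1) rfl).trans Limits.zero_comp.symm)
  · haveI := hmono i (h (i - 1) (by lia))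
    haveI := hepi i (h i (by lia))
    exact isIso_of_mono_of_epi _

lemma cond_shift {m : ℤ} {A B : DCoh.D X} {f : A ⟶ B} (hf : Cond m f) (n m' : ℤ) (h : n + m' = m) :
    Cond m' (f⟦n⟧') := by
  have key : ∀ i, IsIso ((DerivedCategory.homologyFunctor X.Modules i).map (f⟦n⟧')) ↔
      IsIso ((DerivedCategory.homologyFunctor X.Modules (n + i)).map f) := fun i =>
    NatIso.isIso_map_iff ((DerivedCategory.homologyFunctor X.Modules 0).shiftIso n i (n + i) rfl) f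
  refine ⟨fun i hi => (key i).2 (hf.1 _ (by lia)), ?_⟩
  let e := (DerivedCategory.homologyFunctor X.Modules 0).shiftIso n m' m h
  have hn : (DerivedCategory.homologyFunctor X.Modules m').map (f⟦n⟧') =
      e.hom.app A ≫ (DerivedCategory.homologyFunctor X.Modules m).map f ≫ e.inv.app B :=
    (NatIso.naturality_2 e f).symm
  haveI := hf.2
  rw [hn]
  infer_instance

lemma cond_restrictD (j : V ⟶ X) [IsOpenImmersion j] {m : ℤ} {A B : DCoh.D X} {f : A ⟶ B} (hf : Cond m f) :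
    Cond m ((DCoh.restrictD j).map f) := by
  obtain ⟨C, g, h, hT⟩ := distinguished_cocone_triangle f
  haveI hC : C.IsLE (m - 1) := (cond_iff_isLE (T := Triangle.mk f g h) hT m).1 hf
  exact (cond_iff_isLE ((DCoh.restrictD j).map_distinguished _ hT) m).2 (isLE_restrictD j C (m - 1))

/-- Shifts of strictly perfect complexes. -/
lemma isStrictlyPerfect_shift {E : CochainComplex X.Modules ℤ} (hE : DCoh.IsStrictlyPerfect E) (n : ℤ) :
    DCoh.IsStrictlyPerfect (E⟦n⟧) :=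
  ⟨by obtain ⟨a, b, hv⟩ := hE.1; exact ⟨a - n, b - n, fun i hi => hv (i + n) (by lia)⟩, fun i => hE.2 (i + n)⟩

/-- `K` is perfect near `x`. -/
def PerfAt (K : DCoh.D X) (x : X) : Prop :=
  ∃ (V : Scheme.{u}) (j : V ⟶ X) (_ : IsOpenImmersion j) (v : V) (E : CochainComplex V.Modules ℤ),
    j.base v = x ∧ DCoh.IsStrictlyPerfect E ∧ Nonempty ((DCoh.restrictD j).obj K ≅ DCoh.toD V E)

/-- `K` is `m`-pseudo-coherent near `x`. -/
def PCAt (m : ℤ) (K : DCoh.D X) (x : X) : Prop :=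
  ∃ (V : Scheme.{u}) (j : V ⟶ X) (_ : IsOpenImmersion j) (v : V) (E : CochainComplex V.Modules ℤ)
    (f : DCoh.toD V E ⟶ (DCoh.restrictD j).obj K),
    j.base v = x ∧ DCoh.IsStrictlyPerfect E ∧ Cond m f

theorem isPerfect_iff (K : DCoh.D X) : DCoh.IsPerfect K ↔ ∀ x, PerfAt K x := by
  refine ⟨fun h x => ?_, fun h x => ?_⟩
  · obtain ⟨V, hx, hF⟩ := h x
    obtain ⟨E, hE, ⟨e⟩⟩ := hF _ ⟨DerivedCategory.Q.objObjPreimageIso K⟩
    exact ⟨V, V.ι, inferInstance, ⟨x, hx⟩, E, rfl, hE,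
      ⟨(DCoh.restrictD V.ι).mapIso (DerivedCategory.Q.objObjPreimageIso K).symm ≪≫ restrictObjIso V.ι _ ≪≫ e⟩⟩
  · obtain ⟨V, j, _, v, E, hv, hE, ⟨e⟩⟩ := h x
    let k := j.isoOpensRange.inv
    refine ⟨j.opensRange, ⟨v, hv⟩, fun F ⟨eF⟩ => ⟨(resCx k).obj E, isStrictlyPerfect_res k hE,
      ⟨(restrictObjIso _ F).symm ≪≫ (DCoh.restrictD j.opensRange.ι).mapIso eF ≪≫
        compObjIso' k j _ (by rw [Iso.inv_comp_eq, Scheme.Hom.isoOpensRange_hom_ι]) K ≪≫
        (DCoh.restrictD k).mapIso e ≪≫ restrictObjIso k E⟩⟩⟩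

theorem isPseudoCoherentD_iff (m : ℤ) (K : DCoh.D X) : DCoh.IsPseudoCoherentD m K ↔ ∀ x, PCAt m K x := by
  refine ⟨fun h x => ?_, fun h x => ?_⟩
  · obtain ⟨V, hx, hF⟩ := h x
    obtain ⟨E, α, hE, h1, h2⟩ := hF _ ⟨DerivedCategory.Q.objObjPreimageIso K⟩
    let e := (restrictObjIso V.ι _).symm ≪≫ (DCoh.restrictD V.ι).mapIso (DerivedCategory.Q.objObjPreimageIso K)
    exact ⟨V, V.ι, inferInstance, ⟨x, hx⟩, E, α ≫ e.hom, rfl, hE, cond_comp ⟨h1, h2⟩ (cond_isIso m e.hom)⟩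
  · obtain ⟨V, j, _, v, E, f, hv, hE, hf⟩ := h x
    let k := j.isoOpensRange.inv
    refine ⟨j.opensRange, ⟨v, hv⟩, fun F ⟨eF⟩ => ?_⟩
    let e := (compObjIso' k j j.opensRange.ι (by rw [Iso.inv_comp_eq, Scheme.Hom.isoOpensRange_hom_ι]) K).symm ≪≫
      (DCoh.restrictD j.opensRange.ι).mapIso eF.symm ≪≫ restrictObjIso _ F
    have hc := cond_comp (cond_isIso m (restrictObjIso k E).inv) (cond_comp (cond_restrictD k hf) (cond_isIso m e.hom))
    exact ⟨(resCx k).obj E, _, isStrictlyPerfect_res k hE, hc.1, hc.2⟩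

lemma PerfAt.of_iso {K L : DCoh.D X} (e : K ≅ L) {x : X} (h : PerfAt K x) : PerfAt L x := by
  obtain ⟨V, j, hj, v, E, hv, hE, ⟨eE⟩⟩ := h
  exact ⟨V, j, hj, v, E, hv, hE, ⟨(DCoh.restrictD j).mapIso e.symm ≪≫ eE⟩⟩

lemma PerfAt.shift {K : DCoh.D X} {x : X} (h : PerfAt K x) (n : ℤ) : PerfAt (K⟦n⟧) x := by
  obtain ⟨V, j, hj, v, E, hv, hE, ⟨eE⟩⟩ := h
  exact ⟨V, j, hj, v, E⟦n⟧, hv, isStrictlyPerfect_shift hE n,
    ⟨((DCoh.restrictD j).commShiftIso n).app K ≪≫ (shiftFunctor _ n).mapIso eE ≪≫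
      ((DerivedCategory.Q.commShiftIso n).app E).symm⟩⟩

lemma PerfAt.exists_le {K : DCoh.D X} {x : X} (h : PerfAt K x) :
    ∃ U : X.Opens, x ∈ U ∧ ∀ V : X.Opens, V ≤ U → ∃ E, DCoh.IsStrictlyPerfect E ∧
      Nonempty ((DCoh.restrictD V.ι).obj K ≅ DCoh.toD (V : Scheme.{u}) E) := by
  obtain ⟨W, j, _, w, E, hw, hE, ⟨e⟩⟩ := h
  refine ⟨j.opensRange, ⟨w, hw⟩, fun V hV => ?_⟩
  let k := X.homOfLE hV ≫ j.isoOpensRange.inv
  exact ⟨(resCx k).obj E, isStrictlyPerfect_res k hE,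
    ⟨compObjIso' k j V.ι (by simp [k]) K ≪≫ (DCoh.restrictD k).mapIso e ≪≫ restrictObjIso k E⟩⟩

/-- The cone of a map between perfect objects is perfect. -/
theorem PerfAt.obj₃ (T : Triangle (DCoh.D X)) (hT : T ∈ distTriang (DCoh.D X)) {x : X}
    (h₁ : PerfAt T.obj₁ x) (h₂ : PerfAt T.obj₂ x) : PerfAt T.obj₃ x := by
  obtain ⟨U₁, hx₁, g₁⟩ := h₁.exists_le
  obtain ⟨U₂, hx₂, g₂⟩ := h₂.exists_le
  obtain ⟨E₁, hE₁, ⟨e₁⟩⟩ := g₁ (U₁ ⊓ U₂) inf_le_left
  obtain ⟨E₂, hE₂, ⟨e₂⟩⟩ := g₂ (U₁ ⊓ U₂) inf_le_right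
  let j := (U₁ ⊓ U₂).ι
  obtain ⟨W, hxW, β, hβ⟩ := exists_chainMap hE₁ (e₁.inv ≫ (DCoh.restrictD j).map T.mor₁ ≫ e₂.hom) ⟨x, hx₁, hx₂⟩
  let k := W.ι
  have hc : DCoh.IsStrictlyPerfect (CochainComplex.mappingCone β) :=
    isStrictlyPerfect_cone β (isStrictlyPerfect_res k hE₁) (isStrictlyPerfect_res k hE₂)
  refine ⟨W, k ≫ j, inferInstance, ⟨⟨x, hx₁, hx₂⟩, hxW⟩, _, rfl, hc, ⟨compObjIso k j T.obj₃ ≪≫ ?_⟩⟩
  refine Triangle.π₃.mapIso (isoTriangleOfIso₁₂ _ _
    ((DCoh.restrictD k).map_distinguished _ ((DCoh.restrictD j).map_distinguished _ hT))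
    (DerivedCategory.mappingCone_triangle_distinguished β)
    ((DCoh.restrictD k).mapIso e₁ ≪≫ restrictObjIso k E₁)
    ((DCoh.restrictD k).mapIso e₂ ≪≫ restrictObjIso k E₂) ?_)
  dsimp
  rw [← cancel_epi ((DCoh.restrictD k).map e₁.inv)]
  simp only [← Category.assoc, ← Functor.map_comp, Iso.inv_hom_id, CategoryTheory.Functor.map_id]
  simp only [Category.assoc]
  rw [Category.id_comp, ← cancel_mono (restrictObjIso k E₂).inv, Category.assoc, Iso.hom_inv_id, Category.comp_id]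
  exact hβ.trans (Category.assoc _ _ _).symm

/-- Two out of three for perfect objects. -/
theorem isPerfect_obj₃ (T : Triangle (DCoh.D X)) (hT : T ∈ distTriang (DCoh.D X))
    (h₁ : DCoh.IsPerfect T.obj₁) (h₂ : DCoh.IsPerfect T.obj₂) : DCoh.IsPerfect T.obj₃ :=
  (isPerfect_iff _).2 fun x => PerfAt.obj₃ T hT ((isPerfect_iff _).1 h₁ x) ((isPerfect_iff _).1 h₂ x)

theorem isPerfect_shift {K : DCoh.D X} (h : DCoh.IsPerfect K) (n : ℤ) : DCoh.IsPerfect (K⟦n⟧) :=
  (isPerfect_iff _).2 fun x => ((isPerfect_iff _).1 h x).shift n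

theorem isPerfect_of_iso {K L : DCoh.D X} (e : K ≅ L) (h : DCoh.IsPerfect K) : DCoh.IsPerfect L :=
  (isPerfect_iff _).2 fun x => ((isPerfect_iff _).1 h x).of_iso e

theorem isPerfect_obj₂ (T : Triangle (DCoh.D X)) (hT : T ∈ distTriang (DCoh.D X))
    (h₁ : DCoh.IsPerfect T.obj₁) (h₃ : DCoh.IsPerfect T.obj₃) : DCoh.IsPerfect T.obj₂ :=
  isPerfect_obj₃ T.invRotate (inv_rot_of_distTriang _ hT) (isPerfect_shift h₃ (-1)) h₁

theorem isPerfect_obj₁ (T : Triangle (DCoh.D X)) (hT : T ∈ distTriang (DCoh.D X))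
    (h₂ : DCoh.IsPerfect T.obj₂) (h₃ : DCoh.IsPerfect T.obj₃) : DCoh.IsPerfect T.obj₁ :=
  isPerfect_obj₂ T.invRotate (inv_rot_of_distTriang _ hT) (isPerfect_shift h₃ (-1)) h₂

end Groth.Agent.DCohBridge
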