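import Groth.Agent.DCohBridge.ExtZero
import Groth.Agent.DCohBridge.PushDerived
import Groth.Agent.DCohBridge.PerfectLocal
import Mathlib.AlgebraicGeometry.Modules.Sheaf

/-!
Direct images commute with restriction to an open subscheme of the base.
-/

set_option backward.isDefEq.respectTransparency false
set_option backward.defeqAttrib.useBackward true

noncomputable section

universe u

open CategoryTheory Limits AlgebraicGeometry Opposite TopologicalSpace

attribute [local instance] HasDerivedCategory.standard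

namespace Groth.Agent.DCohBridge

variable {X Y U U' : Scheme.{u}} (f : X ⟶ Y) (j : U ⟶ Y) [IsOpenImmersion j] (k : U' ⟶ X)
  [IsOpenImmersion k] (g : U' ⟶ U) (w : k ≫ f = g ≫ j) (hk : k.opensRange = f ⁻¹ᵁ j.opensRange)

include hk in
theorem isIso_unit_whisker : IsIso (Functor.whiskerRight (Scheme.Modules.restrictAdjunction k).unit
    (Scheme.Modules.pushforward f ⋙ Scheme.Modules.restrictFunctor j)) := by
  have : ∀ N : X.Modules, IsIso ((Functor.whiskerRight (Scheme.Modules.restrictAdjunction k).unit
      (Scheme.Modules.pushforward f ⋙ Scheme.Modules.restrictFunctor j)).app N) := fun N => by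
    rw [Scheme.Modules.Hom.isIso_iff_isIso_app]
    intro T
    change IsIso (((Scheme.Modules.restrictAdjunction k).unit.app N).app (f ⁻¹ᵁ (j ''ᵁ T)))
    rw [Scheme.Modules.restrictAdjunction_unit_app_app]
    have hle : f ⁻¹ᵁ (j ''ᵁ T) ≤ k.opensRange := by
      rw [hk]; exact f.preimage_mono (j.image_le_opensRange T)
    have hT : k ''ᵁ k ⁻¹ᵁ (f ⁻¹ᵁ (j ''ᵁ T)) = f ⁻¹ᵁ (j ''ᵁ T) := by
      rw [Scheme.Hom.image_preimage_eq_opensRange_inf]
      exact inf_eq_right.2 hle
    haveI : IsIso (homOfLE (k.image_preimage_le (f ⁻¹ᵁ (j ''ᵁ T)))) :=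
      ⟨eqToHom hT.symm, Subsingleton.elim _ _, Subsingleton.elim _ _⟩
    exact Functor.map_isIso N.presheaf _
  exact NatIso.isIso_of_isIso_app _

/-- Direct image commutes with restriction to an open of the base. -/
def pushResIso : Scheme.Modules.pushforward f ⋙ Scheme.Modules.restrictFunctor j ≅
    Scheme.Modules.restrictFunctor k ⋙ Scheme.Modules.pushforward g :=
  haveI := isIso_unit_whisker f j k hk
  (Functor.leftUnitor _).symm ≪≫
    asIso (Functor.whiskerRight (Scheme.Modules.restrictAdjunction k).unit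
      (Scheme.Modules.pushforward f ⋙ Scheme.Modules.restrictFunctor j)) ≪≫
    Functor.associator _ _ _ ≪≫
    Functor.isoWhiskerLeft (Scheme.Modules.restrictFunctor k)
      ((Functor.associator _ _ _).symm ≪≫
        Functor.isoWhiskerRight (Scheme.Modules.pushforwardComp k f ≪≫
          Scheme.Modules.pushforwardCongr w ≪≫ (Scheme.Modules.pushforwardComp g j).symm)
          (Scheme.Modules.restrictFunctor j) ≪≫
        Functor.associator _ _ _ ≪≫
        Functor.isoWhiskerLeft (Scheme.Modules.pushforward g) (Scheme.Modules.restrictFunctorAdjCounitIso j) ≪≫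
        Functor.rightUnitor _)

/-- The same for complexes. -/
def pushResCxIso (I : CochainComplex X.Modules ℤ) :
    (resCx j).obj (((Scheme.Modules.pushforward f).mapHomologicalComplex (ComplexShape.up ℤ)).obj I) ≅
      ((Scheme.Modules.pushforward g).mapHomologicalComplex (ComplexShape.up ℤ)).obj ((resCx k).obj I) :=
  HomologicalComplex.Hom.isoOfComponents (fun n => (pushResIso f j k g w hk).app (I.X n))
    fun a b _ => ((pushResIso f j k g w hk).hom.naturality (I.d a b)).symm

include w hk in
/-- Derived direct image commutes with restriction to an open of the base. -/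
theorem nonempty_restrictD_Rpush [DCoh.HasRpush f] [DCoh.HasRpush g] (E : DCoh.D X) :
    Nonempty ((DCoh.restrictD j).obj ((DCoh.Rpush f).obj E) ≅
      (DCoh.Rpush g).obj ((DCoh.restrictD k).obj E)) := by
  obtain ⟨I, s, hI, hs⟩ := exists_kInj X (DerivedCategory.Q.objPreimage E)
  haveI := hs
  haveI := hI
  haveI : ((resCx k).obj I).IsKInjective := isKInjective_resCx k I
  let ηf := (DCoh.pushKh f).totalRightDerivedUnit DerivedCategory.Qh
    (HomotopyCategory.quasiIso X.Modules (ComplexShape.up ℤ))
  let ηg := (DCoh.pushKh g).totalRightDerivedUnit DerivedCategory.Qh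
    (HomotopyCategory.quasiIso U'.Modules (ComplexShape.up ℤ))
  haveI : IsIso (ηf.app ((HomotopyCategory.quotient _ _).obj I)) := isIso_Rpush_unit f ⟨I, hI, rfl⟩
  haveI : IsIso (ηg.app ((HomotopyCategory.quotient _ _).obj ((resCx k).obj I))) :=
    isIso_Rpush_unit g ⟨_, inferInstance, rfl⟩
  let eE : DCoh.toD X I ≅ E := (asIso (DerivedCategory.Q.map s)).symm ≪≫ DerivedCategory.Q.objObjPreimageIso E
  let ef : (DCoh.Rpush f).obj (DCoh.toD X I) ≅
      DCoh.toD Y (((Scheme.Modules.pushforward f).mapHomologicalComplex (ComplexShape.up ℤ)).obj I) :=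
    (asIso (ηf.app ((HomotopyCategory.quotient _ _).obj I))).symm
  let eg : (DCoh.Rpush g).obj (DCoh.toD U' ((resCx k).obj I)) ≅
      DCoh.toD U (((Scheme.Modules.pushforward g).mapHomologicalComplex (ComplexShape.up ℤ)).obj ((resCx k).obj I)) :=
    (asIso (ηg.app ((HomotopyCategory.quotient _ _).obj ((resCx k).obj I)))).symm
  exact ⟨(DCoh.restrictD j).mapIso ((DCoh.Rpush f).mapIso eE.symm ≪≫ ef) ≪≫ restrictObjIso j _ ≪≫
    DerivedCategory.Q.mapIso (pushResCxIso f j k g w hk I) ≪≫ eg.symm ≪≫
    (DCoh.Rpush g).mapIso ((restrictObjIso k I).symm ≪≫ (DCoh.restrictD k).mapIso eE)⟩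

end Groth.Agent.DCohBridge
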