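import Groth.Agent.DCohBridge.PushDerived
import Groth.Agent.DerCat.LeftDerivUnique

/-!
Composition of derived direct images.
-/

set_option backward.isDefEq.respectTransparency false
set_option backward.defeqAttrib.useBackward true

universe u

open CategoryTheory Limits AlgebraicGeometry

attribute [local instance] HasDerivedCategory.standard

namespace Groth.Agent.DCohBridge

variable {X Y Z : Scheme.{u}}

/-- Isomorphisms are detected on K-flat complexes. -/
lemma isIso_of_bijective_kFlat {A B : DCoh.D Y} (a : A ⟶ B)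
    (h : ∀ L, kFlatP Y L → Function.Bijective (fun φ : DerivedCategory.Qh.obj L ⟶ A => φ ≫ a)) : IsIso a := by
  have hall : ∀ C : DCoh.D Y, Function.Bijective (fun φ : C ⟶ A => φ ≫ a) := fun C => by
    obtain ⟨P, s, hP, hs⟩ := exists_kFlatP (Y := Y) (DerivedCategory.Qh.objPreimage C)
    haveI := Localization.inverts DerivedCategory.Qh (HomotopyCategory.quasiIso Y.Modules (ComplexShape.up ℤ)) s hs
    let e : DerivedCategory.Qh.obj P ≅ C := asIso (DerivedCategory.Qh.map s) ≪≫ DerivedCategory.Qh.objObjPreimageIso C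
    refine ⟨fun φ ψ he => ?_, fun ψ => ?_⟩
    · rw [← cancel_epi e.hom]
      exact (h P hP).1 (by simp only [Category.assoc]; exact congrArg (e.hom ≫ ·) he)
    · obtain ⟨φ, hφ⟩ := (h P hP).2 (e.hom ≫ ψ)
      refine ⟨e.inv ≫ φ, ?_⟩
      change (e.inv ≫ φ) ≫ a = ψ
      rw [Category.assoc, show φ ≫ a = e.hom ≫ ψ from hφ, e.inv_hom_id_assoc]
  obtain ⟨b, hb⟩ := (hall B).2 (𝟙 B)
  refine ⟨b, (hall A).1 ?_, hb⟩
  change (a ≫ b) ≫ a = 𝟙 A ≫ a
  rw [Category.assoc, show b ≫ a = 𝟙 B from hb, Category.comp_id, Category.id_comp]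

variable (f : X ⟶ Y) (g : Y ⟶ Z)

/-- `g_* f_* = (f g)_*` on homotopy categories. -/
noncomputable def pushHComp : pushH f ⋙ pushH g ≅ pushH (f ≫ g) :=
  Functor.mapHomotopyCategoryCompIso (Scheme.Modules.pushforwardComp f g) (ComplexShape.up ℤ)

/-- `g_*` sends a K-injective resolution of `f_* I` to a quasi-isomorphism. -/
theorem isIso_Qh_map_push {I : HomotopyCategory X.Modules (ComplexShape.up ℤ)} (hI : kInjP X I)
    {J : HomotopyCategory Y.Modules (ComplexShape.up ℤ)} (hJ : kInjP Y J) (s : (pushH f).obj I ⟶ J)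
    (hs : HomotopyCategory.quasiIso Y.Modules (ComplexShape.up ℤ) s) :
    IsIso (DerivedCategory.Qh.map ((pushH g).map s)) := by
  refine isIso_of_bijective_kFlat _ fun L hL => ?_
  haveI := Localization.inverts DerivedCategory.Qh _ s hs
  have h1 : Function.Bijective (DerivedCategory.Qh.map : (L ⟶ (pushH g).obj ((pushH f).obj I)) → _) := by
    have hb := bijective_Qh_map (f ≫ g) hL hI
    let e := (pushHComp f g).app I
    let e1 : (L ⟶ (pushH g).obj ((pushH f).obj I)) ≃ (L ⟶ (pushH (f ≫ g)).obj I) := Iso.homToEquiv e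
    let e2 : (DerivedCategory.Qh.obj L ⟶ DerivedCategory.Qh.obj ((pushH g).obj ((pushH f).obj I))) ≃
        (DerivedCategory.Qh.obj L ⟶ DerivedCategory.Qh.obj ((pushH (f ≫ g)).obj I)) :=
      Iso.homToEquiv (DerivedCategory.Qh.mapIso e)
    have : (DerivedCategory.Qh.map : (L ⟶ (pushH g).obj ((pushH f).obj I)) → _) =
        e2.symm ∘ DerivedCategory.Qh.map ∘ e1 := funext fun a => by
      apply e2.injective
      simp only [Function.comp_apply, Equiv.apply_symm_apply]
      exact (DerivedCategory.Qh.map_comp a e.hom).symm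
    rw [this]
    exact e2.symm.bijective.comp (hb.comp e1.bijective)
  have h2 := bijective_Qh_map g hL hJ
  -- the map between the homotopy Hom groups
  have hM : kFlatP Y ((pullH g).obj L) := by
    obtain ⟨K, hK, rfl⟩ := hL
    exact ⟨_, isKFlat_pull g hK, rfl⟩
  have h4 : Function.Bijective (fun t : (pullH g).obj L ⟶ (pushH f).obj I => t ≫ s) := by
    obtain ⟨J', hJ', rfl⟩ := hJ
    have hl := bijective_Qh_map f hM hI
    have hr := CochainComplex.IsKInjective.Qh_map_bijective ((pullH g).obj L) J'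
    refine (Function.Bijective.of_comp_iff' hr _).1 ?_
    have : DerivedCategory.Qh.map ∘ (fun t : (pullH g).obj L ⟶ (pushH f).obj I => t ≫ s) =
        Iso.homToEquiv (asIso (DerivedCategory.Qh.map s)) ∘ DerivedCategory.Qh.map := funext fun t => by
      exact DerivedCategory.Qh.map_comp t s
    rw [this]
    exact (Equiv.bijective _).comp hl
  have h3 : Function.Bijective (fun t : L ⟶ (pushH g).obj ((pushH f).obj I) => t ≫ (pushH g).map s) := by
    have : (fun t : L ⟶ (pushH g).obj ((pushH f).obj I) => t ≫ (pushH g).map s) =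
        (adjH g).homEquiv L J ∘ (fun t => t ≫ s) ∘ ((adjH g).homEquiv L ((pushH f).obj I)).symm := funext fun t => by
      simp only [Function.comp_apply]
      rw [Adjunction.homEquiv_naturality_right, Equiv.apply_symm_apply]
    rw [this]
    exact (Equiv.bijective _).comp (h4.comp (Equiv.bijective _))
  refine (Function.Bijective.of_comp_iff _ h1).1 ?_
  have : (fun φ => φ ≫ DerivedCategory.Qh.map ((pushH g).map s)) ∘
      (DerivedCategory.Qh.map : (L ⟶ (pushH g).obj ((pushH f).obj I)) → _) =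
      DerivedCategory.Qh.map ∘ (fun t => t ≫ (pushH g).map s) := funext fun t =>
    (DerivedCategory.Qh.map_comp t ((pushH g).map s)).symm
  rw [this]
  exact h2.comp h3

/-- The unit of `Rg_*` at `f_* I` is invertible. -/
theorem isIso_Rpush_unit_push [DCoh.HasRpush g] {I : HomotopyCategory X.Modules (ComplexShape.up ℤ)}
    (hI : kInjP X I) :
    IsIso (((DCoh.pushKh g).totalRightDerivedUnit DerivedCategory.Qh
      (HomotopyCategory.quasiIso Y.Modules (ComplexShape.up ℤ))).app ((pushH f).obj I)) := by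
  obtain ⟨J, s, hJ, hs⟩ := exists_kInjP ((pushH f).obj I)
  let η := (DCoh.pushKh g).totalRightDerivedUnit DerivedCategory.Qh
      (HomotopyCategory.quasiIso Y.Modules (ComplexShape.up ℤ))
  haveI := Localization.inverts DerivedCategory.Qh _ s hs
  haveI := isIso_Qh_map_push f g hI hJ s hs
  haveI := isIso_Rpush_unit g hJ
  have h : IsIso ((DCoh.pushKh g).map s ≫ η.app J) := inferInstanceAs (IsIso (DerivedCategory.Qh.map ((pushH g).map s) ≫ _))
  rw [η.naturality] at h
  haveI : IsIso ((DerivedCategory.Qh ⋙ DCoh.Rpush g).map s) :=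
    inferInstanceAs (IsIso ((DCoh.Rpush g).map (DerivedCategory.Qh.map s)))
  exact IsIso.of_isIso_comp_right (η.app ((pushH f).obj I))
    ((DerivedCategory.Qh ⋙ DCoh.Rpush g).map s)

/-- `R(fg)_* = Rg_* Rf_*`. -/
theorem nonempty_Rpush_comp [DCoh.HasRpush f] [DCoh.HasRpush g] [DCoh.HasRpush (f ≫ g)] :
    Nonempty (DCoh.Rpush f ⋙ DCoh.Rpush g ≅ DCoh.Rpush (f ≫ g)) := by
  let qX := HomotopyCategory.quasiIso X.Modules (ComplexShape.up ℤ)
  let qY := HomotopyCategory.quasiIso Y.Modules (ComplexShape.up ℤ)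
  let uf := (DCoh.pushKh f).totalRightDerivedUnit DerivedCategory.Qh qX
  let ug := (DCoh.pushKh g).totalRightDerivedUnit DerivedCategory.Qh qY
  let β : DCoh.pushKh (f ≫ g) ⟶ DerivedCategory.Qh ⋙ DCoh.Rpush f ⋙ DCoh.Rpush g :=
    Functor.whiskerRight (pushHComp f g).inv DerivedCategory.Qh ≫ Functor.whiskerLeft (pushH f) ug ≫
      Functor.whiskerRight uf (DCoh.Rpush g)
  obtain ⟨e⟩ := DerCat.LeftDeriv.nonempty_iso_totalRightDerived DerivedCategory.Qh qX (DCoh.pushKh (f ≫ g))
    (kInjP X) exists_kInjP (fun P hP => isIso_Rpush_unit (f ≫ g) hP) (DCoh.Rpush f ⋙ DCoh.Rpush g) β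
    (fun P hP => by
      simp only [β, NatTrans.comp_app, Functor.whiskerRight_app, Functor.whiskerLeft_app]
      haveI := isIso_Rpush_unit f hP
      exact IsIso.comp_isIso' inferInstance
        (IsIso.comp_isIso' (isIso_Rpush_unit_push f g hP) (Functor.map_isIso (DCoh.Rpush g) _)))
  exact ⟨e.symm⟩

end Groth.Agent.DCohBridge
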