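import Groth.Agent.DCohBridge.OpenBaseChange
import Groth.Agent.DCohBridge.PushComp
import Groth.Agent.DCohBridge.TildePull

/-!
Derived direct image commutes with restriction to an open of the base, as functors.
-/

set_option backward.isDefEq.respectTransparency false
set_option backward.defeqAttrib.useBackward true

noncomputable section

universe u

open CategoryTheory Limits AlgebraicGeometry

attribute [local instance] HasDerivedCategory.standard

namespace Groth.Agent.DCohBridge

variable {X Y U U' : Scheme.{u}} (f : X ⟶ Y) (j : U ⟶ Y) [IsOpenImmersion j] (k : U' ⟶ X)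
  [IsOpenImmersion k] (g : U' ⟶ U)

/-- Derived direct image commutes with restriction to an open of the base, naturally. -/
theorem nonempty_Rpush_restrictD_natIso (w : k ≫ f = g ≫ j) (hk : k.opensRange = f ⁻¹ᵁ j.opensRange)
    [DCoh.HasRpush f] [DCoh.HasRpush g] :
    Nonempty (DCoh.Rpush f ⋙ DCoh.restrictD j ≅ DCoh.restrictD k ⋙ DCoh.Rpush g) := by
  let qX := HomotopyCategory.quasiIso X.Modules (ComplexShape.up ℤ)
  let F := DCoh.pushKh f ⋙ DCoh.restrictD j
  haveI : F.HasRightDerivedFunctor qX := (Groth.Agent.S1032.result (exists_kInj X) F).1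
  have hF : ∀ P, kInjP X P → IsIso ((F.totalRightDerivedUnit DerivedCategory.Qh qX).app P) := by
    rintro P ⟨I, hI, rfl⟩
    exact (Groth.Agent.S1032.result (exists_kInj X) F).2 I hI
  let uf := (DCoh.pushKh f).totalRightDerivedUnit DerivedCategory.Qh qX
  let ug := (DCoh.pushKh g).totalRightDerivedUnit DerivedCategory.Qh
    (HomotopyCategory.quasiIso U'.Modules (ComplexShape.up ℤ))
  let resH := (Scheme.Modules.restrictFunctor k).mapHomotopyCategory (ComplexShape.up ℤ)
  let β₁ : F ⟶ DerivedCategory.Qh ⋙ DCoh.Rpush f ⋙ DCoh.restrictD j :=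
    Functor.whiskerRight uf (DCoh.restrictD j)
  obtain ⟨e₁⟩ := DerCat.LeftDeriv.nonempty_iso_totalRightDerived DerivedCategory.Qh qX F (kInjP X)
    exists_kInjP hF (DCoh.Rpush f ⋙ DCoh.restrictD j) β₁ (fun P hP => by
      haveI := isIso_Rpush_unit f hP
      exact Functor.map_isIso (DCoh.restrictD j) (uf.app P))
  let c : F ≅ resH ⋙ DCoh.pushKh g :=
    Functor.associator _ _ _ ≪≫
      Functor.isoWhiskerLeft (pushH f) (Scheme.Modules.restrictFunctor j).mapDerivedCategoryFactorsh ≪≫
      (Functor.associator _ _ _).symm ≪≫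
      Functor.isoWhiskerRight
        (Functor.mapHomotopyCategoryCompIso (pushResIso f j k g w hk) (ComplexShape.up ℤ) ≪≫
          (mapHomotopyCompIso (Scheme.Modules.restrictFunctor k) (Scheme.Modules.pushforward g)).symm)
        DerivedCategory.Qh ≪≫
      Functor.associator _ _ _
  let d : resH ⋙ DerivedCategory.Qh ⋙ DCoh.Rpush g ≅
      DerivedCategory.Qh ⋙ DCoh.restrictD k ⋙ DCoh.Rpush g :=
    (Functor.associator _ _ _).symm ≪≫
      Functor.isoWhiskerRight (Scheme.Modules.restrictFunctor k).mapDerivedCategoryFactorsh.symm (DCoh.Rpush g) ≪≫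
      Functor.associator _ _ _
  let β₂ : F ⟶ DerivedCategory.Qh ⋙ DCoh.restrictD k ⋙ DCoh.Rpush g :=
    c.hom ≫ Functor.whiskerLeft resH ug ≫ d.hom
  obtain ⟨e₂⟩ := DerCat.LeftDeriv.nonempty_iso_totalRightDerived DerivedCategory.Qh qX F (kInjP X)
    exists_kInjP hF (DCoh.restrictD k ⋙ DCoh.Rpush g) β₂ (fun P hP => by
      obtain ⟨I, hI, rfl⟩ := hP
      haveI := hI
      haveI : IsIso ((Functor.whiskerLeft resH ug).app ((HomotopyCategory.quotient _ _).obj I)) :=
        isIso_Rpush_unit g ⟨(resCx k).obj I, isKInjective_resCx k I, rfl⟩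
      exact IsIso.comp_isIso' inferInstance (IsIso.comp_isIso' inferInstance inferInstance))
  exact ⟨e₁.symm ≪≫ e₂⟩

end Groth.Agent.DCohBridge
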