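import Groth.Agent.DCohBridge.PCTriangle
import Groth.Agent.FlatModLib.Summand

/-!
Retracts of pseudo-coherent and perfect objects.
-/

set_option backward.isDefEq.respectTransparency false
set_option backward.defeqAttrib.useBackward true

universe u

open CategoryTheory Limits AlgebraicGeometry Pretriangulated

attribute [local instance] HasDerivedCategory.standard

namespace Groth.Agent.DCohBridge

variable {X V : Scheme.{u}}

lemma PCAt.of_res (j : V ⟶ X) [IsOpenImmersion j] {m : ℤ} {K : DCoh.D X} {v : V} {x : X} (hv : j.base v = x)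
    (h : PCAt m ((DCoh.restrictD j).obj K) v) : PCAt m K x := by
  obtain ⟨W, k, _, w, E, f, hw, hE, hf⟩ := h
  exact ⟨W, k ≫ j, inferInstance, w, E, f ≫ (compObjIso k j K).inv, by simp [hw, hv], hE,
    cond_comp hf (cond_isIso m _)⟩

lemma PerfAt.of_res (j : V ⟶ X) [IsOpenImmersion j] {K : DCoh.D X} {v : V} {x : X} (hv : j.base v = x)
    (h : PerfAt ((DCoh.restrictD j).obj K) v) : PerfAt K x := by
  obtain ⟨W, k, _, w, E, hw, hE, ⟨e⟩⟩ := h
  exact ⟨W, k ≫ j, inferInstance, w, E, by simp [hw, hv], hE, ⟨compObjIso k j K ≪≫ e⟩⟩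

lemma PCAt.res (j : V ⟶ X) [IsOpenImmersion j] {m : ℤ} {K : DCoh.D X} {v : V} {x : X} (hv : j.base v = x)
    (h : PCAt m K x) : PCAt m ((DCoh.restrictD j).obj K) v := by
  obtain ⟨U, hxU, g⟩ := h.exists_le
  obtain ⟨E, f, hE, -, hf⟩ := g U le_rfl
  let k := j ∣_ U
  exact ⟨_, (j ⁻¹ᵁ U).ι, inferInstance, ⟨v, show j.base v ∈ U from hv ▸ hxU⟩, (resCx k).obj E,
    (restrictObjIso k E).inv ≫ (DCoh.restrictD k).map f ≫
      ((compObjIso' k U.ι ((j ⁻¹ᵁ U).ι ≫ j) (morphismRestrict_ι j U) K).symm ≪≫ compObjIso _ j K).hom,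
    rfl, isStrictlyPerfect_res k hE,
    cond_comp (cond_isIso m _) (cond_comp (cond_restrictD k hf) (cond_isIso m _))⟩

lemma PerfAt.res (j : V ⟶ X) [IsOpenImmersion j] {K : DCoh.D X} {v : V} {x : X} (hv : j.base v = x)
    (h : PerfAt K x) : PerfAt ((DCoh.restrictD j).obj K) v := by
  obtain ⟨U, hxU, g⟩ := h.exists_le
  obtain ⟨E, hE, ⟨e⟩⟩ := g U le_rfl
  let k := j ∣_ U
  exact ⟨_, (j ⁻¹ᵁ U).ι, inferInstance, ⟨v, show j.base v ∈ U from hv ▸ hxU⟩, (resCx k).obj E, rfl,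
    isStrictlyPerfect_res k hE,
    ⟨(compObjIso _ j K).symm ≪≫ compObjIso' k U.ι ((j ⁻¹ᵁ U).ι ≫ j) (morphismRestrict_ι j U) K ≪≫
      (DCoh.restrictD k).mapIso e ≪≫ restrictObjIso k E⟩⟩

lemma isLE_of_retract {K W : DCoh.D X} (i : K ⟶ W) (r : W ⟶ K) (hir : i ≫ r = 𝟙 K) (n : ℤ) [W.IsLE n] :
    K.IsLE n := by
  rw [DerivedCategory.isLE_iff]
  intro q hq
  rw [IsZero.iff_id_eq_zero, ← CategoryTheory.Functor.map_id, ← hir, Functor.map_comp,
    (DerivedCategory.isZero_of_isLE W n q hq).eq_of_tgt ((DerivedCategory.homologyFunctor _ q).map i) 0, zero_comp]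

lemma isLE_mono {K : DCoh.D X} (p q : ℤ) (h : p ≤ q) [K.IsLE p] : K.IsLE q :=
  DerivedCategory.TStructure.t.isLE_of_le K p q h

lemma isLE_Q_of_vanishes {E : CochainComplex X.Modules ℤ} {a b : ℤ} (hv : DCoh.VanishesOutside E a b) :
    (DCoh.toD X E).IsLE b := by
  haveI : E.IsLE b := (CochainComplex.isLE_iff _ _).2 fun i hi =>
    ShortComplex.exact_of_isZero_X₂ _ (hv i (Or.inr hi))
  infer_instance

/-- Near `v`, the retraction factors through an object with cohomology one degree lower. -/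
theorem exists_reduce {m c : ℤ} {K W : DCoh.D X} (i : K ⟶ W) (r : W ⟶ K) (hir : i ≫ r = 𝟙 K) {x : X}
    (hW : PCAt m W x) [W.IsLE c] [K.IsLE (c - 1)] (hmc : m ≤ c) :
    ∃ (V : Scheme.{u}) (j : V ⟶ X) (_ : IsOpenImmersion j) (v : V) (W' : DCoh.D V)
      (i' : (DCoh.restrictD j).obj K ⟶ W') (r' : W' ⟶ (DCoh.restrictD j).obj K),
      j.base v = x ∧ i' ≫ r' = 𝟙 _ ∧ PCAt m W' v ∧ W'.IsLE (c - 1) := by
  obtain ⟨U, hxU, g⟩ := hW.exists_le
  obtain ⟨E, f, hE, -, hf⟩ := g U le_rfl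
  let q := DerivedCategory.Q.map (cutGEι E c) ≫ f
  have hq : Cond c q := cond_comp (cond_cutGEι E c) (cond_mono hmc hf)
  obtain ⟨C, v₂, v₃, hT⟩ := distinguished_cocone_triangle q
  haveI : C.IsLE (c - 1) := (cond_iff_isLE (T := Triangle.mk q v₂ v₃) hT c).1 hq
  haveI := isLE_restrictD U.ι K (c - 1)
  obtain ⟨U', hxU', O, hxO, hzero⟩ := exists_map_eq_zero (isStrictlyPerfect_cutGE E c hE) c
    (fun i hi => isZero_cutGE E c hi) (q ≫ (DCoh.restrictD U.ι).map r) ⟨x, hxU⟩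
  let G := DCoh.restrictD U'.ι ⋙ DCoh.restrictD O.ι
  let j := (O.ι ≫ U'.ι) ≫ U.ι
  let eK : (DCoh.restrictD j).obj K ≅ G.obj ((DCoh.restrictD U.ι).obj K) :=
    compObjIso (O.ι ≫ U'.ι) U.ι K ≪≫ compObjIso O.ι U'.ι _
  obtain ⟨r', hr'⟩ := Triangle.yoneda_exact₂ _ (G.map_distinguished _ hT) (G.map ((DCoh.restrictD U.ι).map r))
    (by refine Eq.trans ?_ hzero; exact (G.map_comp _ _).symm)
  let v : (O : Scheme.{u}) := ⟨⟨⟨x, hxU⟩, hxU'⟩, hxO⟩
  have hS : PCAt m (G.obj C) v := by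
    refine PCAt.res O.ι (x := (⟨⟨x, hxU⟩, hxU'⟩ : (U' : Scheme.{u}))) rfl
      (PCAt.res U'.ι (x := (⟨x, hxU⟩ : (U : Scheme.{u}))) rfl ?_)
    refine PCAt.obj₃ m (Triangle.mk q v₂ v₃) hT (PerfAt.pcAt ?_ _) (hW.res U.ι rfl)
    exact ⟨_, 𝟙 _, inferInstance, _, _, rfl, isStrictlyPerfect_res (𝟙 _) (isStrictlyPerfect_cutGE E c hE),
      ⟨restrictObjIso (𝟙 _) _⟩⟩
  refine ⟨O, j, inferInstance, v, G.obj C, eK.hom ≫ G.map ((DCoh.restrictD U.ι).map i ≫ v₂), r' ≫ eK.inv,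
    rfl, ?_, hS, ?_⟩
  · have hr'' : G.map v₂ ≫ r' = G.map ((DCoh.restrictD U.ι).map r) := hr'.symm
    simp only [Functor.map_comp, Category.assoc, reassoc_of% hr'']
    rw [← Functor.map_comp_assoc, ← Functor.map_comp, hir, CategoryTheory.Functor.map_id,
      CategoryTheory.Functor.map_id, Category.id_comp, Iso.hom_inv_id]
  · haveI := isLE_restrictD U'.ι C (c - 1)
    exact isLE_restrictD O.ι _ (c - 1)

/-- A retract of a pseudo-coherent object with the same bound. -/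
theorem exists_reduce_all {m b : ℤ} (hmb : m ≤ b + 1) (k : ℕ) : ∀ {X : Scheme.{u}} {K W : DCoh.D X} (i : K ⟶ W)
    (r : W ⟶ K) (_ : i ≫ r = 𝟙 K) {x : X} (_ : PCAt m W x) [W.IsLE (b + k)] [K.IsLE b],
    ∃ (V : Scheme.{u}) (j : V ⟶ X) (_ : IsOpenImmersion j) (v : V) (W' : DCoh.D V)
      (i' : (DCoh.restrictD j).obj K ⟶ W') (r' : W' ⟶ (DCoh.restrictD j).obj K),
      j.base v = x ∧ i' ≫ r' = 𝟙 _ ∧ PCAt m W' v ∧ W'.IsLE b := by
  induction k with
  | zero =>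
    intro X K W i r hir x hW hWb _
    refine ⟨X, 𝟙 X, inferInstance, x, (DCoh.restrictD (𝟙 X)).obj W, (DCoh.restrictD (𝟙 X)).map i,
      (DCoh.restrictD (𝟙 X)).map r, rfl, by rw [← Functor.map_comp, hir, CategoryTheory.Functor.map_id],
      hW.res (𝟙 X) rfl, ?_⟩
    haveI : W.IsLE b := by simpa using hWb
    exact isLE_restrictD _ W b
  | succ k ih =>
    intro X K W i r hir x hW hWb hKb
    haveI : K.IsLE (b + (k + 1 : ℕ) - 1) := isLE_mono b _ (by lia)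
    obtain ⟨V, j, _, v, W', i', r', hv, hir', hW', hle⟩ := exists_reduce i r hir hW (c := b + (k + 1 : ℕ)) (by lia)
    haveI : W'.IsLE (b + k) := by rwa [show b + (k + 1 : ℕ) - 1 = b + (k : ℤ) by lia] at hle
    haveI := isLE_restrictD j K b
    obtain ⟨V', j', _, v', W'', i'', r'', hv', hir'', hW'', hle''⟩ := ih i' r' hir' hW'
    refine ⟨V', j' ≫ j, inferInstance, v', W'', (compObjIso j' j K).hom ≫ i'', r'' ≫ (compObjIso j' j K).inv,
      by simp [hv, hv'], by rw [Category.assoc, reassoc_of% hir'', Iso.hom_inv_id], hW'', hle''⟩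

/-- Morphisms of cones from a retraction. -/
theorem exists_retract_cone {S K W M N : DCoh.D X} {q : S ⟶ K} {v : K ⟶ M} {w : M ⟶ S⟦(1 : ℤ)⟧}
    (hM : Triangle.mk q v w ∈ distTriang _) (i : K ⟶ W) (r : W ⟶ K) (hir : i ≫ r = 𝟙 K)
    {v' : W ⟶ N} {w' : N ⟶ S⟦(1 : ℤ)⟧} (hN : Triangle.mk (q ≫ i) v' w' ∈ distTriang _) :
    ∃ (a : M ⟶ N) (b : N ⟶ M), a ≫ b = 𝟙 M := by
  obtain ⟨a, ha₁, ha₂⟩ := complete_distinguished_triangle_morphism _ _ hM hN (𝟙 S) i
    (show q ≫ i = 𝟙 S ≫ q ≫ i by simp)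
  obtain ⟨b, hb₁, hb₂⟩ := complete_distinguished_triangle_morphism _ _ hN hM (𝟙 S) r
    (show (q ≫ i) ≫ r = 𝟙 S ≫ q by simp [hir])
  let φ : Triangle.mk q v w ⟶ Triangle.mk (q ≫ i) v' w' := Triangle.homMk _ _ (𝟙 S) i a (show q ≫ i = 𝟙 S ≫ q ≫ i by simp) ha₁ ha₂
  let ψ : Triangle.mk (q ≫ i) v' w' ⟶ Triangle.mk q v w := Triangle.homMk _ _ (𝟙 S) r b (show (q ≫ i) ≫ r = 𝟙 S ≫ q by simp [hir]) hb₁ hb₂
  haveI : IsIso (a ≫ b) := isIso₃_of_isIso₁₂ (φ ≫ ψ) hM hM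
    (show IsIso (𝟙 S ≫ 𝟙 S) by rw [Category.comp_id]; infer_instance)
    (show IsIso (i ≫ r) by rw [hir]; infer_instance)
  exact ⟨a, b ≫ inv (a ≫ b), by rw [← Category.assoc, IsIso.hom_inv_id]⟩

theorem pcAt_retract_aux (m : ℤ) (n : ℕ) : ∀ {X : Scheme.{u}} {K W : DCoh.D X} (i : K ⟶ W) (r : W ⟶ K)
    (_ : i ≫ r = 𝟙 K) {x : X} (_ : PCAt m W x) [K.IsLE (m - 1 + n)], PCAt m K x := by
  induction n with
  | zero =>
    intro X K W i r hir x hW hK
    haveI : K.IsLE (m - 1) := by simpa using hK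
    have h0 : ∀ q, m ≤ q → IsZero ((DerivedCategory.homologyFunctor X.Modules q).obj K) := fun q hq =>
      DerivedCategory.isZero_of_isLE K (m - 1) q (by lia)
    let O : CochainComplex X.Modules ℤ := (HomologicalComplex.single X.Modules (ComplexShape.up ℤ) 0).obj (FlatMod.freeMod X 0)
    have hF0 : IsZero (FlatMod.freeMod X 0) := by
      rw [IsZero.iff_id_eq_zero]
      exact Sigma.hom_ext _ _ fun k => k.elim0
    have hz : ∀ q, IsZero (O.X q) := fun q => by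
      by_cases hq : q = 0
      · subst hq
        exact hF0.of_iso (HomologicalComplex.singleObjXSelf (ComplexShape.up ℤ) 0 _)
      · exact HomologicalComplex.isZero_single_obj_X _ _ _ _ hq
    have hO : DCoh.IsStrictlyPerfect O := ⟨⟨0, 0, fun q _ => hz q⟩, fun q =>
      TensorMod.isFinLocFree_of_iso (hF0.iso (hz q)) (TensorMod.isFinLocFree_freeMod X 0)⟩
    haveI := isLE_Q_of_vanishes (E := O) (a := m) (b := m - 1) (fun q _ => hz q)
    have h0O : ∀ q, m ≤ q → IsZero ((DerivedCategory.homologyFunctor X.Modules q).obj (DCoh.toD X O)) :=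
      fun q hq => DerivedCategory.isZero_of_isLE _ (m - 1) q (by lia)
    refine ⟨X, 𝟙 X, inferInstance, x, (resCx (𝟙 X)).obj O, (restrictObjIso (𝟙 X) O).inv ≫ (DCoh.restrictD (𝟙 X)).map 0,
      rfl, isStrictlyPerfect_res _ hO, cond_comp (cond_isIso m _) (cond_restrictD _
        ⟨fun q hq => ⟨0, (h0O q (by lia)).eq_of_src _ _, (h0 q (by lia)).eq_of_src _ _⟩, ⟨fun g h _ => (h0 m le_rfl).eq_of_src g h⟩⟩)⟩
  | succ n ih =>
    intro X K W i r hir x hW hK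
    obtain ⟨U₀, hx₀, g₀⟩ := hW.exists_le
    obtain ⟨E₀, f₀, hE₀, -, hf₀⟩ := g₀ U₀ le_rfl
    obtain ⟨a₀, b₀, hv₀⟩ := hE₀.1
    haveI := isLE_Q_of_vanishes hv₀
    let b := m - 1 + (n + 1 : ℕ)
    let c := max b b₀
    obtain ⟨k, hk⟩ := Int.eq_ofNat_of_zero_le (show 0 ≤ c - b by lia)
    haveI : ((DCoh.restrictD U₀.ι).obj W).IsLE (b + k) := by
      rw [DerivedCategory.isLE_iff]
      intro q hq
      haveI := hf₀.1 q (by lia)
      exact (DerivedCategory.isZero_of_isLE (DCoh.toD _ E₀) b₀ q (by lia)).of_iso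
        (asIso ((DerivedCategory.homologyFunctor _ q).map f₀)).symm
    haveI := isLE_restrictD U₀.ι K b
    obtain ⟨V, j, _, v, W', i', r', hv, hir', hW', hle⟩ := exists_reduce_all (m := m) (b := b) (by lia) k
      ((DCoh.restrictD U₀.ι).map i) ((DCoh.restrictD U₀.ι).map r)
      (by rw [← Functor.map_comp, hir, CategoryTheory.Functor.map_id]) (hW.res U₀.ι (v := ⟨x, hx₀⟩) rfl)
    refine PCAt.of_res U₀.ι (v := ⟨x, hx₀⟩) rfl (PCAt.of_res j hv ?_)
    obtain ⟨U, hvU, g⟩ := hW'.exists_le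
    obtain ⟨E, f, hE, -, hf⟩ := g U le_rfl
    let R := DCoh.restrictD U.ι
    refine PCAt.of_res U.ι (v := ⟨v, hvU⟩) rfl ?_
    haveI := isLE_restrictD j ((DCoh.restrictD U₀.ι).obj K) b
    haveI := isLE_restrictD U.ι ((DCoh.restrictD j).obj ((DCoh.restrictD U₀.ι).obj K)) b
    haveI := isLE_restrictD U.ι W' b
    let q := (DerivedCategory.Q.map (cutGEι E b) ≫ f) ≫ R.map r'
    have hr : Cond b (R.map r') := by
      refine ⟨fun p hp => ⟨0, ?_, ?_⟩, ?_⟩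
      · exact (DerivedCategory.isZero_of_isLE _ b p hp).eq_of_src _ _
      · exact (DerivedCategory.isZero_of_isLE _ b p hp).eq_of_src _ _
      · haveI : IsSplitEpi ((DerivedCategory.homologyFunctor _ b).map (R.map r')) :=
          ⟨⟨(DerivedCategory.homologyFunctor _ b).map (R.map i'),
            by rw [← Functor.map_comp, ← Functor.map_comp, hir', R.map_id, CategoryTheory.Functor.map_id]⟩⟩
        infer_instance
    have hq : Cond b q := cond_comp (cond_comp (cond_cutGEι E b) (cond_mono (by lia) hf)) hr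
    obtain ⟨M, v₂, v₃, hM⟩ := distinguished_cocone_triangle q
    haveI : M.IsLE (m - 1 + n) := by
      have := (cond_iff_isLE (T := Triangle.mk q v₂ v₃) hM b).1 hq
      rwa [show b - 1 = m - 1 + (n : ℤ) by lia] at this
    obtain ⟨N, v₂', v₃', hN⟩ := distinguished_cocone_triangle (q ≫ R.map i')
    obtain ⟨a, a', haa⟩ := exists_retract_cone hM (R.map i') (R.map r')
      (by rw [← Functor.map_comp, hir', R.map_id]) hN
    have hS : ∀ p : ℤ, PCAt p (DCoh.toD _ (cutGE E b)) (⟨v, hvU⟩ : (U : Scheme.{u})) := fun p => PerfAt.pcAt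
      ⟨_, 𝟙 _, inferInstance, _, _, rfl, isStrictlyPerfect_res (𝟙 _) (isStrictlyPerfect_cutGE E b hE),
        ⟨restrictObjIso (𝟙 _) _⟩⟩ p
    exact PCAt.obj₂ m (Triangle.mk q v₂ v₃) hM (hS m)
      (ih a a' haa (PCAt.obj₃ m (Triangle.mk (q ≫ R.map i') v₂' v₃') hN (hS (m + 1)) (hW'.res U.ι rfl)))

/-- A retract of a pseudo-coherent object is pseudo-coherent. -/
theorem PCAt.retract {m : ℤ} {K W : DCoh.D X} (i : K ⟶ W) (r : W ⟶ K) (hir : i ≫ r = 𝟙 K) {x : X}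
    (hW : PCAt m W x) : PCAt m K x := by
  obtain ⟨U₀, hx₀, g₀⟩ := hW.exists_le
  obtain ⟨E₀, f₀, hE₀, -, hf₀⟩ := g₀ U₀ le_rfl
  obtain ⟨a₀, b₀, hv₀⟩ := hE₀.1
  haveI := isLE_Q_of_vanishes hv₀
  let n := (max b₀ m - m + 1).toNat
  haveI : ((DCoh.restrictD U₀.ι).obj W).IsLE (m - 1 + n) := by
    rw [DerivedCategory.isLE_iff]
    intro q hq
    haveI := hf₀.1 q (by lia)
    exact (DerivedCategory.isZero_of_isLE (DCoh.toD _ E₀) b₀ q (by lia)).of_iso
      (asIso ((DerivedCategory.homologyFunctor _ q).map f₀)).symm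
  have h := (Functor.map_comp (DCoh.restrictD U₀.ι) i r).symm.trans (by rw [hir, CategoryTheory.Functor.map_id])
  haveI := isLE_of_retract _ _ h (m - 1 + n)
  exact PCAt.of_res U₀.ι (v := ⟨x, hx₀⟩) rfl (pcAt_retract_aux m n _ _ h (hW.res U₀.ι (v := ⟨x, hx₀⟩) rfl))

end Groth.Agent.DCohBridge
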