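import Groth.Agent.DCohBridge.Perfect

/-!
Mapping cones of strictly perfect complexes.
-/

set_option backward.isDefEq.respectTransparency false
set_option backward.defeqAttrib.useBackward true

universe u

open CategoryTheory Limits AlgebraicGeometry

namespace Groth.Agent.DCohBridge

/-- The sum of two powers of an object. -/
noncomputable def sigmaBiprodIso {C : Type*} [Category* C] [Preadditive C] (O : C)
    (n m : ℕ) [HasCoproduct fun _ : Fin n => O] [HasCoproduct fun _ : Fin m => O]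
    [HasCoproduct fun _ : Fin (n + m) => O] [HasBinaryBiproduct (∐ fun _ : Fin n => O) (∐ fun _ : Fin m => O)] :
    ((∐ fun _ : Fin n => O) ⊞ ∐ fun _ : Fin m => O) ≅ ∐ fun _ : Fin (n + m) => O where
  hom := biprod.desc (Sigma.desc fun i => Sigma.ι (fun _ : Fin (n + m) => O) (Fin.castAdd m i))
    (Sigma.desc fun j => Sigma.ι (fun _ : Fin (n + m) => O) (Fin.natAdd n j))
  inv := Sigma.desc fun k => Fin.addCases (motive := fun _ => O ⟶ _)
    (fun i => Sigma.ι (fun _ : Fin n => O) i ≫ biprod.inl) (fun j => Sigma.ι (fun _ : Fin m => O) j ≫ biprod.inr) k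
  hom_inv_id := biprod.hom_ext' _ _ (Sigma.hom_ext _ _ fun i => by simp) (Sigma.hom_ext _ _ fun j => by simp)
  inv_hom_id := Sigma.hom_ext _ _ fun k => by
    refine Fin.addCases (fun i => ?_) (fun j => ?_) k <;> simp

variable {X : Scheme.{u}}

/-- Sums of finite locally free modules. -/
theorem isFinLocFree_biprod {M N : X.Modules} (hM : FlatMod.IsFinLocFree M) (hN : FlatMod.IsFinLocFree N) :
    FlatMod.IsFinLocFree (M ⊞ N) := fun x => by
  obtain ⟨U, n, hxU, ⟨eM⟩⟩ := hM x
  obtain ⟨V, m, hxV, ⟨eN⟩⟩ := hN x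
  haveI := preservesBinaryBiproducts_of_preservesBinaryCoproducts (Scheme.Modules.restrictFunctor (U ⊓ V).ι)
  exact ⟨U ⊓ V, n + m, ⟨hxU, hxV⟩, ⟨(Scheme.Modules.restrictFunctor (U ⊓ V).ι).mapBiprod M N ≪≫
    biprod.mapIso (TensorMod.freeRestrict inf_le_left eM) (TensorMod.freeRestrict inf_le_right eN) ≪≫
    sigmaBiprodIso _ n m⟩⟩

/-- The mapping cone of strictly perfect complexes. -/
theorem isStrictlyPerfect_cone {E F : CochainComplex X.Modules ℤ} (φ : E ⟶ F) (hE : DCoh.IsStrictlyPerfect E)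
    (hF : DCoh.IsStrictlyPerfect F) : DCoh.IsStrictlyPerfect (CochainComplex.mappingCone φ) := by
  obtain ⟨⟨a, b, hv⟩, hE⟩ := hE
  obtain ⟨⟨c, d, hw⟩, hF⟩ := hF
  refine ⟨⟨min (a - 1) c, max b d, fun i hi => ?_⟩, fun i => ?_⟩
  · exact IsZero.of_iso (biprod_isZero_iff _ _ |>.2 ⟨hv (i + 1) (by omega), hw i (by omega)⟩)
      (HomologicalComplex.homotopyCofiber.XIsoBiprod φ i (i + 1) rfl)
  · exact TensorMod.isFinLocFree_of_iso (HomologicalComplex.homotopyCofiber.XIsoBiprod φ i (i + 1) rfl).symm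
      (isFinLocFree_biprod (hE (i + 1)) (hF i))

end Groth.Agent.DCohBridge
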