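import Groth.Agent.DCohBridge.PerfectLocal
import Mathlib.Data.Int.Interval

/-!
Perfect objects are locally finite complexes of free modules.
-/

set_option backward.isDefEq.respectTransparency false
set_option backward.defeqAttrib.useBackward true

universe u

open CategoryTheory Limits AlgebraicGeometry

attribute [local instance] HasDerivedCategory.standard

namespace Groth.Agent.DCohBridge

variable {X : Scheme.{u}}

/-- A strictly perfect complex is termwise free near each point. -/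
theorem exists_free_nhd {E : CochainComplex X.Modules ℤ} (hE : DCoh.IsStrictlyPerfect E) (x : X) :
    ∃ W : X.Opens, x ∈ W ∧ ∀ i, ∃ n : ℕ,
      Nonempty (((DCoh.restrictCx W).obj E).X i ≅ FlatMod.freeMod (W : Scheme.{u}) n) := by
  obtain ⟨a, b, hv⟩ := hE.1
  choose U n hx he using fun i => hE.2 i x
  let W : X.Opens := (Finset.Icc a b).inf U
  refine ⟨W, ?_, fun i => ?_⟩
  · rw [← SetLike.mem_coe, TopologicalSpace.Opens.coe_finset_inf]
    simp [Finset.inf_eq_iInf, hx]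
  · by_cases hi : a ≤ i ∧ i ≤ b
    · obtain ⟨e⟩ := he i
      exact ⟨n i, ⟨TensorMod.freeRestrict (Finset.inf_le (Finset.mem_Icc.2 hi)) e⟩⟩
    · refine ⟨0, ⟨IsZero.iso ((Scheme.Modules.restrictFunctor W.ι).map_isZero (hv i (by lia))) ?_⟩⟩
      rw [IsZero.iff_id_eq_zero]
      exact Sigma.hom_ext _ _ fun i => i.elim0

/-- A free representative near each point. -/
theorem exists_free_rep {K : DCoh.D X} (hK : DCoh.IsPerfect K) (x : X) :
    ∃ V : X.Opens, x ∈ V ∧ ∀ F : CochainComplex X.Modules ℤ, Nonempty (DCoh.toD X F ≅ K) →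
      ∃ (P : CochainComplex (V : Scheme.{u}).Modules ℤ) (a b : ℤ), DCoh.VanishesOutside P a b ∧
        (∀ i : ℤ, ∃ n : ℕ, Nonempty (P.X i ≅ FlatMod.freeMod (V : Scheme.{u}) n)) ∧
        Nonempty (DerivedCategory.Q.obj ((DCoh.restrictCx V).obj F) ≅ DerivedCategory.Q.obj P) := by
  obtain ⟨U, hxU, g⟩ := ((isPerfect_iff K).1 hK x).exists_le
  obtain ⟨E, hE, ⟨e⟩⟩ := g U le_rfl
  obtain ⟨W, hxW, hW⟩ := exists_free_nhd hE ⟨x, hxU⟩
  let j := W.ι ≫ U.ι
  let k := j.isoOpensRange.inv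
  refine ⟨j.opensRange, ⟨⟨⟨x, hxU⟩, hxW⟩, rfl⟩, fun F ⟨eF⟩ => ?_⟩
  obtain ⟨a, b, hv⟩ := hE.1
  refine ⟨(resCx k).obj ((DCoh.restrictCx W).obj E), a, b,
    fun i hi => (Scheme.Modules.restrictFunctor k).map_isZero ((Scheme.Modules.restrictFunctor W.ι).map_isZero (hv i hi)),
    fun i => ?_, ⟨?_⟩⟩
  · obtain ⟨n, ⟨en⟩⟩ := hW i
    exact ⟨n, ⟨(Scheme.Modules.restrictFunctor k).mapIso en ≪≫ TensorMod.restrictFreeModIso k n⟩⟩
  · exact (restrictObjIso _ F).symm ≪≫ (DCoh.restrictD j.opensRange.ι).mapIso eF ≪≫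
      compObjIso' k j _ (by rw [Iso.inv_comp_eq, Scheme.Hom.isoOpensRange_hom_ι]) K ≪≫
      (DCoh.restrictD k).mapIso (compObjIso W.ι U.ι K ≪≫ (DCoh.restrictD W.ι).mapIso e ≪≫
        restrictObjIso W.ι E) ≪≫ restrictObjIso k _

end Groth.Agent.DCohBridge
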