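import Groth.Agent.DCohBridge.PullTensorCx
import Groth.Agent.DCohBridge.FinLocFreeTensor
import Groth.Agent.DCohBridge.PerfectLocal

/-!
Derived tensor products of perfect objects.
-/

set_option backward.isDefEq.respectTransparency false
set_option backward.defeqAttrib.useBackward true

universe u

open CategoryTheory Limits HomologicalComplex AlgebraicGeometry MonoidalCategory

attribute [local instance] HasDerivedCategory.standard

namespace Groth.Agent.DCohBridge

variable {X V : Scheme.{u}}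

/-- The total complex of strictly perfect complexes. -/
theorem isStrictlyPerfect_totT {A B : CochainComplex X.Modules ℤ} (hA : DCoh.IsStrictlyPerfect A)
    (hB : DCoh.IsStrictlyPerfect B) : DCoh.IsStrictlyPerfect (totT A B) := by
  classical
  obtain ⟨⟨a, b, hv⟩, hA⟩ := hA
  obtain ⟨⟨c, d, hw⟩, hB⟩ := hB
  have hz : ∀ p q : ℤ, (p < a ∨ b < p ∨ q < c ∨ d < q) →
      IsZero ((DCoh.tensorBi.obj (A.X p)).obj (B.X q)) := fun p q h => by
    by_cases hp : p < a ∨ b < p
    · exact ((DCoh.tensorBi (X := X)).flip.obj (B.X q)).map_isZero (hv p hp)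
    · exact ((DCoh.tensorBi (X := X)).obj (A.X p)).map_isZero (hw q (by omega))
  refine ⟨⟨a + c, b + d, fun n hn => ?_⟩, fun n => ?_⟩
  · refine (IsZero.iff_id_eq_zero _).2 (mapBifunctor.hom_ext fun p q hpq => IsZero.eq_of_src ?_ _ _)
    have hpq' : p + q = n := hpq
    exact hz p q (by omega)
  · let ι' : ∀ p : ℤ, (DCoh.tensorBi.obj (A.X p)).obj (B.X (n - p)) ⟶ (totT A B).X n := fun p =>
      ιMapBifunctor A B DCoh.tensorBi (ComplexShape.up ℤ) p (n - p) n (add_sub_cancel p n)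
    let π' : ∀ p : ℤ, (totT A B).X n ⟶ (DCoh.tensorBi.obj (A.X p)).obj (B.X (n - p)) := fun p =>
      mapBifunctorDesc fun p' q' (h : p' + q' = n) =>
        if hp : p' = p then eqToHom (by rw [hp, show q' = n - p by omega]) else 0
    refine isFinLocFree_of_sum_factor (Finset.Icc a b) _ (fun p => isFinLocFree_tensorBi (hA p) (hB (n - p)))
      π' ι' (mapBifunctor.hom_ext fun p q hpq => ?_)
    have hpq' : p + q = n := hpq
    obtain rfl : q = n - p := by omega
    by_cases hp : p ∈ Finset.Icc a b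
    · rw [Preadditive.comp_sum, Finset.sum_eq_single p]
      · simp [π', ι', ι_mapBifunctorDesc_assoc]
      · intro p' _ hne
        simp [π', ι_mapBifunctorDesc_assoc, Ne.symm hne]
      · exact fun h => absurd hp h
    · refine IsZero.eq_of_src (hz p (n - p) ?_) _ _
      rw [Finset.mem_Icc] at hp
      omega

/-- Isomorphic K-flat complexes have isomorphic tensor products. -/
noncomputable def totTQIso {A A' B B' : CochainComplex X.Modules ℤ} (hA : DCoh.IsKFlat A)
    (hA' : DCoh.IsKFlat A') (hB : DCoh.IsKFlat B) (hB' : DCoh.IsKFlat B')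
    (eA : DCoh.toD X A ≅ DCoh.toD X A') (eB : DCoh.toD X B ≅ DCoh.toD X B') :
    DCoh.toD X (totT A B) ≅ DCoh.toD X (totT A' B') :=
  haveI := hasLTensorCx B
  haveI := hasLTensorCx A'
  (LTensorCxIso B hA).symm ≪≫ (DCoh.LTensorCx B).mapIso eA ≪≫ LTensorCxIso B hA' ≪≫
    DerivedCategory.Q.mapIso (SiteBase.KFlat.totBraidIso (O := X.sheaf) A' B) ≪≫
    (LTensorCxIso A' hB).symm ≪≫ (DCoh.LTensorCx A').mapIso eB ≪≫ LTensorCxIso A' hB' ≪≫
    DerivedCategory.Q.mapIso (SiteBase.KFlat.totBraidIso (O := X.sheaf) B' A')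

/-- Restriction of a total tensor complex. -/
noncomputable def totResIso (j : V ⟶ X) [IsOpenImmersion j] (F L : CochainComplex X.Modules ℤ) :
    (resCx j).obj (totT F L) ≅ totT ((resCx j).obj F) ((resCx j).obj L) :=
  haveI : (Scheme.Modules.pullback j).Additive := inferInstance
  let e := NatIso.mapHomologicalComplex (Scheme.Modules.restrictFunctorIsoPullback j) (ComplexShape.up ℤ)
  e.app (totT F L) ≪≫ totPullIso j F L ≪≫ (DCoh.tensorCx.mapIso (e.app F).symm).app _ ≪≫
    (DCoh.tensorCx.obj _).mapIso (e.app L).symm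

/-- Restriction preserves K-flatness. -/
theorem isKFlat_resCx (j : V ⟶ X) [IsOpenImmersion j] {P : CochainComplex X.Modules ℤ} (hP : DCoh.IsKFlat P) :
    DCoh.IsKFlat ((resCx j).obj P) :=
  haveI : (Scheme.Modules.pullback j).Additive := inferInstance
  SiteBase.KFlat.isKFlat_of_iso (O := V.sheaf)
    ((NatIso.mapHomologicalComplex (Scheme.Modules.restrictFunctorIsoPullback j) (ComplexShape.up ℤ)).app P).symm
    (isKFlat_pull j hP)

/-- The derived tensor product of perfect objects is perfect. -/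
theorem perfAt_LTensor {L : CochainComplex X.Modules ℤ} (hL : DCoh.IsKFlat L) [DCoh.HasLTensorCx L]
    {K : DCoh.D X} {x : X} (hK : PerfAt K x) (hLp : PerfAt (DCoh.toD X L) x) :
    PerfAt ((DCoh.LTensorCx L).obj K) x := by
  obtain ⟨U₁, hx₁, g₁⟩ := hK.exists_le
  obtain ⟨U₂, hx₂, g₂⟩ := hLp.exists_le
  obtain ⟨E₁, hE₁, ⟨e₁⟩⟩ := g₁ (U₁ ⊓ U₂) inf_le_left
  obtain ⟨E₂, hE₂, ⟨e₂⟩⟩ := g₂ (U₁ ⊓ U₂) inf_le_right
  obtain ⟨P, hP, ⟨e⟩⟩ := exists_kFlat_obj K
  let j := (U₁ ⊓ U₂).ι
  refine ⟨_, j, inferInstance, ⟨x, hx₁, hx₂⟩, totT E₁ E₂, rfl, isStrictlyPerfect_totT hE₁ hE₂, ⟨?_⟩⟩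
  exact (DCoh.restrictD j).mapIso ((DCoh.LTensorCx L).mapIso e.symm ≪≫ LTensorCxIso L hP) ≪≫
    restrictObjIso j _ ≪≫ DerivedCategory.Q.mapIso (totResIso j P L) ≪≫
    totTQIso (isKFlat_resCx j hP) (isKFlat_of_strictlyPerfect hE₁) (isKFlat_resCx j hL)
      (isKFlat_of_strictlyPerfect hE₂)
      ((restrictObjIso j P).symm ≪≫ (DCoh.restrictD j).mapIso e ≪≫ e₁)
      ((restrictObjIso j L).symm ≪≫ e₂)

end Groth.Agent.DCohBridge
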