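import Groth.Agent.DCohBridge.DQCoh
import Groth.Agent.DCohBridge.QCohTensor
import Groth.Agent.DCohBridge.TensorPerfect

/-!
Quasi-coherent cohomology is local, and locally comes from modules over rings.
-/

set_option backward.isDefEq.respectTransparency false
set_option backward.defeqAttrib.useBackward true

noncomputable section

universe u

open CategoryTheory Limits AlgebraicGeometry Opposite TopologicalSpace DerivedCategory

attribute [local instance] HasDerivedCategory.standard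

namespace Groth.Agent.DCohBridge

variable {X V : Scheme.{u}}

/-- Cohomology commutes with restriction. -/
theorem nonempty_HD_restrictD (j : V ⟶ X) [IsOpenImmersion j] (K : DCoh.D X) (i : ℤ) :
    Nonempty (DCoh.HD ((DCoh.restrictD j).obj K) i ≅ (Scheme.Modules.restrictFunctor j).obj (DCoh.HD K i)) :=
  let N := Q.objPreimage K
  let e := (Scheme.Modules.restrictFunctor j).mapHomologicalComplex (ComplexShape.up ℤ)
  ⟨(homologyFunctor V.Modules i).mapIso ((DCoh.restrictD j).mapIso (Q.objObjPreimageIso K).symm ≪≫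
      restrictObjIso j N) ≪≫ (homologyFunctorFactors V.Modules i).app (e.obj N) ≪≫
    (N.sc i).mapHomologyIso (Scheme.Modules.restrictFunctor j) ≪≫
    (Scheme.Modules.restrictFunctor j).mapIso ((homologyFunctorFactors X.Modules i).symm.app N ≪≫
      (homologyFunctor X.Modules i).mapIso (Q.objObjPreimageIso K))⟩

theorem isQCohD_restrictD (j : V ⟶ X) [IsOpenImmersion j] {K : DCoh.D X} (hK : DCoh.IsQCohD K) :
    DCoh.IsQCohD ((DCoh.restrictD j).obj K) := fun i =>
  haveI : (DCoh.HD K i).IsQuasicoherent := hK i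
  TensorMod.isQCoh_of_iso (nonempty_HD_restrictD j K i).some.symm inferInstance

theorem isQCoh_of_local {M : X.Modules}
    (h : ∀ x : X, ∃ (V : Scheme.{u}) (j : V ⟶ X) (_ : IsOpenImmersion j) (v : V),
      j.base v = x ∧ Coh.IsQCoh ((Scheme.Modules.restrictFunctor j).obj M)) : Coh.IsQCoh M := by
  choose V j hj v hv hM using h
  refine QCohBase.isQuasicoherent_of_cover (fun x : X => @Scheme.Hom.opensRange _ _ (j x) (hj x))
    (fun x => ⟨x, v x, hv x⟩) fun x => ?_
  haveI := hj x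
  haveI := hM x
  exact TensorMod.isQCoh_of_iso
    (((Scheme.Modules.restrictFunctorComp (j x).isoOpensRange.inv (j x)).symm ≪≫
      Scheme.Modules.restrictFunctorCongr
        (show (j x).isoOpensRange.inv ≫ j x = (j x).opensRange.ι by
          rw [Iso.inv_comp_eq, Scheme.Hom.isoOpensRange_hom_ι])).app M)
    (inferInstanceAs ((Scheme.Modules.restrictFunctor (j x).isoOpensRange.inv).obj
      ((Scheme.Modules.restrictFunctor (j x)).obj M)).IsQuasicoherent)

theorem isQCohD_of_local {K : DCoh.D X}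
    (h : ∀ x : X, ∃ (V : Scheme.{u}) (j : V ⟶ X) (_ : IsOpenImmersion j) (v : V),
      j.base v = x ∧ DCoh.IsQCohD ((DCoh.restrictD j).obj K)) : DCoh.IsQCohD K := fun i =>
  isQCoh_of_local fun x => by
    obtain ⟨V, j, hj, v, hv, hK⟩ := h x
    exact ⟨V, j, hj, v, hv, TensorMod.isQCoh_of_iso (nonempty_HD_restrictD j K i).some (hK i)⟩

/-- A complex of quasi-coherent modules on an affine scheme has quasi-coherent cohomology. -/
theorem isQCohD_of_terms {R : CommRingCat.{u}} {W : CochainComplex (Spec R).Modules ℤ}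
    (h : ∀ n, Coh.IsQCoh (W.X n)) : DCoh.IsQCohD (DCoh.toD (Spec R) W) := fun i => by
  haveI : ∀ n, IsIso ((Affine.counitC W).f n) := fun n => by
    haveI := h n
    exact inferInstanceAs (IsIso (W.X n).fromTildeΓ)
  haveI : IsIso (Affine.counitC W) := HomologicalComplex.Hom.isIso_of_components _
  exact TensorMod.isQCoh_of_iso ((homologyFunctor _ i).mapIso (Q.mapIso (asIso (Affine.counitC W))))
    (Affine.isQCohD_tilde ((Affine.ΓC R).obj W) i)

/-- A total complex of quasi-coherent modules consists of quasi-coherent modules. -/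
theorem isQCoh_totT {R : CommRingCat.{u}} {A B : CochainComplex (Spec R).Modules ℤ}
    (hA : ∀ n, Coh.IsQCoh (A.X n)) (hB : ∀ n, Coh.IsQCoh (B.X n)) (n : ℤ) :
    Coh.IsQCoh ((totT A B).X n) := by
  let F := (((DCoh.tensorBi (X := Spec R)).mapBifunctorHomologicalComplex (ComplexShape.up ℤ) (ComplexShape.up ℤ)).obj A).obj B
  let D := F.toGradedObject.mapObjFun (ComplexShape.π (ComplexShape.up ℤ) (ComplexShape.up ℤ) (ComplexShape.up ℤ)) n
  exact QCohBase.isQuasicoherent_colimit_spec (Discrete.functor D) fun j =>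
    isQCoh_tensorBi (hA _) (hB _)

/-- Locally on affine opens an object with quasi-coherent cohomology is the tilde of a K-flat complex. -/
theorem exists_tilde_rep {K : DCoh.D X} (hK : DCoh.IsQCohD K) (R : CommRingCat.{u}) (j : Spec R ⟶ X)
    [IsOpenImmersion j] :
    ∃ M : CochainComplex (ModuleCat.{u} R) ℤ, DRing.IsKFlat R M ∧
      Nonempty ((DCoh.restrictD j).obj K ≅ DCoh.toD (Spec R) ((Affine.TC R).obj M)) := by
  obtain ⟨N, ⟨e⟩⟩ := (Affine.isQCohD_iff R _).1 (isQCohD_restrictD j hK)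
  obtain ⟨P, q, hP, hq, -⟩ := DRingKProj.exists_resolution (Q.objPreimage N)
  haveI : QuasiIso q := hq
  exact ⟨P, DRingTorAmp.isKFl_of_isKProjective P, ⟨e.symm ≪≫
    (DCoh.tildeD R).mapIso ((Q.objObjPreimageIso N).symm ≪≫ (asIso (Q.map q)).symm) ≪≫ Affine.factor P⟩⟩

/-- An affine chart around a point inside an open. -/
theorem exists_affine_chart (U : X.Opens) (x : X) (hx : x ∈ U) :
    ∃ (R : CommRingCat.{u}) (j : Spec R ⟶ X) (_ : IsOpenImmersion j) (p : Spec R),
      j.base p = x ∧ j.opensRange ≤ U := by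
  obtain ⟨W, hW, hxW, hWU⟩ := Opens.isBasis_iff_nbhd.1 X.isBasis_affineOpens hx
  obtain ⟨p, hp⟩ : x ∈ Set.range hW.fromSpec := by rw [hW.range_fromSpec]; exact hxW
  refine ⟨Γ(X, W), hW.fromSpec, inferInstance, p, hp, ?_⟩
  rw [IsAffineOpen.opensRange_fromSpec]
  exact hWU

/-- Derived tensor products preserve quasi-coherent cohomology. -/
theorem isQCohD_LTensor {F : CochainComplex X.Modules ℤ} (hF : DCoh.IsQCohD (DCoh.toD X F))
    [DCoh.HasLTensorCx F] {E : DCoh.D X} (hE : DCoh.IsQCohD E) :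
    DCoh.IsQCohD ((DCoh.LTensorCx F).obj E) := by
  refine isQCohD_of_local fun x => ?_
  obtain ⟨R, j, _, p, hp, -⟩ := exists_affine_chart ⊤ x trivial
  refine ⟨Spec R, j, inferInstance, p, hp, ?_⟩
  obtain ⟨M, hM, ⟨eM⟩⟩ := exists_tilde_rep hE R j
  obtain ⟨N, hN, ⟨eN⟩⟩ := exists_tilde_rep hF R j
  obtain ⟨P, hP, ⟨e⟩⟩ := exists_kFlat_obj E
  have hA : DCoh.IsKFlat ((Affine.TC R).obj M) := isKFlat_tilde hM
  have hB : DCoh.IsKFlat ((Affine.TC R).obj N) := isKFlat_tilde hN
  haveI := hasLTensorCx ((resCx j).obj F)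
  haveI := hasLTensorCx ((Affine.TC R).obj M)
  let eA : DCoh.toD _ ((resCx j).obj P) ≅ DCoh.toD _ ((Affine.TC R).obj M) :=
    (restrictObjIso j P).symm ≪≫ (DCoh.restrictD j).mapIso e ≪≫ eM
  let eB : DCoh.toD _ ((resCx j).obj F) ≅ DCoh.toD _ ((Affine.TC R).obj N) :=
    (restrictObjIso j F).symm ≪≫ eN
  let i : (DCoh.restrictD j).obj ((DCoh.LTensorCx F).obj E) ≅
      DCoh.toD (Spec R) (totT ((Affine.TC R).obj N) ((Affine.TC R).obj M)) :=
    (DCoh.restrictD j).mapIso ((DCoh.LTensorCx F).mapIso e.symm ≪≫ LTensorCxIso F hP) ≪≫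
      restrictObjIso j _ ≪≫ Q.mapIso (totResIso j P F) ≪≫
      (LTensorCxIso _ (isKFlat_resCx j hP)).symm ≪≫ (DCoh.LTensorCx _).mapIso eA ≪≫ LTensorCxIso _ hA ≪≫
      Q.mapIso (SiteBase.KFlat.totBraidIso (O := (Spec R).sheaf) ((Affine.TC R).obj M) ((resCx j).obj F)) ≪≫
      (LTensorCxIso' hA _).symm ≪≫ (DCoh.LTensorCx _).mapIso eB ≪≫ LTensorCxIso' hA _
  exact fun n => TensorMod.isQCoh_of_iso ((homologyFunctor _ n).mapIso i).symm
    (isQCohD_of_terms (isQCoh_totT (fun m => inferInstanceAs (((tilde.functor R).obj (N.X m)).IsQuasicoherent))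
      fun m => inferInstanceAs (((tilde.functor R).obj (M.X m)).IsQuasicoherent)) n)

/-- Derived pullback preserves quasi-coherent cohomology. -/
theorem isQCohD_Lpull {Y : Scheme.{u}} (f : Y ⟶ X) [DCoh.HasLpull f] {K : DCoh.D X} (hK : DCoh.IsQCohD K) :
    DCoh.IsQCohD ((DCoh.Lpull f).obj K) := by
  refine isQCohD_of_local fun y => ?_
  obtain ⟨R, j, _, p, hp, -⟩ := exists_affine_chart ⊤ (f.base y) trivial
  obtain ⟨S, k, _, q, hq, hk⟩ := exists_affine_chart (f ⁻¹ᵁ j.opensRange) y ⟨p, hp⟩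
  refine ⟨Spec S, k, inferInstance, q, hq, ?_⟩
  have hr : Set.range (k ≫ f).base ⊆ Set.range j.base := by
    rintro _ ⟨z, rfl⟩
    exact hk ⟨z, rfl⟩
  let g := IsOpenImmersion.lift j (k ≫ f) hr
  have hg : g ≫ j = k ≫ f := IsOpenImmersion.lift_fac _ _ _
  let σ := Spec.map (Spec.preimage g)
  have hσ : σ ≫ j = k ≫ f := by simp only [σ, Spec.map_preimage, hg]
  obtain ⟨M, hM, ⟨eM⟩⟩ := exists_tilde_rep hK R j
  obtain ⟨N, hN, ⟨eN⟩⟩ := exists_kFlat_obj K
  haveI := hasLpull σ
  let rj := NatIso.mapHomologicalComplex (Scheme.Modules.restrictFunctorIsoPullback j) (ComplexShape.up ℤ)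
  let rk := NatIso.mapHomologicalComplex (Scheme.Modules.restrictFunctorIsoPullback k) (ComplexShape.up ℤ)
  let i : (DCoh.restrictD k).obj ((DCoh.Lpull f).obj K) ≅
      DCoh.toD (Spec S) ((pullCx σ).obj ((Affine.TC R).obj M)) :=
    (DCoh.restrictD k).mapIso ((DCoh.Lpull f).mapIso eN.symm ≪≫ LpullIso f hN) ≪≫
      restrictObjIso k _ ≪≫ Q.mapIso (rk.app _ ≪≫ (pullCxCompIso k f _ rfl N).symm ≪≫
        pullCxCompIso σ j _ hσ N ≪≫ (pullCx σ).mapIso (rj.app N).symm) ≪≫
      pullQIso σ (isKFlat_resCx j hN) (isKFlat_tilde hM)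
        ((restrictObjIso j N).symm ≪≫ (DCoh.restrictD j).mapIso eN ≪≫ eM)
  exact fun n => TensorMod.isQCoh_of_iso ((homologyFunctor _ n).mapIso i).symm
    (isQCohD_of_terms (fun m => TensorMod.isQCoh_of_iso
      ((QCohAffine.pullbackTildeIso (Spec.preimage g)).app (M.X m)).symm
      (inferInstanceAs (((tilde.functor S).obj ((ModuleCat.extendScalars (Spec.preimage g).hom).obj (M.X m))).IsQuasicoherent))) n)

end Groth.Agent.DCohBridge
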