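import Groth.Agent.DCohBridge.TildeLocal
import Groth.Agent.DCohBridge.QCohDLocal
import Groth.Agent.DCohBridge.AffPush
import Groth.Agent.DCohBridge.PCRetract
import Groth.Agent.DCohBridge.TorAmp2
import Groth.Agent.TensorMod.FinLocFree
import Groth.Agent.QCohBase.CohRestrict
import Groth.Agent.S6942
import Groth.Agent.S5611

/-!
Quasi-coherence and coherence of the cohomology of pseudo-coherent objects; perfectness from amplitude.
-/

set_option backward.isDefEq.respectTransparency false
set_option backward.defeqAttrib.useBackward true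

noncomputable section

universe u

open CategoryTheory Limits AlgebraicGeometry Opposite TopologicalSpace

attribute [local instance] HasDerivedCategory.standard

namespace Groth.Agent.DCohBridge

variable {X V : Scheme.{u}}

theorem isQCohD_of_strictlyPerfect {E : CochainComplex X.Modules ℤ} (hE : DCoh.IsStrictlyPerfect E) :
    DCoh.IsQCohD (DCoh.toD X E) := fun i =>
  TensorMod.isQCoh_of_iso ((DerivedCategory.homologyFunctorFactors X.Modules i).app E).symm
    (isQCoh_homology (fun n => TensorMod.isQCoh_of_isFinLocFree (hE.2 n)) i)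

theorem isQCohD_of_perfect {K : DCoh.D X} (hK : DCoh.IsPerfect K) : DCoh.IsQCohD K :=
  isQCohD_of_local fun x => by
    obtain ⟨V, j, hj, v, E, hv, hE, ⟨e⟩⟩ := (isPerfect_iff K).1 hK x
    exact ⟨V, j, hj, v, hv, fun i => TensorMod.isQCoh_of_iso
      ((DerivedCategory.homologyFunctor _ i).mapIso e).symm (isQCohD_of_strictlyPerfect hE i)⟩

/-- Above the degree of pseudo-coherence cohomology is quasi-coherent. -/
theorem isQCoh_HD_of_pc {m : ℤ} {K : DCoh.D X} (hK : DCoh.IsPseudoCoherentD m K) {i : ℤ} (hi : m < i) :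
    Coh.IsQCoh (DCoh.HD K i) :=
  isQCoh_of_local fun x => by
    obtain ⟨V, j, hj, v, E, f, hv, hE, hf⟩ := (isPseudoCoherentD_iff m K).1 hK x
    haveI := hf.1 i hi
    exact ⟨V, j, hj, v, hv, TensorMod.isQCoh_of_iso
      (asIso ((DerivedCategory.homologyFunctor _ i).map f) ≪≫ (nonempty_HD_restrictD j K i).some)
      (isQCohD_of_strictlyPerfect hE i)⟩

/-- Restriction keeps representatives by flat complexes. -/
theorem hasFlatAmplitudeIn_restrictD (j : V ⟶ X) [IsOpenImmersion j] {K : DCoh.D X} {a b : ℤ}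
    (h : DCoh.HasFlatAmplitudeIn a b K) : DCoh.HasFlatAmplitudeIn a b ((DCoh.restrictD j).obj K) := by
  obtain ⟨E, hv, hfl, ⟨e⟩⟩ := h
  refine ⟨(resCx j).obj E, fun i hi => (Scheme.Modules.restrictFunctor j).map_isZero (hv i hi), fun i => ?_,
    ⟨(restrictObjIso j E).symm ≪≫ (DCoh.restrictD j).mapIso e⟩⟩
  exact isFlat_of_iso ((Scheme.Modules.restrictFunctorIsoPullback j).app (E.X i)).symm
    (isFlat_pullback (f := j) (hfl i))

/-- An object with flat amplitude in `[a, b]` which is `(a - 1)`-pseudo-coherent is perfect. -/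
theorem isPerfect_of_flatAmplitude {E : DCoh.D X} {a b : ℤ} (hab : a ≤ b)
    (h1 : DCoh.HasFlatAmplitudeIn a b E) (h2 : DCoh.IsPseudoCoherentD (a - 1) E) : DCoh.IsPerfect E := by
  have hq : DCoh.IsQCohD E := fun i => by
    by_cases hi : a ≤ i
    · exact isQCoh_HD_of_pc h2 (by omega)
    · obtain ⟨G, hv, -, ⟨e⟩⟩ := h1
      have hz : G.ExactAt i := ShortComplex.exact_of_isZero_X₂ _ (hv i (Or.inl (by omega)))
      have h0 : IsZero (DCoh.HD E i) := hz.isZero_homology.of_iso
        ((DerivedCategory.homologyFunctor X.Modules i).mapIso e.symm ≪≫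
          (DerivedCategory.homologyFunctorFactors X.Modules i).app G)
      exact isQCoh_of_local fun x => by
        obtain ⟨R, j, hj, p, hp, -⟩ := exists_affine_chart ⊤ x trivial
        let N : ModuleCat.{u} R := ModuleCat.of R PUnit.{u + 1}
        have hN : Coh.IsQCoh ((tilde.functor R).obj N) :=
          inferInstanceAs (((tilde.functor R).obj N).IsQuasicoherent)
        exact ⟨_, j, hj, p, hp, TensorMod.isQCoh_of_iso
          (((tilde.functor R).map_isZero (ModuleCat.isZero_of_subsingleton N)).iso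
            ((Scheme.Modules.restrictFunctor j).map_isZero h0)) hN⟩
  refine (isPerfect_iff E).2 fun x => ?_
  obtain ⟨R, j, _, p, hp, -⟩ := exists_affine_chart ⊤ x trivial
  obtain ⟨M, ⟨e⟩⟩ := (Affine.isQCohD_iff R _).1 (isQCohD_restrictD j hq)
  have hT : DRing.HasTorAmplitudeIn R a b M := (hasFlatAmplitudeIn_tildeD_iff M a b).1 (by
    obtain ⟨G, hv, hfl, ⟨eG⟩⟩ := hasFlatAmplitudeIn_restrictD j h1
    exact ⟨G, hv, hfl, ⟨eG ≪≫ e.symm⟩⟩)
  have hP : DRing.IsPseudoCoherent R (a - 1) M := (isPseudoCoherentD_tildeD_iff M (a - 1)).1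
    ((isPseudoCoherentD_iff _ _).2 fun v => PCAt.of_iso e.symm
      (PCAt.res j rfl ((isPseudoCoherentD_iff _ _).1 h2 _)))
  obtain ⟨P, hPv, hPf, ⟨eP⟩⟩ := (Groth.Agent.S5611.result M a b hab).1 ⟨hP, hT⟩
  exact PerfAt.of_res j hp (PerfAt.of_iso e ((isPerfect_iff _).1
    ((isPerfect_tildeD_iff M).2 ⟨P, a, b, hPv, hPf, ⟨eP⟩⟩) p))

/-- Coherence is local. -/
theorem isCoh_of_local {M : X.Modules}
    (h : ∀ x : X, ∃ (R : CommRingCat.{u}) (j : Spec R ⟶ X) (_ : IsOpenImmersion j) (p : Spec R),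
      j.base p = x ∧ Coh.IsCoh ((Scheme.Modules.restrictFunctor j).obj M)) : Coh.IsCoh M := by
  have hq : Coh.IsQCoh M := isQCoh_of_local fun x => by
    obtain ⟨R, j, hj, p, hp, hM⟩ := h x
    exact ⟨_, j, hj, p, hp, hM.1⟩
  haveI : M.IsQuasicoherent := hq
  refine ⟨hq, QCohBase.isFiniteType_of_finite M fun x => ?_⟩
  obtain ⟨R, j, hj, p, hp, hM⟩ := h x
  exact ⟨j ''ᵁ ⊤, (isAffineOpen_top _).image_of_isOpenImmersion j, ⟨p, trivial, hp⟩,
    QCohBase.finite_of_restrict j M ⊤ (((QCohBase.isCoh_iff _).1 hM).2 ⊤ (isAffineOpen_top _))⟩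

/-- Rings of affine opens of locally Noetherian schemes. -/
theorem isNoetherianRing_chart [IsLocallyNoetherian X] {R : CommRingCat.{u}} (j : Spec R ⟶ X)
    [IsOpenImmersion j] : IsNoetherianRing R := by
  haveI : IsLocallyNoetherian (Spec R) := isLocallyNoetherian_of_isOpenImmersion j
  exact isLocallyNoetherian_Spec.1 inferInstance

/-- On a locally Noetherian scheme, pseudo-coherent objects with quasi-coherent cohomology have coherent
cohomology. -/
theorem isCoh_HD_of_pc [IsLocallyNoetherian X] {m : ℤ} {K : DCoh.D X} (hq : DCoh.IsQCohD K)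
    (hK : DCoh.IsPseudoCoherentD m K) {i : ℤ} (hi : m ≤ i) : Coh.IsCoh (DCoh.HD K i) :=
  isCoh_of_local fun x => by
    obtain ⟨R, j, hj, p, hp, -⟩ := exists_affine_chart ⊤ x trivial
    haveI := isNoetherianRing_chart j
    obtain ⟨M, ⟨e⟩⟩ := (Affine.isQCohD_iff R _).1 (isQCohD_restrictD j hq)
    have hP : DRing.IsPseudoCoherent R m M := (isPseudoCoherentD_tildeD_iff M m).1
      ((isPseudoCoherentD_iff _ _).2 fun v => PCAt.of_iso e.symm
        (PCAt.res j rfl ((isPseudoCoherentD_iff _ _).1 hK _)))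
    haveI : Module.Finite R ((DerivedCategory.homologyFunctor (ModuleCat.{u} R) i).obj M) :=
      ((Groth.Agent.S6942.result R m M R).1.1 hP).2 i hi
    have hc : Coh.IsCoh ((tilde.functor R).obj ((DerivedCategory.homologyFunctor (ModuleCat.{u} R) i).obj M)) :=
      QCohBase.isCoh_tilde _
    refine ⟨R, j, hj, p, hp, ?_⟩
    let e' : (tilde.functor R).obj ((DerivedCategory.homologyFunctor (ModuleCat.{u} R) i).obj M) ≅
        (Scheme.Modules.restrictFunctor j).obj (DCoh.HD K i) :=
      ((Affine.tildeHD R i).app M).symm ≪≫ (DerivedCategory.homologyFunctor _ i).mapIso e ≪≫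
        (nonempty_HD_restrictD j K i).some
    exact QCohBase.isCoh_of_epi e'.hom hc (TensorMod.isQCoh_of_iso e' hc.1)

end Groth.Agent.DCohBridge
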