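import Groth.Agent.DCohBridge.PushComp
import Groth.Agent.DCohBridge.TorAmp2
import Mathlib.Algebra.Homology.DerivedCategory.DerivabilityStructureInjectives
import Mathlib.Algebra.Homology.DerivedCategory.TStructure

/-!
The derived pullback is right t-exact.
-/

set_option backward.isDefEq.respectTransparency false
set_option backward.defeqAttrib.useBackward true

universe u

open CategoryTheory Limits AlgebraicGeometry

attribute [local instance] HasDerivedCategory.standard

namespace Groth.Agent.DCohBridge

variable {X Y : Scheme.{u}} (f : X ⟶ Y)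

/-- Maps from the pullback of a K-flat complex to a K-injective complex in higher degrees vanish. -/
lemma pull_hom_eq_zero {C : CochainComplex Y.Modules ℤ} (hC : DCoh.IsKFlat C) (n : ℤ) [C.IsLE n]
    {I : CochainComplex X.Modules ℤ} [I.IsKInjective] [I.IsStrictlyGE (n + 1)]
    (a : (pullH f).obj ((HomotopyCategory.quotient _ _).obj C) ⟶ (HomotopyCategory.quotient _ _).obj I) :
    a = 0 := by
  have hI : kInjP X ((HomotopyCategory.quotient _ _).obj I) := ⟨I, inferInstance, rfl⟩
  have h := bijective_Qh_map f (K := (HomotopyCategory.quotient _ _).obj C) ⟨C, hC, rfl⟩ hI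
  apply ((adjH f).homEquiv _ _).injective
  apply h.1
  let J : CochainComplex Y.Modules ℤ := ((Scheme.Modules.pushforward f).mapHomologicalComplex (ComplexShape.up ℤ)).obj I
  haveI : J.IsStrictlyGE (n + 1) :=
    (CochainComplex.isStrictlyGE_iff J (n + 1)).2 fun i hi =>
      (Scheme.Modules.pushforward f).map_isZero (I.isZero_of_isStrictlyGE (n + 1) i hi)
  haveI : DerivedCategory.TStructure.t.IsLE (DerivedCategory.Q.obj C) n :=
    inferInstanceAs ((DerivedCategory.Q.obj C).IsLE n)
  haveI : DerivedCategory.TStructure.t.IsGE (DerivedCategory.Q.obj J) (n + 1) :=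
    inferInstanceAs ((DerivedCategory.Q.obj J).IsGE (n + 1))
  let e₁ : DerivedCategory.Qh.obj ((HomotopyCategory.quotient _ _).obj C) ≅ DerivedCategory.Q.obj C :=
    (DerivedCategory.quotientCompQhIso Y.Modules).app C
  let e₂ : DerivedCategory.Qh.obj ((pushH f).obj ((HomotopyCategory.quotient _ _).obj I)) ≅ DerivedCategory.Q.obj J :=
    (DerivedCategory.quotientCompQhIso Y.Modules).app J
  have hz : ∀ φ : DerivedCategory.Qh.obj ((HomotopyCategory.quotient _ _).obj C) ⟶
      DerivedCategory.Qh.obj ((pushH f).obj ((HomotopyCategory.quotient _ _).obj I)), φ = 0 := fun φ => by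
    rw [← cancel_epi e₁.inv, ← cancel_mono e₂.hom]
    simp only [Category.assoc, Limits.zero_comp, Limits.comp_zero]
    exact DerivedCategory.TStructure.t.zero_of_isLE_of_isGE _ n (n + 1) (by lia) inferInstance inferInstance
  exact (hz _).trans (hz _).symm

/-- The pullback of a K-flat complex is as right bounded in cohomology as the complex. -/
theorem isLE_pull {C : CochainComplex Y.Modules ℤ} (hC : DCoh.IsKFlat C) (n : ℤ) [C.IsLE n] :
    ((pullCx f).obj C).IsLE n := by
  rw [CochainComplex.isLE_iff]
  intro i hi
  let P := (pullCx f).obj C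
  obtain ⟨I, s, hs, hI, hIinj⟩ : ∃ (I : CochainComplex X.Modules ℤ) (s : P.truncGE (n + 1) ⟶ I),
      QuasiIso s ∧ I.IsStrictlyGE (n + 1) ∧ I.IsKInjective := by
    obtain ⟨I, s, hs, hI, hInj⟩ :=
      CochainComplex.Plus.modelCategoryQuillen.exists_quasiIso_injective (P.truncGE (n + 1)) (n + 1)
    exact ⟨I, s, inferInstance, inferInstance, CochainComplex.isKInjective_of_injective _ (n + 1)⟩
  let π := P.πTruncGE (n + 1) ≫ s
  have h0 : (HomotopyCategory.quotient _ _).map π = 0 := pull_hom_eq_zero f hC n _
  have h1 : HomologicalComplex.homologyMap π i = 0 := by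
    rw [(HomotopyCategory.homotopyOfEq π 0 (h0.trans ((HomotopyCategory.quotient _ _).map_zero _ _).symm)).homologyMap_eq,
      HomologicalComplex.homologyMap_zero]
  haveI : QuasiIsoAt (P.πTruncGE (n + 1)) i := P.quasiIsoAt_πTruncGE (n + 1) i (by lia)
  haveI : IsIso (HomologicalComplex.homologyMap π i) := by
    rw [HomologicalComplex.homologyMap_comp]; infer_instance
  rw [HomologicalComplex.exactAt_iff_isZero_homology, IsZero.iff_id_eq_zero]
  rw [← cancel_mono (HomologicalComplex.homologyMap π i), h1]
  simp

end Groth.Agent.DCohBridge
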