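import Groth.Agent.DCohBridge.TensorDerived
import Groth.Agent.DCohBridge.TorAmp2
import Groth.Agent.DerCat.MapBifunctor
import Groth.Agent.SiteBase.PullTensor.Iso
import Groth.Prelude.Def_FSch6

/-!
Pullback commutes with total tensor complexes.
-/

set_option backward.isDefEq.respectTransparency false
set_option backward.defeqAttrib.useBackward true

universe u

open CategoryTheory Limits HomologicalComplex AlgebraicGeometry MonoidalCategory

attribute [local instance] HasDerivedCategory.standard

namespace Groth.Agent.DCohBridge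

section Site

variable {C D : Type u} [SmallCategory C] [SmallCategory D] {J : GrothendieckTopology C}
  {K : GrothendieckTopology D} {O_C : Sheaf J CommRingCat.{u}} {O_D : Sheaf K CommRingCat.{u}}
  (f : ModSite.RMor O_C O_D)

/-- `f^*` of a total tensor complex, on ringed sites. -/
noncomputable def totPullIsoSite [f.pull.Additive] [PreservesColimitsOfSize.{0, 0} f.pull]
    (F L : CochainComplex (ModSite.Mod O_D) ℤ) :
    (f.pull.mapHomologicalComplex (ComplexShape.up ℤ)).obj (((ModSite.tensorCx O_D).obj F).obj L) ≅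
      ((ModSite.tensorCx O_C).obj ((f.pull.mapHomologicalComplex (ComplexShape.up ℤ)).obj F)).obj
        ((f.pull.mapHomologicalComplex (ComplexShape.up ℤ)).obj L) :=
  (DerCat.mapBifunctorCompIso (ModSite.tensorBi O_D) (ModSite.tensorBi O_C) f.pull f.pull f.pull (𝟭 _)
    (fun M N => SiteBase.PullTensor.pullTensorIso f M N)
    (fun {M M'} a N => (SiteBase.PullTensor.deltaLeft f N).naturality a)
    (fun M {N N'} b => (SiteBase.PullTensor.deltaRight f M).naturality b) F L).symm

end Site

variable {X Y : Scheme.{u}} (f : X ⟶ Y)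

/-- `f^*` of a total tensor complex. -/
noncomputable def totPullIso (F L : CochainComplex Y.Modules ℤ) :
    (pullCx f).obj (totT F L) ≅ totT ((pullCx f).obj F) ((pullCx f).obj L) :=
  haveI : (Scheme.Modules.pullback f).Additive := inferInstance
  haveI : (ModSite.RMor.ofScheme f).pull.Additive :=
    Functor.additive_of_iso (ModSite.RMor.ofSchemePull f).symm
  haveI : PreservesColimitsOfSize.{0, 0} (ModSite.RMor.ofScheme f).pull :=
    preservesColimitsOfSize_shrink.{0, u, 0, u} _
  let e := NatIso.mapHomologicalComplex (ModSite.RMor.ofSchemePull f) (ComplexShape.up ℤ)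
  (e.app (totT F L)).symm ≪≫ totPullIsoSite (ModSite.RMor.ofScheme f) F L ≪≫
    (DCoh.tensorCx.mapIso (e.app F)).app _ ≪≫ (DCoh.tensorCx.obj _).mapIso (e.app L)

/-- Derived pullback commutes with the derived tensor product. -/
theorem exists_Lpull_LTensor_iso [DCoh.HasLpull f] (L : CochainComplex Y.Modules ℤ) (hL : DCoh.IsKFlat L)
    [DCoh.HasLTensorCx L] [DCoh.HasLTensorCx ((pullCx f).obj L)] (K : DCoh.D Y) :
    Nonempty ((DCoh.Lpull f).obj ((DCoh.LTensorCx L).obj K) ≅
      (DCoh.LTensorCx ((pullCx f).obj L)).obj ((DCoh.Lpull f).obj K)) := by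
  obtain ⟨P, hP, ⟨e⟩⟩ := exists_kFlat_obj K
  exact ⟨(DCoh.Lpull f).mapIso ((DCoh.LTensorCx L).mapIso e.symm ≪≫ LTensorCxIso L hP) ≪≫
    LpullIso f (SiteBase.KFlat.isKFlat_tot (O := Y.sheaf) hP hL) ≪≫
    DerivedCategory.Q.mapIso (totPullIso f P L) ≪≫
    (LTensorCxIso _ (isKFlat_pull f hP)).symm ≪≫
    (DCoh.LTensorCx _).mapIso ((LpullIso f hP).symm ≪≫ (DCoh.Lpull f).mapIso e)⟩

end Groth.Agent.DCohBridge
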