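import Groth.Agent.DCohBridge.PushProj
import Groth.Agent.DCohBridge.PushDerived

/-!
The projection formula for closed immersions in the derived category.
-/

set_option backward.isDefEq.respectTransparency false
set_option backward.defeqAttrib.useBackward true

universe u

open CategoryTheory Limits HomologicalComplex AlgebraicGeometry MonoidalCategory

attribute [local instance] HasDerivedCategory.standard

namespace Groth.Agent.DCohBridge

variable {X Y : Scheme.{u}} (f : X ⟶ Y) [IsClosedImmersion f]

/-- `f_*` on complexes. -/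
noncomputable abbrev pushCx : CochainComplex X.Modules ℤ ⥤ CochainComplex Y.Modules ℤ :=
  (Scheme.Modules.pushforward f).mapHomologicalComplex (ComplexShape.up ℤ)

/-- `f_*` preserves quasi-isomorphisms for a closed immersion. -/
theorem quasiIso_pushCx {F G : CochainComplex X.Modules ℤ} (s : F ⟶ G) [QuasiIso s] :
    QuasiIso ((pushCx f).map s) := by
  haveI := preservesFiniteColimits_push f
  haveI : PreservesFiniteLimits (Scheme.Modules.pushforward f) := inferInstance
  haveI : (Scheme.Modules.pushforward f).PreservesHomology := inferInstance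
  infer_instance

/-- For a closed immersion every complex computes the derived direct image. -/
theorem isIso_Rpush_unit_closed [DCoh.HasRpush f] (F : CochainComplex X.Modules ℤ) :
    IsIso (((DCoh.pushKh f).totalRightDerivedUnit DerivedCategory.Qh
      (HomotopyCategory.quasiIso X.Modules (ComplexShape.up ℤ))).app
        ((HomotopyCategory.quotient X.Modules (ComplexShape.up ℤ)).obj F)) := by
  obtain ⟨I, s, hI, hs⟩ := exists_kInj X F
  haveI := hs
  let ν := (DCoh.pushKh f).totalRightDerivedUnit DerivedCategory.Qh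
      (HomotopyCategory.quasiIso X.Modules (ComplexShape.up ℤ))
  let q := (HomotopyCategory.quotient X.Modules (ComplexShape.up ℤ)).map s
  haveI : IsIso (ν.app ((HomotopyCategory.quotient X.Modules (ComplexShape.up ℤ)).obj I)) :=
    isIso_Rpush_unit f ⟨I, hI, rfl⟩
  haveI h1 : IsIso ((DCoh.pushKh f).map q) :=
    Localization.inverts DerivedCategory.Qh (HomotopyCategory.quasiIso Y.Modules (ComplexShape.up ℤ)) _
      ((HomotopyCategory.quotient_map_mem_quasiIso_iff _).2 (quasiIso_pushCx f s))
  haveI : IsIso (DerivedCategory.Qh.map q) :=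
    Localization.inverts DerivedCategory.Qh (HomotopyCategory.quasiIso X.Modules (ComplexShape.up ℤ)) _
      ((HomotopyCategory.quotient_map_mem_quasiIso_iff _).2 hs)
  haveI h2 : IsIso ((DerivedCategory.Qh ⋙ DCoh.Rpush f).map q) := Functor.map_isIso (DCoh.Rpush f) _
  haveI h3 : IsIso (ν.app _ ≫ (DerivedCategory.Qh ⋙ DCoh.Rpush f).map q) := by
    rw [← ν.naturality q]
    infer_instance
  exact IsIso.of_isIso_comp_right _ ((DerivedCategory.Qh ⋙ DCoh.Rpush f).map q)

/-- The derived direct image under a closed immersion. -/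
noncomputable def RpushClosedIso [DCoh.HasRpush f] (F : CochainComplex X.Modules ℤ) :
    (DCoh.Rpush f).obj (DCoh.toD X F) ≅ DCoh.toD Y ((pushCx f).obj F) :=
  haveI := isIso_Rpush_unit_closed f F
  (DCoh.Rpush f).mapIso ((DerivedCategory.quotientCompQhIso X.Modules).app F).symm ≪≫
    (asIso (((DCoh.pushKh f).totalRightDerivedUnit DerivedCategory.Qh
      (HomotopyCategory.quasiIso X.Modules (ComplexShape.up ℤ))).app
        ((HomotopyCategory.quotient X.Modules (ComplexShape.up ℤ)).obj F))).symm ≪≫
    DerivedCategory.Qh.mapIso (((Scheme.Modules.pushforward f).mapHomotopyCategoryFactors (ComplexShape.up ℤ)).app F) ≪≫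
    (DerivedCategory.quotientCompQhIso Y.Modules).app _

/-- The projection formula for complexes. -/
noncomputable def projCxIso (F : CochainComplex X.Modules ℤ) (K : CochainComplex Y.Modules ℤ) :
    totT ((pushCx f).obj F) K ≅ (pushCx f).obj (totT F ((pullCx f).obj K)) :=
  haveI := preservesColimitsOfSize_push f
  haveI : (Scheme.Modules.pullback f).Additive := inferInstance
  (DCoh.tensorCx.obj _).mapIso ((NatIso.mapHomologicalComplex (Iso.refl (𝟭 Y.Modules)) (ComplexShape.up ℤ)).app K) ≪≫
  DerCat.mapBifunctorCompIso (DCoh.tensorBi (X := X)) (DCoh.tensorBi (X := Y)) (Scheme.Modules.pushforward f)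
    (𝟭 Y.Modules) (Scheme.Modules.pushforward f) (Scheme.Modules.pullback f)
    (fun M N => (projModIso f M N).symm)
    (fun {M M'} a N => by
      rw [Iso.symm_hom, Iso.symm_hom, Iso.comp_inv_eq, Category.assoc, Iso.eq_inv_comp]
      exact (projModHom_left f a N).symm)
    (fun M {N N'} b => by
      rw [Iso.symm_hom, Iso.symm_hom, Iso.comp_inv_eq, Category.assoc, Iso.eq_inv_comp]
      exact (projModHom_right f M b).symm) F K

/-- The projection formula for a closed immersion. -/
theorem exists_projection_iso [DCoh.HasRpush f] (P : CochainComplex Y.Modules ℤ) (hP : DCoh.IsKFlat P)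
    [DCoh.HasLTensorCx P] [DCoh.HasLTensorCx ((pullCx f).obj P)] (E : DCoh.D X) :
    Nonempty ((DCoh.LTensorCx P).obj ((DCoh.Rpush f).obj E) ≅
      (DCoh.Rpush f).obj ((DCoh.LTensorCx ((pullCx f).obj P)).obj E)) := by
  obtain ⟨F, ⟨e⟩⟩ : ∃ F, Nonempty (DCoh.toD X F ≅ E) := ⟨_, ⟨DerivedCategory.Q.objObjPreimageIso E⟩⟩
  exact ⟨(DCoh.LTensorCx P).mapIso ((DCoh.Rpush f).mapIso e.symm ≪≫ RpushClosedIso f F) ≪≫
    LTensorCxIso' hP _ ≪≫ DerivedCategory.Q.mapIso (projCxIso f F P) ≪≫ (RpushClosedIso f _).symm ≪≫
    (DCoh.Rpush f).mapIso ((LTensorCxIso' (isKFlat_pull f hP) F).symm ≪≫ (DCoh.LTensorCx _).mapIso e)⟩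

end Groth.Agent.DCohBridge
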