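import Groth.Agent.DCohBridge.PushComp
import Groth.Agent.DerCat.KInjProducts
import Mathlib.Algebra.Homology.HomotopyCategory.Triangulated
import Mathlib.Algebra.Homology.HomotopyCategory.Shift

/-!
Derived direct images preserve derived limits.
-/

set_option backward.isDefEq.respectTransparency false
set_option backward.defeqAttrib.useBackward true

universe u w v

open CategoryTheory Limits AlgebraicGeometry Pretriangulated

attribute [local instance] HasDerivedCategory.standard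

namespace Groth.Agent.DCohBridge

section Triangulated

variable {T : Type v} [Category.{w} T] [Preadditive T] [HasZeroObject T] [HasShift T ℤ]
  [∀ n : ℤ, (shiftFunctor T n).Additive] [Pretriangulated T]

/-- The fibre in a derived limit triangle. -/
lemma exists_iso_of_isRlim {K : ℕ → T} {t : ∀ n, K (n + 1) ⟶ K n} [HasProduct K] {L : T}
    (hL : DCoh.IsRlim K t L) {P C : T} (e : P ≅ ∏ᶜ K) {σ : P ⟶ P}
    (hσ : σ ≫ e.hom = e.hom ≫ Pi.lift fun n => Pi.π K n - Pi.π K (n + 1) ≫ t n)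
    {g : P ⟶ C} {h : C ⟶ P⟦(1 : ℤ)⟧} (hC : Triangle.mk σ g h ∈ distinguishedTriangles) :
    Nonempty (L ≅ C⟦(-1 : ℤ)⟧) := by
  obtain ⟨a, c, hac⟩ := hL
  have hrot := rot_of_distTriang _ hac
  obtain ⟨d, hd₁, hd₂⟩ := complete_distinguished_triangle_morphism _ _ hC hrot e.hom e.hom hσ
  let φ : Triangle.mk σ g h ⟶ (Triangle.mk a (Pi.lift fun n => Pi.π K n - Pi.π K (n + 1) ≫ t n) c).rotate :=
    { hom₁ := e.hom, hom₂ := e.hom, hom₃ := d, comm₁ := hσ, comm₂ := hd₁, comm₃ := hd₂ }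
  haveI : IsIso φ.hom₃ := isIso₃_of_isIso₁₂ φ hC hrot
    (inferInstanceAs (IsIso e.hom)) (inferInstanceAs (IsIso e.hom))
  exact ⟨((shiftShiftNeg L (1 : ℤ)).symm ≪≫ ((shiftFunctor T (-1 : ℤ)).mapIso (asIso φ.hom₃)).symm)⟩

/-- Recognition of derived limits by a cofibre. -/
lemma isRlim_of_triangle {K : ℕ → T} {t : ∀ n, K (n + 1) ⟶ K n} [HasProduct K] {L : T}
    {P C : T} (e : P ≅ ∏ᶜ K) {σ : P ⟶ P}
    (hσ : σ ≫ e.hom = e.hom ≫ Pi.lift fun n => Pi.π K n - Pi.π K (n + 1) ≫ t n)
    {g : P ⟶ C} {h : C ⟶ P⟦(1 : ℤ)⟧} (hC : Triangle.mk σ g h ∈ distinguishedTriangles)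
    (i : L ≅ C⟦(-1 : ℤ)⟧) : DCoh.IsRlim K t L := by
  let T₀ := (Triangle.mk σ g h).invRotate
  refine ⟨i.hom ≫ T₀.mor₁ ≫ e.hom, e.inv ≫ T₀.mor₃ ≫ i.inv⟦(1 : ℤ)⟧', ?_⟩
  refine isomorphic_distinguished _ (inv_rot_of_distTriang _ hC) _
    (Triangle.isoMk _ _ i e.symm e.symm ?_ ?_ ?_)
  · simp [T₀]
  · simp only [Triangle.mk_mor₂, Iso.symm_hom]
    change _ ≫ e.inv = e.inv ≫ σ
    rw [Iso.eq_inv_comp, ← Category.assoc, Iso.comp_inv_eq, hσ]
  · simp [T₀]

end Triangulated

variable {X Y : Scheme.{u}}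

/-- Maps into a product of complexes in the homotopy category. -/
theorem bijective_pi_homotopy (I : ℕ → CochainComplex X.Modules ℤ) [HasProduct I]
    (Z : HomotopyCategory X.Modules (ComplexShape.up ℤ)) :
    Function.Bijective (fun (φ : Z ⟶ (HomotopyCategory.quotient X.Modules (ComplexShape.up ℤ)).obj (∏ᶜ I)) (n : ℕ) =>
      φ ≫ (HomotopyCategory.quotient X.Modules (ComplexShape.up ℤ)).map (Pi.π I n)) := by
  obtain ⟨G, rfl⟩ := HomotopyCategory.quotient_obj_surjective Z
  refine ⟨fun φ ψ he => ?_, fun v => ?_⟩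
  · obtain ⟨a, rfl⟩ := (HomotopyCategory.quotient X.Modules (ComplexShape.up ℤ)).map_surjective φ
    obtain ⟨b, rfl⟩ := (HomotopyCategory.quotient X.Modules (ComplexShape.up ℤ)).map_surjective ψ
    choose c hc using fun n => DerCat.exists_extends_of_homotopy ((a - b) ≫ Pi.π I n)
      ((Homotopy.ofEq (Preadditive.sub_comp _ _ _)).trans (Homotopy.equivSubZero
        (HomotopyCategory.homotopyOfEq _ _ (by
          rw [Functor.map_comp, Functor.map_comp]; exact congrFun he n))))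
    obtain ⟨h⟩ := DerCat.nullHomotopic_of_extends (a - b) (Pi.lift c)
      (Pi.hom_ext _ _ fun n => by rw [Category.assoc, Pi.lift_π]; exact hc n)
    exact HomotopyCategory.eq_of_homotopy _ _ (Homotopy.equivSubZero.symm h)
  · choose a ha using fun n => (HomotopyCategory.quotient X.Modules (ComplexShape.up ℤ)).map_surjective (v n)
    refine ⟨(HomotopyCategory.quotient X.Modules (ComplexShape.up ℤ)).map (Pi.lift a), funext fun n => ?_⟩
    change _ ≫ _ = v n
    rw [← Functor.map_comp, Pi.lift_π, ha]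

variable (f : X ⟶ Y)

/-- The product of K-injective complexes computes products of derived direct images. -/
theorem exists_iso_pi {Z : ℕ → DCoh.D Y} [HasProduct Z] (I : ℕ → CochainComplex X.Modules ℤ) [HasProduct I]
    (hI : ∀ n, (I n).IsKInjective)
    (e : ∀ n, DerivedCategory.Qh.obj ((pushH f).obj ((HomotopyCategory.quotient _ _).obj (I n))) ≅ Z n) :
    ∃ ε : DerivedCategory.Qh.obj ((pushH f).obj ((HomotopyCategory.quotient _ _).obj (∏ᶜ I))) ≅ ∏ᶜ Z,
      ∀ n, ε.hom ≫ Pi.π Z n = DerivedCategory.Qh.map ((pushH f).map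
        ((HomotopyCategory.quotient _ _).map (Pi.π I n))) ≫ (e n).hom := by
  let m := Pi.lift fun n => DerivedCategory.Qh.map ((pushH f).map
    ((HomotopyCategory.quotient X.Modules (ComplexShape.up ℤ)).map (Pi.π I n))) ≫ (e n).hom
  have hP := DerCat.isKInjective_pi I hI
  haveI : IsIso m := isIso_of_bijective_kFlat m fun L hL => by
    have hb := bijective_Qh_map f hL ⟨_, hP, rfl⟩
    refine (Function.Bijective.of_comp_iff _ hb).1 ?_
    have h0 : Function.Bijective (fun (a : L ⟶ (pushH f).obj ((HomotopyCategory.quotient _ _).obj (∏ᶜ I))) (n : ℕ) =>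
        (DerivedCategory.Qh.map (a ≫ (pushH f).map ((HomotopyCategory.quotient _ _).map (Pi.π I n))) ≫ (e n).hom)) := by
      have h1 := (bijective_pi_homotopy I ((pullH f).obj L)).comp ((adjH f).homEquiv L _).symm.bijective
      have h2 : Function.Bijective (fun (v : ∀ n, (pullH f).obj L ⟶ (HomotopyCategory.quotient _ _).obj (I n)) (n : ℕ) =>
          DerivedCategory.Qh.map ((adjH f).homEquiv L _ (v n)) ≫ (e n).hom) :=
        Function.Bijective.piMap fun n => ((Iso.homToEquiv (e n)).bijective.comp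
          ((bijective_Qh_map f hL ⟨_, hI n, rfl⟩).comp ((adjH f).homEquiv L _).bijective))
      refine Function.Bijective.of_comp_iff _ (Equiv.refl _).bijective |>.1 ?_
      convert h2.comp h1 using 1
      funext a n
      simp only [Function.comp_apply, Equiv.refl_apply]
      rw [Adjunction.homEquiv_naturality_right, Equiv.apply_symm_apply]
    let E : (DerivedCategory.Qh.obj L ⟶ ∏ᶜ Z) ≃ ∀ n, (DerivedCategory.Qh.obj L ⟶ Z n) :=
      { toFun := fun φ n => φ ≫ Pi.π Z n
        invFun := fun v => Pi.lift v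
        left_inv := fun φ => Pi.hom_ext _ _ fun n => by simp
        right_inv := fun v => funext fun n => by simp }
    refine (Function.Bijective.of_comp_iff' E.bijective _).1 ?_
    convert h0 using 1
    funext a n
    simp [E, m]
  exact ⟨asIso m, fun n => by simp [m]⟩

/-- The product of K-injective complexes is the product in the derived category. -/
theorem exists_iso_pi_self {Z : ℕ → DCoh.D X} [HasProduct Z] (I : ℕ → CochainComplex X.Modules ℤ) [HasProduct I]
    (hI : ∀ n, (I n).IsKInjective)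
    (e : ∀ n, DerivedCategory.Qh.obj ((HomotopyCategory.quotient _ _).obj (I n)) ≅ Z n) :
    ∃ ε : DerivedCategory.Qh.obj ((HomotopyCategory.quotient _ _).obj (∏ᶜ I)) ≅ ∏ᶜ Z,
      ∀ n, ε.hom ≫ Pi.π Z n = DerivedCategory.Qh.map
        ((HomotopyCategory.quotient _ _).map (Pi.π I n)) ≫ (e n).hom := by
  let m := Pi.lift fun n => DerivedCategory.Qh.map
    ((HomotopyCategory.quotient X.Modules (ComplexShape.up ℤ)).map (Pi.π I n)) ≫ (e n).hom
  haveI := DerCat.isKInjective_pi I hI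
  haveI := hI
  haveI : IsIso m := isIso_of_bijective_kFlat m fun L _ => by
    have hb := CochainComplex.IsKInjective.Qh_map_bijective L (∏ᶜ I)
    refine (Function.Bijective.of_comp_iff _ hb).1 ?_
    let E : (DerivedCategory.Qh.obj L ⟶ ∏ᶜ Z) ≃ ∀ n, (DerivedCategory.Qh.obj L ⟶ Z n) :=
      { toFun := fun φ n => φ ≫ Pi.π Z n
        invFun := fun v => Pi.lift v
        left_inv := fun φ => Pi.hom_ext _ _ fun n => by simp
        right_inv := fun v => funext fun n => by simp }
    refine (Function.Bijective.of_comp_iff' E.bijective _).1 ?_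
    have h2 : Function.Bijective (fun (v : ∀ n, L ⟶ (HomotopyCategory.quotient _ _).obj (I n)) (n : ℕ) =>
        DerivedCategory.Qh.map (v n) ≫ (e n).hom) :=
      Function.Bijective.piMap fun n => ((Iso.homToEquiv (e n)).bijective.comp
        (CochainComplex.IsKInjective.Qh_map_bijective L (I n)))
    convert h2.comp (bijective_pi_homotopy I L) using 1
    funext a n
    simp [E, m]
  exact ⟨asIso m, fun n => by simp [m]⟩

/-- The derived direct image preserves derived limits. -/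
theorem isRlim_Rpush [DCoh.HasRpush f] {K : ℕ → DCoh.D X} {t : ∀ n, K (n + 1) ⟶ K n} [HasProduct K]
    [HasProduct fun n => (DCoh.Rpush f).obj (K n)] {L : DCoh.D X} (hL : DCoh.IsRlim K t L) :
    DCoh.IsRlim (fun n => (DCoh.Rpush f).obj (K n)) (fun n => (DCoh.Rpush f).map (t n))
      ((DCoh.Rpush f).obj L) := by
  let Qx := HomotopyCategory.quotient X.Modules (ComplexShape.up ℤ)
  let η := (DCoh.pushKh f).totalRightDerivedUnit DerivedCategory.Qh
      (HomotopyCategory.quasiIso X.Modules (ComplexShape.up ℤ))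
  -- representatives
  choose I qI hI hqI using fun n => exists_kInj X (DerivedCategory.Q.objPreimage (K n))
  haveI := hI
  let eI : ∀ n, DerivedCategory.Qh.obj (Qx.obj (I n)) ≅ K n := fun n =>
    (DerivedCategory.quotientCompQhIso X.Modules).app (I n) ≪≫
      (@asIso _ _ _ _ (DerivedCategory.Q.map (qI n)) (haveI := hqI n; inferInstance)).symm ≪≫
      DerivedCategory.Q.objObjPreimageIso (K n)
  choose T hT using fun n => (CochainComplex.IsKInjective.Qh_map_bijective (Qx.obj (I (n + 1))) (I n)).2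
    ((eI (n + 1)).hom ≫ t n ≫ (eI n).inv)
  choose τ hτ using fun n => Qx.map_surjective (T n)
  let σ : ∏ᶜ I ⟶ ∏ᶜ I := Pi.lift fun n => Pi.π I n - Pi.π I (n + 1) ≫ τ n
  have hkey : ∀ n, Qx.map σ ≫ Qx.map (Pi.π I n) = Qx.map (Pi.π I n) - Qx.map (Pi.π I (n + 1)) ≫ T n := fun n => by
    rw [← Functor.map_comp, Pi.lift_π, Functor.map_sub, Functor.map_comp, hτ]
  -- over `X`
  obtain ⟨εX, hεX⟩ := exists_iso_pi_self (Z := K) I hI eI
  have hσX : DerivedCategory.Qh.map (Qx.map σ) ≫ εX.hom =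
      εX.hom ≫ Pi.lift fun n => Pi.π K n - Pi.π K (n + 1) ≫ t n := by
    refine Pi.hom_ext _ _ fun n => ?_
    simp only [Category.assoc, Pi.lift_π, Preadditive.comp_sub, hεX]
    rw [reassoc_of% hεX (n + 1), ← Functor.map_comp_assoc, hkey, Functor.map_sub, Preadditive.sub_comp,
      Functor.map_comp, Category.assoc, hT]
    simp [Qx]
  have hC := HomotopyCategory.mappingCone_triangleh_distinguished σ
  let C := Qx.obj (CochainComplex.mappingCone σ)
  obtain ⟨iX⟩ := exists_iso_of_isRlim hL εX hσX (DerivedCategory.Qh.map_distinguished _ hC)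
  -- the fibre is K-injective
  have hP := DerCat.isKInjective_pi I hI
  have hC' : kInjP X C := ⟨_, by
    rw [CochainComplex.isKInjective_iff_rightOrthogonal]
    exact ObjectProperty.ext_of_isTriangulatedClosed₃ _ _ hC
      ((CochainComplex.isKInjective_iff_rightOrthogonal _).1 hP)
      ((CochainComplex.isKInjective_iff_rightOrthogonal _).1 hP), rfl⟩
  obtain ⟨J, hJ, hJC⟩ := hC'
  have hF : kInjP X (Qx.obj (J⟦(-1 : ℤ)⟧)) := ⟨_, inferInstance, rfl⟩
  let eJ : Qx.obj (J⟦(-1 : ℤ)⟧) ≅ C⟦(-1 : ℤ)⟧ :=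
    (Qx.commShiftIso (-1 : ℤ)).app J ≪≫ (shiftFunctor _ (-1 : ℤ)).mapIso (eqToIso hJC)
  haveI := isIso_Rpush_unit f hF
  let iY : (DCoh.Rpush f).obj L ≅ ((DCoh.pushKh f).obj C)⟦(-1 : ℤ)⟧ :=
    (DCoh.Rpush f).mapIso (iX ≪≫ ((DerivedCategory.Qh.commShiftIso (-1 : ℤ)).app C).symm ≪≫
      DerivedCategory.Qh.mapIso eJ.symm) ≪≫ (asIso (η.app (Qx.obj (J⟦(-1 : ℤ)⟧)))).symm ≪≫
      (DCoh.pushKh f).mapIso eJ ≪≫ ((DCoh.pushKh f).commShiftIso (-1 : ℤ)).app C
  -- over `Y`
  let eY : ∀ n, DerivedCategory.Qh.obj ((pushH f).obj (Qx.obj (I n))) ≅ (DCoh.Rpush f).obj (K n) := fun n =>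
    @asIso _ _ _ _ (η.app (Qx.obj (I n))) (isIso_Rpush_unit f ⟨_, hI n, rfl⟩) ≪≫ (DCoh.Rpush f).mapIso (eI n)
  obtain ⟨εY, hεY⟩ := exists_iso_pi f (Z := fun n => (DCoh.Rpush f).obj (K n)) I hI eY
  have hnat : ∀ n, (DCoh.pushKh f).map (T n) ≫ (eY n).hom = (eY (n + 1)).hom ≫ (DCoh.Rpush f).map (t n) := fun n => by
    have h' := η.naturality (T n)
    change (DCoh.pushKh f).map (T n) ≫ η.app _ ≫ (DCoh.Rpush f).map (eI n).hom =
      (η.app _ ≫ (DCoh.Rpush f).map (eI (n + 1)).hom) ≫ _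
    refine ((Category.assoc _ _ _).symm.trans (congrArg (· ≫ (DCoh.Rpush f).map (eI n).hom) h')).trans ?_
    refine (Category.assoc _ _ _).trans (Eq.trans ?_ (Category.assoc _ _ _).symm)
    refine congrArg (η.app (Qx.obj (I (n + 1))) ≫ ·) ?_
    change (DCoh.Rpush f).map (DerivedCategory.Qh.map (T n)) ≫ _ = _
    rw [← Functor.map_comp, ← Functor.map_comp, hT]
    simp
  have hσY : (DCoh.pushKh f).map (Qx.map σ) ≫ εY.hom = εY.hom ≫ Pi.lift fun n =>
      Pi.π (fun n => (DCoh.Rpush f).obj (K n)) n - Pi.π (fun n => (DCoh.Rpush f).obj (K n)) (n + 1) ≫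
        (DCoh.Rpush f).map (t n) := by
    refine Pi.hom_ext _ _ fun n => ?_
    simp only [Category.assoc, Pi.lift_π, Preadditive.comp_sub, hεY]
    rw [reassoc_of% hεY (n + 1), ← hnat]
    change (DCoh.pushKh f).map (Qx.map σ) ≫ (DCoh.pushKh f).map (Qx.map (Pi.π I n)) ≫ (eY n).hom =
      (DCoh.pushKh f).map (Qx.map (Pi.π I n)) ≫ (eY n).hom -
        (DCoh.pushKh f).map (Qx.map (Pi.π I (n + 1))) ≫ (DCoh.pushKh f).map (T n) ≫ (eY n).hom
    rw [← Functor.map_comp_assoc, hkey, Functor.map_sub, Preadditive.sub_comp, Functor.map_comp, Category.assoc]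
  exact isRlim_of_triangle εY hσY ((DCoh.pushKh f).map_distinguished _ hC) iY

end Groth.Agent.DCohBridge
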