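import Groth.Prelude.Def_DerSch
import Mathlib.Topology.Sheaves.SheafCondition.UniqueGluing
import Mathlib.CategoryTheory.Abelian.Exact

/-!
Skyscraper modules on a scheme: the right adjoint of the stalk functor `DerSch.stalkFunctor X x`.
-/

set_option backward.isDefEq.respectTransparency false
set_option backward.defeqAttrib.useBackward true

universe u

open CategoryTheory Limits Opposite TopologicalSpace AlgebraicGeometry

namespace Groth.Agent.DCohBridge

variable {X : Scheme.{u}} (x : X)

/-- Sections of the skyscraper module. -/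
abbrev SkySec (N : ModuleCat.{u} (X.presheaf.stalk x)) (U : (X.Opens)ᵒᵖ) : Type u :=
  PLift (x ∈ U.unop) → N

noncomputable instance (N : ModuleCat.{u} (X.presheaf.stalk x)) (U : (X.Opens)ᵒᵖ) :
    Module (X.presheaf.obj U) (SkySec x N U) where
  smul r f h := X.presheaf.germ U.unop x h.down r • f h
  one_smul f := funext fun h => by
    change X.presheaf.germ U.unop x h.down 1 • f h = _
    rw [map_one, one_smul]
  mul_smul r r' f := funext fun h => by
    change X.presheaf.germ U.unop x h.down (r * r') • f h =
      X.presheaf.germ U.unop x h.down r • X.presheaf.germ U.unop x h.down r' • f h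
    rw [map_mul, mul_smul]
  smul_zero r := funext fun h => smul_zero (X.presheaf.germ U.unop x h.down r)
  smul_add r f g := funext fun h => smul_add (X.presheaf.germ U.unop x h.down r) _ _
  add_smul r r' f := funext fun h => by
    change X.presheaf.germ U.unop x h.down (r + r') • f h = _
    rw [map_add, add_smul]
    rfl
  zero_smul f := funext fun h => by
    change X.presheaf.germ U.unop x h.down 0 • f h = _
    rw [map_zero, zero_smul]
    rfl

lemma skySec_smul (N : ModuleCat.{u} (X.presheaf.stalk x)) (U : (X.Opens)ᵒᵖ) (r : X.presheaf.obj U)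
    (f : SkySec x N U) (h : PLift (x ∈ U.unop)) : (r • f) h = X.presheaf.germ U.unop x h.down r • f h := rfl

/-- The skyscraper presheaf of modules. -/
noncomputable def skyPM (N : ModuleCat.{u} (X.presheaf.stalk x)) :
    PresheafOfModules.{u} (X.presheaf ⋙ forget₂ CommRingCat.{u} RingCat.{u}) where
  obj U := ModuleCat.of (X.presheaf.obj U) (SkySec x N U)
  map {U V} h := ModuleCat.ofHom (Y := (ModuleCat.restrictScalars (X.presheaf.map h).hom).obj
      (ModuleCat.of (X.presheaf.obj V) (SkySec x N V)))
    { toFun := fun f hx => f ⟨leOfHom h.unop hx.down⟩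
      map_add' := fun f g => rfl
      map_smul' := fun r f => funext fun hx => by
        change X.presheaf.germ U.unop x _ r • f _ = X.presheaf.germ V.unop x hx.down (X.presheaf.map h r) • f _
        congr 1
        exact (X.presheaf.germ_res_apply h.unop x hx.down r).symm }
  map_id U := rfl
  map_comp f g := rfl

lemma isSheaf_skyPM (N : ModuleCat.{u} (X.presheaf.stalk x)) :
    TopCat.Presheaf.IsSheaf (skyPM x N).presheaf := by
  refine (TopCat.Presheaf.isSheaf_iff_isSheafUniqueGluing _).2 fun ι U sf hsf => ?_
  refine ⟨fun h => (sf (Opens.mem_iSup.1 h.down).choose) ⟨(Opens.mem_iSup.1 h.down).choose_spec⟩,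
    fun i => funext fun h => ?_, fun g hg => funext fun h => ?_⟩
  · have hm : x ∈ iSup U := Opens.mem_iSup.2 ⟨i, h.down⟩
    exact (congrFun (hsf i (Opens.mem_iSup.1 hm).choose)
      ⟨⟨h.down, (Opens.mem_iSup.1 hm).choose_spec⟩⟩).symm
  · exact congrFun (hg (Opens.mem_iSup.1 h.down).choose) ⟨(Opens.mem_iSup.1 h.down).choose_spec⟩

/-- The skyscraper module. -/
noncomputable def skyObj (N : ModuleCat.{u} (X.presheaf.stalk x)) : X.Modules :=
  ⟨skyPM x N, isSheaf_skyPM x N⟩

/-- Skyscraper modules, as a functor. -/
noncomputable def sky : ModuleCat.{u} (X.presheaf.stalk x) ⥤ X.Modules where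
  obj := skyObj x
  map {N N'} φ := ⟨{
    app := fun U => ModuleCat.ofHom (R := X.presheaf.obj U) (X := SkySec x N U) (Y := SkySec x N' U)
      { toFun := fun f h => φ (f h)
        map_add' := fun f g => funext fun h => map_add φ.hom _ _
        map_smul' := fun r f => funext fun h => map_smul φ.hom _ _ }
    naturality := fun h => rfl }⟩
  map_id N := rfl
  map_comp φ ψ := rfl

variable {x}

/-- The germ at `x` of a section of a module. -/
noncomputable abbrev gmM (M : X.Modules) (U : X.Opens) (hx : x ∈ U) :
    M.presheaf.obj (op U) →+ M.presheaf.stalk x :=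
  (M.presheaf.germ U x hx).hom

lemma gmM_smul (M : X.Modules) (U : X.Opens) (hx : x ∈ U) (r : X.presheaf.obj (op U))
    (s : M.val.obj (op U)) : gmM M U hx (r • s) = X.presheaf.germ U x hx r • gmM M U hx s :=
  PresheafOfModules.germ_smul M.val x U hx r s

lemma stalk_hom_ext {M : X.Modules} {N : ModuleCat.{u} (X.presheaf.stalk x)}
    {φ ψ : (DerSch.stalkFunctor X x).obj M ⟶ N}
    (h : ∀ (U : X.Opens) (hx : x ∈ U) (s : M.presheaf.obj (op U)), φ (gmM M U hx s) = ψ (gmM M U hx s)) :
    φ = ψ := by
  ext m
  obtain ⟨U, hx, s, rfl⟩ := TopCat.Presheaf.exists_germ_eq (C := AddCommGrpCat.{u}) M.presheaf (x := x) m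
  exact h U hx s

/-- From a map on the stalk to a map to the skyscraper. -/
noncomputable def toSky {M : X.Modules} {N : ModuleCat.{u} (X.presheaf.stalk x)}
    (φ : (DerSch.stalkFunctor X x).obj M ⟶ N) : M ⟶ (sky x).obj N :=
  ⟨{ app := fun U => ModuleCat.ofHom (R := X.presheaf.obj U) (X := M.val.obj U) (Y := SkySec x N U)
      { toFun := fun s h => φ (gmM M U.unop h.down s)
        map_add' := fun s t => funext fun h => by
          change φ.hom _ = φ.hom _ + φ.hom _
          rw [map_add, map_add]
        map_smul' := fun r s => funext fun h => by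
          change φ.hom _ = X.presheaf.germ U.unop x h.down r • φ.hom _
          rw [gmM_smul, map_smul] }
     naturality := fun {U V} k => by
      ext s
      funext h
      exact congrArg φ (TopCat.Presheaf.germ_res_apply (C := AddCommGrpCat.{u}) M.presheaf k.unop x h.down s) }⟩

/-- The components of a map to the skyscraper. -/
noncomputable def skyComp {M : X.Modules} {N : ModuleCat.{u} (X.presheaf.stalk x)} (g : M ⟶ (sky x).obj N)
    (U : X.Opens) (hx : x ∈ U) : M.presheaf.obj (op U) →+ N :=
  AddMonoidHom.mk' (fun (s : M.val.obj (op U)) => ((g.val.app (op U)).hom s : SkySec x N (op U)) ⟨hx⟩)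
    (fun s t => congrFun (map_add (g.val.app (op U)).hom s t) _)

lemma skyComp_res {M : X.Modules} {N : ModuleCat.{u} (X.presheaf.stalk x)} (g : M ⟶ (sky x).obj N)
    {U V : X.Opens} (h : V ⟶ U) (hx : x ∈ V) (s : M.presheaf.obj (op U)) :
    skyComp g V hx (M.presheaf.map h.op s) = skyComp g U (leOfHom h hx) s :=
  congrFun (PresheafOfModules.naturality_apply g.val h.op (show M.val.obj (op U) from s)) ⟨hx⟩

/-- The induced map on the stalk, additively. -/
noncomputable def ofSkyAb {M : X.Modules} {N : ModuleCat.{u} (X.presheaf.stalk x)} (g : M ⟶ (sky x).obj N) :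
    M.presheaf.stalk x ⟶ AddCommGrpCat.of N :=
  colimit.desc ((OpenNhds.inclusion x).op ⋙ M.presheaf)
    { pt := AddCommGrpCat.of N
      ι :=
        { app := fun U => AddCommGrpCat.ofHom (skyComp g ((OpenNhds.inclusion x).obj U.unop) U.unop.2)
          naturality := fun U V k => by
            ext s
            exact skyComp_res g ((OpenNhds.inclusion x).map k.unop) V.unop.2 s } }

lemma ofSkyAb_gm {M : X.Modules} {N : ModuleCat.{u} (X.presheaf.stalk x)} (g : M ⟶ (sky x).obj N)
    (U : X.Opens) (hx : x ∈ U) (s : M.val.obj (op U)) :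
    ofSkyAb g (gmM M U hx s) = ((g.val.app (op U)).hom s : SkySec x N (op U)) ⟨hx⟩ :=
  ConcreteCategory.congr_hom (colimit.ι_desc (F := (OpenNhds.inclusion x).op ⋙ M.presheaf) _
    (op (⟨U, hx⟩ : OpenNhds x))) s

/-- From a map to the skyscraper to a map on the stalk. -/
noncomputable def ofSky {M : X.Modules} {N : ModuleCat.{u} (X.presheaf.stalk x)} (g : M ⟶ (sky x).obj N) :
    (DerSch.stalkFunctor X x).obj M ⟶ N :=
  ModuleCat.ofHom (X := (DerSch.stalkFunctor X x).obj M) (Y := N)
    { toFun := fun m => ofSkyAb g m
      map_add' := fun m m' => map_add (ofSkyAb g).hom m m'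
      map_smul' := fun σ m => by
        obtain ⟨U, hU, s, rfl⟩ := TopCat.Presheaf.exists_germ_eq (C := AddCommGrpCat.{u}) M.presheaf (x := x) m
        obtain ⟨V, hV, r, rfl⟩ := TopCat.Presheaf.exists_germ_eq X.presheaf σ
        rw [← X.presheaf.germ_res_apply (homOfLE (inf_le_right : U ⊓ V ≤ V)) x ⟨hU, hV⟩ r,
          ← TopCat.Presheaf.germ_res_apply (C := AddCommGrpCat.{u}) M.presheaf
            (homOfLE (inf_le_left : U ⊓ V ≤ U)) x ⟨hU, hV⟩ s]
        change ofSkyAb g (_ • gmM M (U ⊓ V) ⟨hU, hV⟩ (M.val.map (homOfLE _).op s)) = _ • _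
        rw [← gmM_smul, ofSkyAb_gm]
        erw [ofSkyAb_gm, map_smul]
        rfl }

variable (x)

/-- The stalk functor is left adjoint to the skyscraper. -/
noncomputable def stalkSkyAdj : DerSch.stalkFunctor X x ⊣ sky x :=
  Adjunction.mkOfHomEquiv
    { homEquiv := fun M N =>
        { toFun := toSky
          invFun := ofSky
          left_inv := fun φ => stalk_hom_ext fun U hx s => ofSkyAb_gm (toSky φ) U hx s
          right_inv := fun g => by
            ext U s
            funext h
            exact ofSkyAb_gm g U h.down s }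
      homEquiv_naturality_left_symm := fun {M M' N} f g => stalk_hom_ext fun U hx s => by
        change ofSkyAb (f ≫ g) (gmM M U hx s) = ofSkyAb g ((DerSch.stalkFunctor X x).map f (gmM M U hx s))
        rw [DerSch.stalkFunctor_map_germ, ofSkyAb_gm]
        exact (ofSkyAb_gm g U hx _).symm
      homEquiv_naturality_right := fun {M N N'} f g => rfl }

end Groth.Agent.DCohBridge
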