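import Groth.Agent.DCohBridge.StalkTensor
import Groth.Agent.DerCat.MapBifunctor
import Groth.Agent.SiteBase.KFlat.QuasiIso
import Groth.Prelude.Def_DCoh4

/-!
A complex of modules on a scheme is K-flat iff all its stalk complexes are.
-/

set_option backward.isDefEq.respectTransparency false
set_option backward.defeqAttrib.useBackward true

universe u

open CategoryTheory MonoidalCategory Limits Opposite TopologicalSpace AlgebraicGeometry

namespace Groth.Agent.DCohBridge

variable {X : Scheme.{u}} (x : X)

/-- The stalk complex. -/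
noncomputable abbrev stCx : CochainComplex X.Modules ℤ ⥤ DRing.Cx (X.presheaf.stalk x) :=
  (DerSch.stalkFunctor X x).mapHomologicalComplex (ComplexShape.up ℤ)

instance preservesColimitsOfSize_zero_stalk : PreservesColimitsOfSize.{0, 0} (DerSch.stalkFunctor X x) :=
  haveI : PreservesColimitsOfSize.{u, u} (DerSch.stalkFunctor X x) := (stalkSkyAdj x).leftAdjoint_preservesColimits
  preservesColimitsOfSize_shrink.{0, u, 0, u} _

/-- Stalks commute with the total tensor product. -/
noncomputable def stalkTotIso (F K : CochainComplex X.Modules ℤ) :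
    (stCx x).obj F ⊗ (stCx x).obj K ≅ (stCx x).obj ((DCoh.tensorCx.obj F).obj K) :=
  DerCat.mapBifunctorCompIso (DCoh.tensorBi (X := X)) (curriedTensor (ModuleCat.{u} (X.presheaf.stalk x)))
    (DerSch.stalkFunctor X x) (DerSch.stalkFunctor X x) (DerSch.stalkFunctor X x) (𝟭 X.Modules)
    (fun M N => stalkTensorIso x M N)
    (fun {M M'} a N => by
      have h := theta_natural x a (𝟙 N)
      rw [CategoryTheory.Functor.map_id, Category.comp_id, CategoryTheory.Functor.map_id, tensorHom_id] at h
      exact h)
    (fun M {N N'} b => by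
      have h := theta_natural x (𝟙 M) b
      rw [CategoryTheory.Functor.map_id, NatTrans.id_app, Category.id_comp, CategoryTheory.Functor.map_id,
        id_tensorHom] at h
      exact h)
    F K

lemma acyclic_stCx {F : CochainComplex X.Modules ℤ} (h : F.Acyclic) : ((stCx x).obj F).Acyclic :=
  (acyclic_iff_stalk F).1 h x

/-- K-flatness can be checked on stalks. -/
theorem isKFlat_of_stalk {K : CochainComplex X.Modules ℤ}
    (h : ∀ x : X, DRing.IsKFlat (X.presheaf.stalk x) ((stCx x).obj K)) : DCoh.IsKFlat K := by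
  intro L hL
  refine SiteBase.KFlat.acyclic_iff_isZero.1 ((acyclic_iff_stalk _).2 fun x => ?_)
  exact SiteBase.KFlat.acyclic_of_iso (stalkTotIso x L K)
    (SiteBase.KFlat.acyclic_iff_isZero.2
      (h x ((stCx x).obj L) (SiteBase.KFlat.acyclic_iff_isZero.1 (acyclic_stCx x
        (SiteBase.KFlat.acyclic_iff_isZero.2 hL)))))

/-- Skyscraper complexes. -/
noncomputable abbrev skyCx : DRing.Cx (X.presheaf.stalk x) ⥤ CochainComplex X.Modules ℤ :=
  (sky x).mapHomologicalComplex (ComplexShape.up ℤ)

/-- The stalk complex of a skyscraper complex. -/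
noncomputable def stCxSkyIso (L : DRing.Cx (X.presheaf.stalk x)) :
    (stCx x).obj ((skyCx x).obj L) ≅ L :=
  HomologicalComplex.Hom.isoOfComponents (fun n => (stalkSkyIso x).app (L.X n))
    (fun i j _ => ((stalkSkyIso x).hom.naturality (L.d i j)).symm)

/-- The stalk complexes of a K-flat complex are K-flat. -/
theorem isKFlat_stalk {K : CochainComplex X.Modules ℤ} (h : DCoh.IsKFlat K) :
    DRing.IsKFlat (X.presheaf.stalk x) ((stCx x).obj K) := by
  intro L hL
  refine SiteBase.KFlat.acyclic_iff_isZero.1 ?_
  have hs : ((skyCx x).obj L).Acyclic := fun n =>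
    ShortComplex.Exact.map ((SiteBase.KFlat.acyclic_iff_isZero.2 hL) n) (sky x)
  refine SiteBase.KFlat.acyclic_of_iso
    ((stalkTotIso x ((skyCx x).obj L) K).symm ≪≫ MonoidalCategory.whiskerRightIso (stCxSkyIso x L) _)
    (acyclic_stCx x (SiteBase.KFlat.acyclic_iff_isZero.2 (h _ (SiteBase.KFlat.acyclic_iff_isZero.1 hs))))

end Groth.Agent.DCohBridge
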