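import Groth.Agent.DCohBridge.OpenBaseChangeNat
import Groth.Agent.DCohBridge.QCohDLocal
import Groth.Agent.DCohBridge.PushProj
import Groth.Agent.DCohBridge.FinLocFreeTensor
import Groth.Agent.DCohBridge.PerfectLocal
import Groth.Prelude.Def_CohB1

/-!
Objects of the derived category supported inside an open subscheme.
-/

set_option backward.isDefEq.respectTransparency false
set_option backward.defeqAttrib.useBackward true

noncomputable section

universe u

open CategoryTheory Limits AlgebraicGeometry Opposite TopologicalSpace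
open scoped ZeroObject

attribute [local instance] HasDerivedCategory.standard

namespace Groth.Agent.DCohBridge

variable {U X Y : Scheme.{u}} (j : U ⟶ X) [IsOpenImmersion j]

/-- Stalks of a zero module vanish. -/
theorem subsingleton_stalk_of_isZero {M : X.Modules} (h : IsZero M) (x : X) : Subsingleton (M.presheaf.stalk x) :=
  ModuleCat.subsingleton_of_isZero ((DerSch.stalkFunctor X x).map_isZero h)

/-- A module with vanishing stalks is zero. -/
theorem isZero_of_subsingleton_stalk {M : X.Modules} (h : ∀ x : X, Subsingleton (M.presheaf.stalk x)) :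
    IsZero M :=
  isZero_of_stalk fun x =>
    haveI : Subsingleton ((DerSch.stalkFunctor X x).obj M) := h x
    ModuleCat.isZero_of_subsingleton _

/-- Stalks of a restriction. -/
theorem subsingleton_stalk_restrict_iff (M : X.Modules) (u : U) :
    Subsingleton (((Scheme.Modules.restrictFunctor j).obj M).presheaf.stalk u) ↔
      Subsingleton (M.presheaf.stalk (j.base u)) := by
  let e := (((Scheme.Modules.restrictStalkNatIso j u).app M).addCommGroupIsoToAddEquiv).toEquiv
  exact e.subsingleton_congr

/-- A module vanishes on an open exactly when its stalks there do. -/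
theorem isZero_restrict_iff (M : X.Modules) :
    IsZero ((Scheme.Modules.restrictFunctor j).obj M) ↔ ∀ u : U, Subsingleton (M.presheaf.stalk (j.base u)) :=
  ⟨fun h u => (subsingleton_stalk_restrict_iff j M u).1 (subsingleton_stalk_of_isZero h u),
    fun h => isZero_of_subsingleton_stalk fun u => (subsingleton_stalk_restrict_iff j M u).2 (h u)⟩

/-- Isomorphic modules have stalks vanishing at the same points. -/
theorem subsingleton_stalk_congr {M N : X.Modules} (e : M ≅ N) (x : X) :
    Subsingleton (M.presheaf.stalk x) ↔ Subsingleton (N.presheaf.stalk x) :=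
  ((DerSch.stalkFunctor X x).mapIso e).toLinearEquiv.toEquiv.subsingleton_congr

lemma isIso_of_zero {C : Type*} [Category C] {A B : C} (hA : IsZero A) (hB : IsZero B) (f : A ⟶ B) : IsIso f :=
  ⟨hB.to_ A, hA.eq_of_src _ _, hB.eq_of_src _ _⟩

/-- Derived direct images of zero vanish. -/
theorem isZero_Rpush (f : Y ⟶ X) [DCoh.HasRpush f] {K : DCoh.D Y} (h : IsZero K) :
    IsZero ((DCoh.Rpush f).obj K) := by
  let Z : CochainComplex Y.Modules ℤ := 0
  have hZ : IsZero Z := isZero_zero _
  haveI : Z.IsKInjective := ⟨fun g _ => ⟨Homotopy.ofEq (hZ.eq_of_tgt _ _)⟩⟩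
  haveI := isIso_Rpush_unit f (P := (HomotopyCategory.quotient _ _).obj Z) ⟨Z, inferInstance, rfl⟩
  let e : DCoh.toD X (((Scheme.Modules.pushforward f).mapHomologicalComplex (ComplexShape.up ℤ)).obj Z) ≅
      (DCoh.Rpush f).obj (DCoh.toD Y Z) :=
    asIso (((DCoh.pushKh f).totalRightDerivedUnit DerivedCategory.Qh
      (HomotopyCategory.quasiIso Y.Modules (ComplexShape.up ℤ))).app ((HomotopyCategory.quotient _ _).obj Z))
  exact ((DerivedCategory.Q.map_isZero ((((Scheme.Modules.pushforward f).mapHomologicalComplex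
    (ComplexShape.up ℤ))).map_isZero hZ)).of_iso e.symm).of_iso
      ((DCoh.Rpush f).mapIso (h.iso (DerivedCategory.Q.map_isZero hZ)))

/-- An object with zero cohomology is zero. -/
theorem isZero_of_HD {K : DCoh.D X} (h : ∀ i, IsZero (DCoh.HD K i)) : IsZero K := by
  haveI : IsIso (0 : K ⟶ 0) := (DerivedCategory.isIso_iff X.Modules (0 : K ⟶ 0)).2 fun n =>
    isIso_of_zero (h n) ((DerivedCategory.homologyFunctor X.Modules n).map_isZero (isZero_zero _)) _
  exact (isZero_zero _).of_iso (asIso (0 : K ⟶ 0))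

/-- An object vanishes on an open exactly when its cohomology has no stalks there. -/
theorem isZero_restrictD_iff (K : DCoh.D X) :
    IsZero ((DCoh.restrictD j).obj K) ↔ ∀ (i : ℤ) (u : U), Subsingleton ((DCoh.HD K i).presheaf.stalk (j.base u)) := by
  refine ⟨fun h i u => ?_, fun h => isZero_of_HD fun i => ?_⟩
  · exact (isZero_restrict_iff j _).1
      (((DerivedCategory.homologyFunctor U.Modules i).map_isZero h).of_iso (nonempty_HD_restrictD j K i).some.symm) u
  · exact ((isZero_restrict_iff j _).2 (h i)).of_iso (nonempty_HD_restrictD j K i).some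

/-- Derived direct images vanish where the object vanishes upstairs. -/
theorem isZero_restrictD_Rpush (f : Y ⟶ X) [DCoh.HasRpush f] {K : DCoh.D Y}
    (h : IsZero ((DCoh.restrictD (f ⁻¹ᵁ j.opensRange).ι).obj K)) :
    IsZero ((DCoh.restrictD j).obj ((DCoh.Rpush f).obj K)) := by
  let k := (f ⁻¹ᵁ j.opensRange).ι
  have hr : Set.range (k ≫ f).base ⊆ Set.range j.base := by
    rintro _ ⟨z, rfl⟩
    exact z.2
  let g := IsOpenImmersion.lift j (k ≫ f) hr
  haveI := hasRpush g
  obtain ⟨e⟩ := nonempty_restrictD_Rpush f j k g (IsOpenImmersion.lift_fac _ _ _).symm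
    (Scheme.Opens.opensRange_ι _) K
  exact (isZero_Rpush g h).of_iso e

/-- Restricting the derived direct image along an open immersion gives back the object. -/
theorem nonempty_restrictD_Rpush_self [DCoh.HasRpush j] (F : DCoh.D U) :
    Nonempty ((DCoh.restrictD j).obj ((DCoh.Rpush j).obj F) ≅ F) := by
  obtain ⟨I, s, hI, hs⟩ := exists_kInj U (DerivedCategory.Q.objPreimage F)
  haveI := hs
  haveI := isIso_Rpush_unit j (P := (HomotopyCategory.quotient _ _).obj I) ⟨I, hI, rfl⟩
  let e : DCoh.toD U I ≅ F := (asIso (DerivedCategory.Q.map s)).symm ≪≫ DerivedCategory.Q.objObjPreimageIso F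
  exact ⟨(DCoh.restrictD j).mapIso ((DCoh.Rpush j).mapIso e.symm ≪≫
      (asIso (((DCoh.pushKh j).totalRightDerivedUnit DerivedCategory.Qh
        (HomotopyCategory.quasiIso U.Modules (ComplexShape.up ℤ))).app ((HomotopyCategory.quotient _ _).obj I))).symm) ≪≫
    restrictObjIso j _ ≪≫
    DerivedCategory.Q.mapIso (HomologicalComplex.Hom.isoOfComponents
      (fun n => (Scheme.Modules.restrictFunctorAdjCounitIso j).app (I.X n))
      (fun a b _ => ((Scheme.Modules.restrictFunctorAdjCounitIso j).hom.naturality (I.d a b)).symm)) ≪≫ e⟩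

/-- An object supported inside the open, vanishing on a complementary open, is the direct image of its
restriction. -/
theorem nonempty_iso_Rpush_of_support [DCoh.HasRpush j] (T : Set X) (hT : IsClosed T) (hTU : T ⊆ Set.range j.base)
    (E : DCoh.D X) (hE : ∀ i : ℤ, CohB1.support (DCoh.HD E i) ⊆ T) :
    Nonempty (E ≅ (DCoh.Rpush j).obj ((DCoh.restrictD j).obj E)) := by
  obtain ⟨I, s, hI, hs⟩ := exists_kInj X (DerivedCategory.Q.objPreimage E)
  haveI := hI
  haveI := hs
  haveI := isKInjective_resCx j I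
  haveI := isIso_Rpush_unit j (P := (HomotopyCategory.quotient _ _).obj ((resCx j).obj I)) ⟨_, inferInstance, rfl⟩
  let eE : DCoh.toD X I ≅ E := (asIso (DerivedCategory.Q.map s)).symm ≪≫ DerivedCategory.Q.objObjPreimageIso E
  let J := ((Scheme.Modules.pushforward j).mapHomologicalComplex (ComplexShape.up ℤ)).obj ((resCx j).obj I)
  let eJ : DCoh.toD X J ≅ (DCoh.Rpush j).obj ((DCoh.restrictD j).obj E) :=
    asIso (((DCoh.pushKh j).totalRightDerivedUnit DerivedCategory.Qh
      (HomotopyCategory.quasiIso U.Modules (ComplexShape.up ℤ))).app ((HomotopyCategory.quotient _ _).obj ((resCx j).obj I))) ≪≫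
      (DCoh.Rpush j).mapIso ((restrictObjIso j I).symm ≪≫ (DCoh.restrictD j).mapIso eE)
  let c : I ⟶ J := DerCat.unitCx (Scheme.Modules.restrictAdjunction j) _ I
  haveI : IsIso ((resCx j).map c) := by
    haveI : ∀ n, IsIso (((resCx j).map c).f n) := fun n =>
      IsIso.of_isIso_fac_right ((Scheme.Modules.restrictAdjunction j).left_triangle_components (I.X n))
    exact HomologicalComplex.Hom.isIso_of_components _
  haveI : IsIso ((DCoh.restrictD j).map (DerivedCategory.Q.map c)) :=
    (NatIso.isIso_map_iff (Scheme.Modules.restrictFunctor j).mapDerivedCategoryFactors c).2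
      (Functor.map_isIso DerivedCategory.Q ((resCx j).map c))
  let V : X.Opens := ⟨Tᶜ, hT.isOpen_compl⟩
  have hEV : IsZero ((DCoh.restrictD V.ι).obj E) := (isZero_restrictD_iff V.ι E).2 fun i u =>
    not_not.1 fun hn => u.2 (hE i hn)
  have hJV : IsZero ((DCoh.restrictD V.ι).obj (DCoh.toD X J)) := by
    refine IsZero.of_iso ?_ ((DCoh.restrictD V.ι).mapIso eJ)
    refine isZero_restrictD_Rpush V.ι j ?_
    rw [isZero_restrictD_iff]
    intro i u
    rw [subsingleton_stalk_congr (nonempty_HD_restrictD j E i).some, subsingleton_stalk_restrict_iff]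
    refine not_not.1 fun hn => ?_
    have hu : j.base u.1 ∈ V := (Scheme.Opens.opensRange_ι V).le (show j.base u.1 ∈ V.ι.opensRange from u.2)
    exact hu (hE i hn)
  obtain ⟨C, g, δ, hd⟩ := Pretriangulated.distinguished_cocone_triangle (DerivedCategory.Q.map c)
  haveI : IsIso (DerivedCategory.Q.map c) := by
    refine (Pretriangulated.Triangle.isZero₃_iff_isIso₁ _ hd).1 (isZero_of_HD fun i => ?_)
    have hU : IsZero ((DCoh.restrictD j).obj C) :=
      (Pretriangulated.Triangle.isZero₃_iff_isIso₁ _ ((DCoh.restrictD j).map_distinguished _ hd)).2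
        (inferInstanceAs (IsIso ((DCoh.restrictD j).map (DerivedCategory.Q.map c))))
    have hV : IsZero ((DCoh.restrictD V.ι).obj C) := by
      refine (Pretriangulated.Triangle.isZero₃_iff_isIso₁ _ ((DCoh.restrictD V.ι).map_distinguished _ hd)).2 ?_
      exact isIso_of_zero (hEV.of_iso ((DCoh.restrictD V.ι).mapIso eE)) hJV _
    refine isZero_of_subsingleton_stalk fun x => ?_
    by_cases hx : x ∈ T
    · obtain ⟨u, hu⟩ := hTU hx
      exact hu ▸ (isZero_restrictD_iff j C).1 hU i u
    · exact (isZero_restrictD_iff V.ι C).1 hV i ⟨x, hx⟩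
  exact ⟨eE.symm ≪≫ asIso (DerivedCategory.Q.map c) ≪≫ eJ⟩

/-- A direct image along an open immersion of an object whose support stays closed is supported there. -/
theorem support_HD_Rpush_subset [DCoh.HasRpush j] (T : Set X) (hT : IsClosed T) (F : DCoh.D U)
    (hF : ∀ (i : ℤ) (u : U), j.base u ∉ T → Subsingleton ((DCoh.HD F i).presheaf.stalk u)) (i : ℤ) :
    CohB1.support (DCoh.HD ((DCoh.Rpush j).obj F) i) ⊆ T := fun x hx => by
  by_contra hn
  let V : X.Opens := ⟨Tᶜ, hT.isOpen_compl⟩
  refine hx ((isZero_restrictD_iff V.ι _).1 (isZero_restrictD_Rpush V.ι j ?_) i ⟨x, hn⟩)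
  rw [isZero_restrictD_iff]
  intro i' u
  have hu : j.base u.1 ∈ V := (Scheme.Opens.opensRange_ι V).le (show j.base u.1 ∈ V.ι.opensRange from u.2)
  exact hF i' u.1 hu

/-- Perfect objects with support closed in the bigger scheme push forward to perfect objects. -/
theorem isPerfect_Rpush_of_support [DCoh.HasRpush j] (T : Set X) (hT : IsClosed T) (hTU : T ⊆ Set.range j.base)
    (F : DCoh.D U) (hF : DCoh.IsPerfect F)
    (hs : ∀ (i : ℤ) (u : U), j.base u ∉ T → Subsingleton ((DCoh.HD F i).presheaf.stalk u)) :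
    DCoh.IsPerfect ((DCoh.Rpush j).obj F) := by
  refine (isPerfect_iff _).2 fun x => ?_
  by_cases hx : x ∈ T
  · obtain ⟨u, hu⟩ := hTU hx
    exact PerfAt.of_res j hu (PerfAt.of_iso (nonempty_restrictD_Rpush_self j F).some.symm ((isPerfect_iff F).1 hF u))
  · let V : X.Opens := ⟨Tᶜ, hT.isOpen_compl⟩
    have hz : IsZero ((DCoh.restrictD V.ι).obj ((DCoh.Rpush j).obj F)) :=
      (isZero_restrictD_iff V.ι _).2 fun i v => not_not.1 fun hn =>
        v.2 (support_HD_Rpush_subset j T hT F hs i hn)
    refine PerfAt.of_res V.ι (v := ⟨x, hx⟩) rfl ((isPerfect_iff _).1 ?_ _)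
    let Z : CochainComplex (V : Scheme.{u}).Modules ℤ := 0
    have hZ : ∀ n, IsZero (Z.X n) := fun n => (HomologicalComplex.eval _ _ n).map_isZero (isZero_zero _)
    exact (isPerfect_iff _).2 fun v => ⟨_, 𝟙 _, inferInstance, v, Z, rfl,
      ⟨⟨0, 0, fun n _ => hZ n⟩, fun n => isFinLocFree_of_isZero (hZ n)⟩,
      ⟨((DCoh.restrictD (𝟙 _)).map_isZero hz).iso (DerivedCategory.Q.map_isZero (isZero_zero _))⟩⟩

end Groth.Agent.DCohBridge
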