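import Groth.Agent.DCohBridge.TensorDerived

/-!
The associativity isomorphism of total tensor complexes, natural in the first variable.
-/

set_option backward.isDefEq.respectTransparency false
set_option backward.defeqAttrib.useBackward true

universe u

open CategoryTheory Limits HomologicalComplex AlgebraicGeometry MonoidalCategory

attribute [local instance] HasDerivedCategory.standard

namespace Groth.Agent.DCohBridge

variable {C : Type u} [SmallCategory C] {J : GrothendieckTopology C} {O : Sheaf J CommRingCat.{u}}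

set_option maxHeartbeats 4000000 in
/-- `Tot(Tot(F ⊗ K) ⊗ L) ≅ Tot(F ⊗ Tot(K ⊗ L))`, natural in `F`. -/
noncomputable def totAssocNatIsoSite (K L : CochainComplex (ModSite.Mod O) ℤ) :
    (ModSite.tensorCx O).flip.obj K ⋙ (ModSite.tensorCx O).flip.obj L ≅
      (ModSite.tensorCx O).flip.obj (((ModSite.tensorCx O).obj K).obj L) :=
  NatIso.ofComponents
    (fun F => mapBifunctorAssociator (SiteBase.KFlat.assocBi (O := O)) F K L (ComplexShape.up ℤ) (ComplexShape.up ℤ) (ComplexShape.up ℤ))
    (fun {F F'} f => by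
      refine HomologicalComplex.hom_ext _ _ fun j => ?_
      refine mapBifunctor₁₂.hom_ext fun p q r h => ?_
      show mapBifunctor₁₂.ι _ _ F K L (ComplexShape.up ℤ) (ComplexShape.up ℤ) p q r j h ≫
          (mapBifunctorMap (mapBifunctorMap f (𝟙 K) _ (ComplexShape.up ℤ)) (𝟙 L) _ (ComplexShape.up ℤ)).f j ≫
            (mapBifunctorAssociatorX (SiteBase.KFlat.assocBi (O := O)) F' K L (.up ℤ) (.up ℤ) (.up ℤ) j).hom =
        mapBifunctor₁₂.ι _ _ F K L (ComplexShape.up ℤ) (ComplexShape.up ℤ) p q r j h ≫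
          (mapBifunctorAssociatorX (SiteBase.KFlat.assocBi (O := O)) F K L (.up ℤ) (.up ℤ) (.up ℤ) j).hom ≫
            (mapBifunctorMap f (𝟙 (mapBifunctor K L _ _)) _ (ComplexShape.up ℤ)).f j
      have hl : mapBifunctor₁₂.ι (ModSite.tensorBi O) (ModSite.tensorBi O) F K L (ComplexShape.up ℤ) (ComplexShape.up ℤ) p q r j h ≫
          (mapBifunctorMap (mapBifunctorMap f (𝟙 K) (ModSite.tensorBi O) (ComplexShape.up ℤ)) (𝟙 L) (ModSite.tensorBi O)
            (ComplexShape.up ℤ)).f j =
          (((ModSite.tensorBi O).map (((ModSite.tensorBi O).map (f.f p)).app (K.X q))).app (L.X r)) ≫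
            mapBifunctor₁₂.ι (ModSite.tensorBi O) (ModSite.tensorBi O) F' K L (ComplexShape.up ℤ) (ComplexShape.up ℤ) p q r j h := by
        rw [mapBifunctor₁₂.ι_eq _ _ F K L _ _ p q r (p + q) j rfl h,
          mapBifunctor₁₂.ι_eq _ _ F' K L _ _ p q r (p + q) j rfl h, Category.assoc, ι_mapBifunctorMap]
        simp only [HomologicalComplex.id_f, CategoryTheory.Functor.map_id, Category.id_comp]
        rw [← NatTrans.comp_app_assoc, ← Functor.map_comp, ι_mapBifunctorMap]
        simp only [HomologicalComplex.id_f, CategoryTheory.Functor.map_id, Category.id_comp]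
        rw [Functor.map_comp, NatTrans.comp_app, Category.assoc]
      have hr : mapBifunctor₂₃.ι (ModSite.tensorBi O) (ModSite.tensorBi O) F K L (ComplexShape.up ℤ) (ComplexShape.up ℤ) (ComplexShape.up ℤ) p q r j h ≫
          (mapBifunctorMap f (𝟙 (mapBifunctor K L (ModSite.tensorBi O) (ComplexShape.up ℤ))) (ModSite.tensorBi O)
            (ComplexShape.up ℤ)).f j =
          ((ModSite.tensorBi O).map (f.f p)).app (((ModSite.tensorBi O).obj (K.X q)).obj (L.X r)) ≫
            mapBifunctor₂₃.ι (ModSite.tensorBi O) (ModSite.tensorBi O) F' K L (ComplexShape.up ℤ) (ComplexShape.up ℤ) (ComplexShape.up ℤ) p q r j h := by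
        have hqr : p + (q + r) = j := by rw [← add_assoc]; exact h
        rw [mapBifunctor₂₃.ι_eq _ _ F K L (.up ℤ) _ _ p q r (q + r) j rfl hqr,
          mapBifunctor₂₃.ι_eq _ _ F' K L (.up ℤ) _ _ p q r (q + r) j rfl hqr, Category.assoc, ι_mapBifunctorMap]
        simp only [HomologicalComplex.id_f, CategoryTheory.Functor.map_id, Category.id_comp]
        exact (NatTrans.naturality_assoc _ _ _)
      rw [reassoc_of% hl, ι_mapBifunctorAssociatorX_hom, ι_mapBifunctorAssociatorX_hom_assoc, hr]
      refine (Category.assoc _ _ _).symm.trans ((congrArg (· ≫ _) ?_).trans (Category.assoc _ _ _))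
      exact congr_app (congr_app ((SiteBase.KFlat.assocBi (O := O)).hom.naturality (f.f p)) (K.X q)) (L.X r))

/-- `Tot(Tot(F ⊗ K) ⊗ L) ≅ Tot(F ⊗ Tot(K ⊗ L))` on schemes, natural in `F`. -/
noncomputable def totAssocNatIso {X : Scheme.{u}} (K L : CochainComplex X.Modules ℤ) :
    DCoh.tensorCx.flip.obj K ⋙ DCoh.tensorCx.flip.obj L ≅
      DCoh.tensorCx.flip.obj ((DCoh.tensorCx.obj K).obj L) :=
  totAssocNatIsoSite (O := X.sheaf) K L

end Groth.Agent.DCohBridge
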