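import Groth.Agent.DCohBridge.PullKFlat
import Groth.Agent.DerCat.LeftDerivHomotopy
import Groth.Agent.SiteBase.KFlat.QuasiIso
import Groth.Agent.SiteBase.KFlat.Assoc
import Groth.Prelude.Def_DCoh4

/-!
The derived tensor product with a complex of O-modules: it exists, is computed by K-flat complexes in the
first variable, and by any complex if the second one is K-flat.
-/

set_option backward.isDefEq.respectTransparency false
set_option backward.defeqAttrib.useBackward true

universe u

open CategoryTheory Limits HomologicalComplex AlgebraicGeometry MonoidalCategory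

attribute [local instance] HasDerivedCategory.standard

namespace Groth.Agent.DCohBridge

variable {X : Scheme.{u}}

/-- The total tensor complex. -/
noncomputable abbrev totT (F K : CochainComplex X.Modules ℤ) : CochainComplex X.Modules ℤ :=
  (DCoh.tensorCx.obj F).obj K

lemma tensorCxQ_homotopy (E : CochainComplex X.Modules ℤ) ⦃K L : CochainComplex X.Modules ℤ⦄ (f g : K ⟶ L)
    (h : Homotopy f g) : (DCoh.tensorCxQ E).map f = (DCoh.tensorCxQ E).map g :=
  DerivedCategory.Q_map_eq_of_homotopy X.Modules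
    (mapBifunctorMapHomotopy₁ h (𝟙 E) DCoh.tensorBi (ComplexShape.up ℤ))

/-- `Tot(- ⊗ E)` preserves quasi-isomorphisms between K-flat complexes. -/
theorem quasiIso_tot_flip_of_kFlat {P Q : CochainComplex X.Modules ℤ} (hP : DCoh.IsKFlat P)
    (hQ : DCoh.IsKFlat Q) (φ : P ⟶ Q) [QuasiIso φ] (E : CochainComplex X.Modules ℤ) :
    QuasiIso ((DCoh.tensorCx.flip.obj E).map φ) := by
  open SiteBase.KFlat in
  have hC : ∀ F : CochainComplex X.Modules ℤ, DCoh.IsKFlat F → F.Acyclic →
      ((DCoh.tensorCx.obj F).obj E).Acyclic := fun F hF hac =>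
    acyclic_of_iso (totBraidIso (O := X.sheaf) E F) (acyclic_tot_of_isKFlat_acyclic (O := X.sheaf) hF hac E)
  open SiteBase.KFlat in
  have hm₂ : ∀ (G : ModSite.Mod X.sheaf) (q : ℤ),
      Mono (((ModSite.tensorBi X.sheaf).obj G).map ((facSeq (O := X.sheaf) P Q).f.f q)) :=
    mono_of_splitting fun q => (facSeqSplitting (O := X.sheaf) P Q).map (HomologicalComplex.eval _ _ q)
  open SiteBase.KFlat in
  have hE : DCoh.IsKFlat (CochainComplex.mappingCone (𝟙 P)) := isKFlat_cone (O := X.sheaf) _ hP hP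
  open SiteBase.KFlat in
  have hX : DCoh.IsKFlat (CochainComplex.mappingCone (𝟙 P) ⊞ Q) :=
    isKFlat₂ (O := X.sheaf) (S := facSeq (O := X.sheaf) P Q) (facSeqSplitting (O := X.sheaf) P Q).shortExact
      hm₂ hE hQ
  open SiteBase.KFlat in
  have hC₃ : DCoh.IsKFlat (facCoker (O := X.sheaf) φ).X₃ :=
    isKFlat₃ (O := X.sheaf) (S := facCoker (O := X.sheaf) φ) (facCoker_shortExact (O := X.sheaf) φ)
      (fun G q => ((facSplitMono (O := X.sheaf) φ q).map ((ModSite.tensorBi X.sheaf).obj G)).mono) hP hX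
  open SiteBase.KFlat in
  haveI : QuasiIso ((DCoh.tensorCx.flip.obj E).map (facI (O := X.sheaf) φ)) :=
    quasiIso_f_of_acyclic (S := (facCoker (O := X.sheaf) φ).map ((ModSite.tensorCx X.sheaf).flip.obj E)) upRel_prev
      (shortExact_tot_flip E (facCoker_shortExact (O := X.sheaf) φ) fun p q =>
        ((facSplitMono (O := X.sheaf) φ p).map ((ModSite.tensorBi X.sheaf).flip.obj (E.X q))).mono)
      (hC _ hC₃ (acyclic_facCoker (O := X.sheaf) φ))
  open SiteBase.KFlat in
  haveI : QuasiIso ((DCoh.tensorCx.flip.obj E).map (facSeq (O := X.sheaf) P Q).g) :=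
    quasiIso_g_of_acyclic (S := (facSeq (O := X.sheaf) P Q).map ((ModSite.tensorCx X.sheaf).flip.obj E)) upRel_next
      (shortExact_tot_flip E (facSeqSplitting (O := X.sheaf) P Q).shortExact fun p q =>
        ((((facSeqSplitting (O := X.sheaf) P Q).map (HomologicalComplex.eval _ _ p)).map
          ((ModSite.tensorBi X.sheaf).flip.obj (E.X q))).isSplitMono_f).mono)
      (hC _ hE (acyclic_cone_id (O := X.sheaf) P))
  rw [← SiteBase.KFlat.facI_snd (O := X.sheaf) φ, Functor.map_comp]
  exact quasiIso_comp _ _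

/-- `- ⊗ E` on the homotopy category. -/
noncomputable abbrev tensorKh (E : CochainComplex X.Modules ℤ) :
    HomotopyCategory X.Modules (ComplexShape.up ℤ) ⥤ DCoh.D X :=
  DerCat.LeftDerivHomotopy.Fh (DCoh.tensorCxQ E) (tensorCxQ_homotopy E)

lemma isIso_tensorKh_map (E : CochainComplex X.Modules ℤ)
    ⦃P Q : HomotopyCategory X.Modules (ComplexShape.up ℤ)⦄ (s : P ⟶ Q) (hP : kFlatP X P) (hQ : kFlatP X Q)
    (hs : HomotopyCategory.quasiIso X.Modules (ComplexShape.up ℤ) s) : IsIso ((tensorKh E).map s) := by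
  obtain ⟨K, hK, rfl⟩ := hP
  obtain ⟨L, hL, rfl⟩ := hQ
  obtain ⟨α, rfl⟩ := (HomotopyCategory.quotient _ _).map_surjective s
  rw [HomotopyCategory.quotient_map_mem_quasiIso_iff, HomologicalComplex.mem_quasiIso_iff] at hs
  haveI := hs
  have hq := quasiIso_tot_flip_of_kFlat hK hL α E
  exact (DerivedCategory.isIso_Q_map_iff_quasiIso _ _).2 hq

lemma hasLeftDerivedFunctor_tensorKh (E : CochainComplex X.Modules ℤ) :
    (tensorKh E).HasLeftDerivedFunctor (HomotopyCategory.quasiIso X.Modules (ComplexShape.up ℤ)) :=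
  DerCat.LeftDeriv.hasLeftDerivedFunctor _ _ (kFlatP X) exists_kFlatP (isIso_tensorKh_map E)

/-- The derived tensor product with a complex exists. -/
theorem hasLTensorCx (E : CochainComplex X.Modules ℤ) : DCoh.HasLTensorCx E :=
  haveI := hasLeftDerivedFunctor_tensorKh E
  DerCat.LeftDerivHomotopy.hasLeftDerivedFunctor (DCoh.tensorCxQ E) (tensorCxQ_homotopy E)

/-- The counit of the derived tensor product. -/
noncomputable abbrev LTensorCxCounit (E : CochainComplex X.Modules ℤ) [DCoh.HasLTensorCx E] :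
    DerivedCategory.Q ⋙ DCoh.LTensorCx E ⟶ DCoh.tensorCxQ E :=
  (DCoh.tensorCxQ E).totalLeftDerivedCounit DerivedCategory.Q
    (HomologicalComplex.quasiIso X.Modules (ComplexShape.up ℤ))

/-- A K-flat complex computes the derived tensor product. -/
theorem isIso_LTensorCx_counit (E : CochainComplex X.Modules ℤ) [DCoh.HasLTensorCx E]
    {P : CochainComplex X.Modules ℤ} (hP : DCoh.IsKFlat P) : IsIso ((LTensorCxCounit E).app P) :=
  haveI := hasLeftDerivedFunctor_tensorKh E
  DerCat.LeftDerivHomotopy.isIso_counit_app (DCoh.tensorCxQ E) (tensorCxQ_homotopy E) P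
    (DerCat.LeftDeriv.isIso_counit_app DerivedCategory.Qh _ (tensorKh E) (kFlatP X) exists_kFlatP
      (isIso_tensorKh_map E) ⟨P, hP, rfl⟩)

/-- Any complex computes the derived tensor product with a K-flat complex. -/
theorem isIso_LTensorCx_counit_of_kFlat {E : CochainComplex X.Modules ℤ} [DCoh.HasLTensorCx E]
    (hE : DCoh.IsKFlat E) (P : CochainComplex X.Modules ℤ) : IsIso ((LTensorCxCounit E).app P) := by
  obtain ⟨N, q, hN, -, hq, -⟩ := SiteBase.KFlat.exists_resolution (O := X.sheaf) P
  haveI : QuasiIso q := hq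
  haveI := isIso_LTensorCx_counit E hN
  have h1 : IsIso ((DCoh.tensorCxQ E).map q) :=
    (DerivedCategory.isIso_Q_map_iff_quasiIso _ _).2
      (SiteBase.KFlat.quasiIso_tot_flip (O := X.sheaf) hE q)
  haveI h2 : IsIso ((DerivedCategory.Q ⋙ DCoh.LTensorCx E).map q) :=
    Functor.map_isIso (DCoh.LTensorCx E) _
  haveI : IsIso ((DerivedCategory.Q ⋙ DCoh.LTensorCx E).map q ≫ (LTensorCxCounit E).app P) := by
    rw [(LTensorCxCounit E).naturality q]
    infer_instance
  exact IsIso.of_isIso_comp_left ((DerivedCategory.Q ⋙ DCoh.LTensorCx E).map q) _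

/-- The derived tensor product of a K-flat complex. -/
noncomputable def LTensorCxIso (E : CochainComplex X.Modules ℤ) [DCoh.HasLTensorCx E]
    {P : CochainComplex X.Modules ℤ} (hP : DCoh.IsKFlat P) :
    (DCoh.LTensorCx E).obj (DCoh.toD X P) ≅ DCoh.toD X (totT P E) :=
  @asIso _ _ _ _ ((LTensorCxCounit E).app P) (isIso_LTensorCx_counit E hP)

/-- The derived tensor product with a K-flat complex. -/
noncomputable def LTensorCxIso' {E : CochainComplex X.Modules ℤ} [DCoh.HasLTensorCx E] (hE : DCoh.IsKFlat E)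
    (P : CochainComplex X.Modules ℤ) :
    (DCoh.LTensorCx E).obj (DCoh.toD X P) ≅ DCoh.toD X (totT P E) :=
  @asIso _ _ _ _ ((LTensorCxCounit E).app P) (isIso_LTensorCx_counit_of_kFlat hE P)

/-- Every object is represented by a K-flat complex. -/
theorem exists_kFlat_obj (K : DCoh.D X) :
    ∃ P : CochainComplex X.Modules ℤ, DCoh.IsKFlat P ∧ Nonempty (DCoh.toD X P ≅ K) := by
  obtain ⟨N, q, hN, -, hq, -⟩ :=
    SiteBase.KFlat.exists_resolution (O := X.sheaf) (DerivedCategory.Q.objPreimage K)
  haveI : QuasiIso q := hq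
  exact ⟨N, hN, ⟨@asIso _ _ _ _ (DerivedCategory.Q.map q) inferInstance ≪≫ DerivedCategory.Q.objObjPreimageIso K⟩⟩

end Groth.Agent.DCohBridge
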