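import Groth.Agent.DCohBridge.PullKFlat
import Groth.Agent.DCohBridge.FlatAlg
import Groth.Agent.SiteBase.KFlat.Bounded
import Groth.Prelude.Def_DTor2
import Mathlib.Algebra.Category.ModuleCat.Kernels
import Mathlib.Algebra.Homology.Embedding.CochainComplex
import Mathlib.Algebra.Homology.DerivedCategory.TStructure

/-!
Tor amplitude on schemes: representative form versus derived tensor product form.
-/

set_option backward.isDefEq.respectTransparency false
set_option backward.defeqAttrib.useBackward true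

universe u

open CategoryTheory MonoidalCategory Limits Opposite TopologicalSpace AlgebraicGeometry

attribute [local instance] HasDerivedCategory.standard

namespace Groth.Agent.DCohBridge

variable {X : Scheme.{u}}

/-- `- ⊗ F` on complexes. -/
noncomputable abbrev tensModCx (F : X.Modules) : CochainComplex X.Modules ℤ ⥤ CochainComplex X.Modules ℤ :=
  (DCoh.tensorRightMod F).mapHomologicalComplex (ComplexShape.up ℤ)

/-- Bounded above complexes of flat modules are K-flat. -/
lemma isKFlat_of_bddAbove_flat {E : CochainComplex X.Modules ℤ} (b : ℤ) (hb : ∀ q, b < q → IsZero (E.X q))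
    (hfl : ∀ i, FlatMod.IsFlat (E.X i)) : DCoh.IsKFlat E :=
  SiteBase.KFlat.isKFlat_of_bddAbove (O := X.sheaf) (fun i => siteFlat_of_isFlat (hfl i)) b hb

/-- Derived tensor product of a K-flat complex with a module. -/
noncomputable def LTensorModIso (F : X.Modules) [DCoh.HasLTensorMod F] {E : CochainComplex X.Modules ℤ}
    (hE : DCoh.IsKFlat E) : (DCoh.LTensorMod F).obj (DCoh.toD X E) ≅ DCoh.toD X ((tensModCx F).obj E) :=
  haveI := isIso_LTensorMod_counit F hE
  (DCoh.LTensorMod F).mapIso ((DerivedCategory.quotientCompQhIso X.Modules).app E).symm ≪≫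
    asIso (((DCoh.tensorModKh F).totalLeftDerivedCounit DerivedCategory.Qh
      (HomotopyCategory.quasiIso X.Modules (ComplexShape.up ℤ))).app
        ((HomotopyCategory.quotient X.Modules (ComplexShape.up ℤ)).obj E)) ≪≫
    DerivedCategory.Qh.mapIso (((DCoh.tensorRightMod F).mapHomotopyCategoryFactors (ComplexShape.up ℤ)).app E) ≪≫
    (DerivedCategory.quotientCompQhIso X.Modules).app _

lemma isZero_HD_iff (E : CochainComplex X.Modules ℤ) (i : ℤ) :
    IsZero (DCoh.HD (DCoh.toD X E) i) ↔ E.ExactAt i := by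
  rw [HomologicalComplex.exactAt_iff_isZero_homology]
  exact ((DerivedCategory.homologyFunctorFactors X.Modules i).app E).isZero_iff

/-- The representative form of tor amplitude implies the derived tensor product form. -/
theorem hasTorAmplitudeIn_of_flat {a b : ℤ} {K : DCoh.D X} (h : DCoh.HasFlatAmplitudeIn a b K) :
    DCoh.HasTorAmplitudeIn a b K := by
  obtain ⟨E, hv, hfl, ⟨e⟩⟩ := h
  intro F _ i hi
  have hK := isKFlat_of_bddAbove_flat b (fun q hq => hv q (Or.inr hq)) hfl
  refine IsZero.of_iso ?_ ((DerivedCategory.homologyFunctor X.Modules i).mapIso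
    ((DCoh.LTensorMod F).mapIso e.symm ≪≫ LTensorModIso F hK))
  exact (isZero_HD_iff _ i).2 (ShortComplex.exact_of_isZero_X₂ _
    ((DCoh.tensorRightMod F).map_isZero (hv i hi)))

/-- Exactness after tensoring with any module. -/
lemma exactAt_tensor_of_tor {a b : ℤ} {E : CochainComplex X.Modules ℤ} (hE : DCoh.IsKFlat E)
    (h : DCoh.HasTorAmplitudeIn a b (DCoh.toD X E)) (i : ℤ) (hi : i < a ∨ b < i) (F : X.Modules) :
    ((tensModCx F).obj E).ExactAt i :=
  haveI := hasLTensorMod F
  (isZero_HD_iff _ i).1 ((h F i hi).of_iso ((DerivedCategory.homologyFunctor X.Modules i).mapIso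
    (LTensorModIso F hE)).symm)

lemma paste_square {V : Type*} [Category* V] {A A' B B' C C' : V} {a : A ⟶ A'} {b : B ⟶ B'} {c : C ⟶ C'}
    {p : A ⟶ B} {q : A' ⟶ B'} {p₂ : B ⟶ C} {q₂ : B' ⟶ C'} (h₁ : a ≫ q = p ≫ b) (h₂ : b ≫ q₂ = p₂ ≫ c) :
    a ≫ q ≫ q₂ = (p ≫ p₂) ≫ c := by
  rw [reassoc_of% h₁, h₂, Category.assoc]

section Stalk

variable (x : X) (M : ModuleCat.{u} (X.presheaf.stalk x))

/-- The stalk of a tensor product with a skyscraper. -/
noncomputable def stalkTensorSkyIso (N : X.Modules) :
    (DerSch.stalkFunctor X x).obj ((DCoh.tensorRightMod ((sky x).obj M)).obj N) ≅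
      M ⊗ (DerSch.stalkFunctor X x).obj N :=
  stalkTensorIso x N ((sky x).obj M) ≪≫ MonoidalCategory.whiskerLeftIso _ ((stalkSkyIso x).app M) ≪≫ β_ _ _

lemma stalkTensorSkyIso_natural {N N' : X.Modules} (b : N ⟶ N') :
    (DerSch.stalkFunctor X x).map ((DCoh.tensorRightMod ((sky x).obj M)).map b) ≫
        (stalkTensorSkyIso x M N').hom =
      (stalkTensorSkyIso x M N).hom ≫ M ◁ (DerSch.stalkFunctor X x).map b := by
  have h := theta_natural x b (𝟙 ((sky x).obj M))
  rw [CategoryTheory.Functor.map_id, Category.comp_id, CategoryTheory.Functor.map_id, tensorHom_id] at h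
  exact paste_square h (paste_square
    (whisker_exchange ((DerSch.stalkFunctor X x).map b) ((stalkSkyIso x).hom.app M)).symm
    (BraidedCategory.braiding_naturality_left ((DerSch.stalkFunctor X x).map b) M))

variable {E : CochainComplex X.Modules ℤ} {i : ℤ}

lemma exact_lTensor_stalk (h : ∀ F : X.Modules, ((tensModCx F).obj E).ExactAt i) :
    Function.Exact (((DerSch.stalkFunctor X x).map (E.d (i - 1) i)).hom.lTensor M)
      (((DerSch.stalkFunctor X x).map (E.d i (i + 1))).hom.lTensor M) := by
  have h1 := ShortComplex.Exact.map ((HomologicalComplex.exactAt_iff' _ (i - 1) i (i + 1) (by simp) (by simp)).1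
    (h ((sky x).obj M))) (DerSch.stalkFunctor X x)
  let S : ShortComplex (ModuleCat.{u} (X.presheaf.stalk x)) :=
    ShortComplex.mk (M ◁ (DerSch.stalkFunctor X x).map (E.d (i - 1) i))
      (M ◁ (DerSch.stalkFunctor X x).map (E.d i (i + 1)))
      (by rw [← MonoidalCategory.whiskerLeft_comp, ← Functor.map_comp, E.d_comp_d, Functor.map_zero,
        MonoidalPreadditive.whiskerLeft_zero])
  have h2 : S.Exact := ShortComplex.exact_of_iso (ShortComplex.isoMk (stalkTensorSkyIso x M _)
    (stalkTensorSkyIso x M _) (stalkTensorSkyIso x M _) (stalkTensorSkyIso_natural x M _).symm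
    (stalkTensorSkyIso_natural x M _).symm) h1
  exact (ShortComplex.ShortExact.moduleCat_exact_iff_function_exact S).1 h2

end Stalk

lemma exact_of_lTensor_self {R : Type u} [CommRing R] {A B C : Type u} [AddCommGroup A] [Module R A]
    [AddCommGroup B] [Module R B] [AddCommGroup C] [Module R C] {f : A →ₗ[R] B} {g : B →ₗ[R] C}
    (h : Function.Exact (f.lTensor R) (g.lTensor R)) : Function.Exact f g :=
  (Function.Exact.iff_of_ladder_linearEquiv (e₁ := TensorProduct.lid R A) (e₂ := TensorProduct.lid R B)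
    (e₃ := TensorProduct.lid R C) (TensorProduct.ext' fun r a => by simp)
    (TensorProduct.ext' fun r a => by simp)).2 h

variable {E : CochainComplex X.Modules ℤ} {i : ℤ}

lemma exactAt_of_tensor (h : ∀ F : X.Modules, ((tensModCx F).obj E).ExactAt i) : E.ExactAt i := by
  rw [HomologicalComplex.exactAt_iff_isZero_homology]
  refine isZero_of_stalk fun x => ?_
  have h1 : ((E.sc' (i - 1) i (i + 1)).map (DerSch.stalkFunctor X x)).Exact := by
    rw [ShortComplex.ShortExact.moduleCat_exact_iff_function_exact]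
    exact exact_of_lTensor_self
      (exact_lTensor_stalk x (ModuleCat.of (X.presheaf.stalk x) (X.presheaf.stalk x)) h)
  have h2 : ((E.sc i).map (DerSch.stalkFunctor X x)).Exact :=
    ShortComplex.exact_of_iso ((DerSch.stalkFunctor X x).mapShortComplex.mapIso
      (E.isoSc' (i - 1) i (i + 1) (by simp) (by simp))).symm h1
  exact ((ShortComplex.exact_iff_isZero_homology _).1 h2).of_iso
    ((E.sc i).mapHomologyIso (DerSch.stalkFunctor X x)).symm

/-- Universal exactness makes the cokernels of the differentials flat. -/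
theorem isFlat_cokernel_of_tensor (h : ∀ F : X.Modules, ((tensModCx F).obj E).ExactAt i)
    (hfl : FlatMod.IsFlat (E.X (i + 1))) :
    FlatMod.IsFlat (cokernel (E.d (i - 1) i)) ∧ FlatMod.IsFlat (cokernel (E.d i (i + 1))) := by
  suffices ∀ x : X, Module.Flat (X.presheaf.stalk x)
        ((DerSch.stalkFunctor X x).obj (cokernel (E.d (i - 1) i))) ∧
      Module.Flat (X.presheaf.stalk x) ((DerSch.stalkFunctor X x).obj (cokernel (E.d i (i + 1)))) from
    ⟨fun x => (this x).1, fun x => (this x).2⟩
  intro x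
  haveI : Module.Flat (X.presheaf.stalk x) ((DerSch.stalkFunctor X x).obj (E.X (i + 1))) := hfl x
  have hfg : ((DerSch.stalkFunctor X x).map (E.d i (i + 1))).hom.comp
      ((DerSch.stalkFunctor X x).map (E.d (i - 1) i)).hom = 0 := by
    rw [← ModuleCat.hom_comp, ← Functor.map_comp, E.d_comp_d, Functor.map_zero]
    rfl
  have hh := flat_of_exact_lTensor (fun M _ _ => exact_lTensor_stalk x (ModuleCat.of _ M) h) hfg
  refine ⟨?_, ?_⟩
  · haveI := hh.1
    exact Module.Flat.of_linearEquiv
      ((PreservesCokernel.iso (DerSch.stalkFunctor X x) (E.d (i - 1) i)) ≪≫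
        ModuleCat.cokernelIsoRangeQuotient ((DerSch.stalkFunctor X x).map (E.d (i - 1) i))).toLinearEquiv
  · haveI := hh.2
    exact Module.Flat.of_linearEquiv
      ((PreservesCokernel.iso (DerSch.stalkFunctor X x) (E.d i (i + 1))) ≪≫
        ModuleCat.cokernelIsoRangeQuotient ((DerSch.stalkFunctor X x).map (E.d i (i + 1)))).toLinearEquiv

/-- `isFlat_cokernel_of_tensor`, with free indices. -/
theorem isFlat_cokernel_prev {p q : ℤ} (hpq : p + 1 = q) (h : ∀ F : X.Modules, ((tensModCx F).obj E).ExactAt q)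
    (hfl : ∀ n, FlatMod.IsFlat (E.X n)) : FlatMod.IsFlat (cokernel (E.d p q)) := by
  obtain rfl : p = q - 1 := by omega
  exact (isFlat_cokernel_of_tensor h (hfl _)).1

/-- `isFlat_cokernel_of_tensor`, with free indices. -/
theorem isFlat_cokernel_next {p q : ℤ} (hpq : p + 1 = q) (h : ∀ F : X.Modules, ((tensModCx F).obj E).ExactAt p)
    (hfl : ∀ n, FlatMod.IsFlat (E.X n)) : FlatMod.IsFlat (cokernel (E.d p q)) := by
  subst hpq
  exact (isFlat_cokernel_of_tensor h (hfl _)).2

lemma isFlat_of_iso {M N : X.Modules} (e : M ≅ N) (h : FlatMod.IsFlat M) : FlatMod.IsFlat N := fun x =>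
  haveI : Module.Flat (X.presheaf.stalk x) ((DerSch.stalkFunctor X x).obj M) := h x
  Module.Flat.of_linearEquiv ((DerSch.stalkFunctor X x).mapIso e).symm.toLinearEquiv

lemma isFlat_of_isZero {M : X.Modules} (h : IsZero M) : FlatMod.IsFlat M :=
  isFlat_of_siteFlat (SiteBase.KFlat.isFlat_of_isZero (O := X.sheaf) h)

lemma isFlat_kernel {M N : X.Modules} (g : M ⟶ N) (hM : FlatMod.IsFlat M) (hN : FlatMod.IsFlat N)
    (hc : FlatMod.IsFlat (cokernel g)) : FlatMod.IsFlat (kernel g) := by
  have s1 : (ShortComplex.mk (Abelian.image.ι g) (cokernel.π g) (kernel.condition _)).ShortExact :=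
    { exact := ShortComplex.exact_of_f_is_kernel _ (kernelIsKernel (cokernel.π g)) }
  have hI := SiteBase.isFlat_left (O := X.sheaf) s1 (siteFlat_of_isFlat hN) (siteFlat_of_isFlat hc)
  have s2 : (ShortComplex.mk (kernel.ι g) (Abelian.factorThruImage g)
      (by rw [← cancel_mono (Abelian.image.ι g), Category.assoc, Abelian.image.fac, kernel.condition,
        zero_comp])).ShortExact :=
    { exact := ShortComplex.exact_of_f_is_kernel _ (KernelFork.IsLimit.ofι _ _
        (fun {W} k hk => kernel.lift g k (by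
          have hk' := congrArg (· ≫ Abelian.image.ι g) hk
          simpa [Category.assoc] using hk'))
        (fun {W} k hk => kernel.lift_ι _ _ _)
        (fun {W} k hk m hm => by rw [← cancel_mono (kernel.ι g), hm, kernel.lift_ι])) }
  exact isFlat_of_siteFlat (SiteBase.isFlat_left (O := X.sheaf) s2 (siteFlat_of_isFlat hM) hI)

/-- A complex with flat terms and no tor outside `[a, b]` is quasi-isomorphic to its flat truncation. -/
theorem hasFlatAmplitudeIn_of_tor {a b : ℤ} (hab : a ≤ b) {K : DCoh.D X}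
    (h : DCoh.HasTorAmplitudeIn a b K) : DCoh.HasFlatAmplitudeIn a b K := by
  obtain ⟨G, ⟨e⟩⟩ : ∃ G, Nonempty (DCoh.toD X G ≅ K) := ⟨_, ⟨DerivedCategory.Q.objObjPreimageIso K⟩⟩
  obtain ⟨N, q, hN, hNfl', hq, -⟩ := SiteBase.KFlat.exists_resolution (O := X.sheaf) G
  have hNfl : ∀ i, FlatMod.IsFlat (N.X i) := fun i => isFlat_of_siteFlat (hNfl' i)
  let eN : DCoh.toD X N ≅ K := @asIso _ _ _ _ (DerivedCategory.Q.map q) inferInstance ≪≫ e
  have htr : ∀ {A : CochainComplex X.Modules ℤ}, (DCoh.toD X A ≅ K) →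
      DCoh.HasTorAmplitudeIn a b (DCoh.toD X A) := fun eA F _ i hi =>
    (h F i hi).of_iso ((DerivedCategory.homologyFunctor X.Modules i).mapIso ((DCoh.LTensorMod F).mapIso eA))
  have hexN := exactAt_tensor_of_tor hN (htr eN)
  -- first truncation
  haveI : N.IsLE b := (CochainComplex.isLE_iff N b).2 fun i hi => exactAt_of_tensor (hexN i (Or.inr hi))
  let M := N.truncLE b
  haveI : QuasiIso (N.ιTruncLE b) := (CochainComplex.quasiIso_ιTruncLE_iff N b).2 inferInstance
  let eM : DCoh.toD X M ≅ K := @asIso _ _ _ _ (DerivedCategory.Q.map (N.ιTruncLE b)) inferInstance ≪≫ eN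
  have hZ : FlatMod.IsFlat (N.cycles b) := by
    refine isFlat_of_iso ((IsLimit.conePointUniqueUpToIso (N.cyclesIsKernel b (b + 1) (by simp))
      (kernelIsKernel (N.d b (b + 1)))).symm) (isFlat_kernel _ (hNfl b) (hNfl (b + 1)) ?_)
    exact isFlat_cokernel_prev rfl (hexN (b + 1) (Or.inr (by omega))) hNfl
  have hMfl : ∀ i, FlatMod.IsFlat (M.X i) := fun i => by
    rcases lt_trichotomy i b with hi | rfl | hi
    · exact isFlat_of_iso (N.truncLEXIso b i hi).symm (hNfl i)
    · exact isFlat_of_iso (N.truncLEXIsoCycles i).symm hZ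
    · exact isFlat_of_isZero (M.isZero_of_isStrictlyLE b i hi)
  have hM : DCoh.IsKFlat M := isKFlat_of_bddAbove_flat b (fun q hq => M.isZero_of_isStrictlyLE b q hq) hMfl
  have hexM := exactAt_tensor_of_tor hM (htr eM)
  -- second truncation
  haveI : M.IsGE a := (CochainComplex.isGE_iff M a).2 fun i hi => exactAt_of_tensor (hexM i (Or.inl hi))
  let P := M.truncGE a
  haveI : QuasiIso (M.πTruncGE a) := (CochainComplex.quasiIso_πTruncGE_iff M a).2 inferInstance
  let eP : DCoh.toD X P ≅ K := (@asIso _ _ _ _ (DerivedCategory.Q.map (M.πTruncGE a)) inferInstance).symm ≪≫ eM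
  refine ⟨P, fun i hi => ?_, fun i => ?_, ⟨eP⟩⟩
  · rcases hi with hi | hi
    · exact P.isZero_of_isStrictlyGE a i hi
    · exact IsZero.of_iso (M.isZero_of_isStrictlyLE b i hi) (M.truncGEXIso a i (by omega))
  · rcases lt_trichotomy i a with hi | rfl | hi
    · exact isFlat_of_isZero (P.isZero_of_isStrictlyGE a i hi)
    · refine isFlat_of_iso (M.truncGEXIsoOpcycles i).symm (isFlat_of_iso
        ((IsColimit.coconePointUniqueUpToIso (M.opcyclesIsCokernel (i - 1) i (by simp))
          (cokernelIsCokernel (M.d (i - 1) i))).symm) ?_)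
      exact isFlat_cokernel_next (by omega) (hexM (i - 1) (Or.inl (by omega))) hMfl
    · exact isFlat_of_iso (M.truncGEXIso a i hi).symm (hMfl i)

end Groth.Agent.DCohBridge
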