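import Groth.Agent.DCohBridge.DQCoh
import Groth.Agent.DCohBridge.QCohDLocal
import Groth.Agent.DCohBridge.PerfectFree
import Groth.Agent.DCohBridge.PerfRetract
import Groth.Agent.DCohBridge.TorAmp
import Groth.Agent.DRingTorAmp.Descent
import Groth.Agent.DRingKProj.Local
import Mathlib.RingTheory.Flat.Localization

/-!
Pseudo-coherence, perfectness and tor amplitude of the tilde of a complex of modules.
-/

set_option backward.isDefEq.respectTransparency false
set_option backward.isDefEq.respectTransparency.types false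
set_option backward.defeqAttrib.useBackward true

noncomputable section

universe u

open CategoryTheory Limits AlgebraicGeometry Opposite TopologicalSpace
open scoped TensorProduct

attribute [local instance] HasDerivedCategory.standard

namespace Groth.Agent.DCohBridge

/-- The stalks of `Spec R` are localizations along `R → O_p`. -/
lemma isLocalization_stalk (R : CommRingCat.{u}) (p : Spec (CommRingCat.of R)) :
    letI := (tildeφ R p).toAlgebra
    IsLocalization.AtPrime ((Spec (CommRingCat.of R)).presheaf.stalk p) p.asIdeal := by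
  have h : tildeφ R p = @algebraMap R _ _ _ (StructureSheaf.stalkAlgebra (↑R) p) := by
    rw [tildeφ, Scheme.ΓSpecIso_inv]
    rfl
  have h2 : (tildeφ R p).toAlgebra = StructureSheaf.stalkAlgebra (↑R) p := by
    apply Algebra.algebra_ext
    intro r
    exact congrArg (fun φ : R →+* (Spec R).presheaf.stalk p => φ r) h
  simp only [h2]
  exact StructureSheaf.IsLocalization.to_stalk R p

/-- `R → O_p` is flat. -/
lemma flat_tildeφ (R : CommRingCat.{u}) (p : Spec (CommRingCat.of R)) : (tildeφ R p).Flat := by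
  letI k : Algebra R ((Spec R).presheaf.stalk p) := StructureSheaf.stalkAlgebra (↑R) p
  haveI : IsLocalization.AtPrime ((Spec R).presheaf.stalk p) p.asIdeal :=
    StructureSheaf.IsLocalization.to_stalk R p
  have h : (tildeφ R p : R →+* (Spec R).presheaf.stalk p) = algebraMap R ((Spec R).presheaf.stalk p) := by
    rw [tildeφ, Scheme.ΓSpecIso_inv]
    rfl
  show RingHom.Flat (tildeφ R p : R →+* (Spec R).presheaf.stalk p)
  rw [h]
  refine RingHom.flat_algebraMap_iff.2 ?_
  exact IsLocalization.flat _ p.asIdeal.primeCompl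

namespace Affine

variable (R : CommRingCat.{u})

/-- Cohomology of the tilde of an object, naturally. -/
def tildeHD (i : ℤ) :
    DCoh.tildeD R ⋙ DerivedCategory.homologyFunctor (Spec (CommRingCat.of R)).Modules i ≅
      DerivedCategory.homologyFunctor (ModuleCat.{u} R) i ⋙ tilde.functor R :=
  let H := DerivedCategory.homologyFunctor
  let T := tilde.functor R
  let W := HomologicalComplex.quasiIso (ModuleCat.{u} R) (ComplexShape.up ℤ)
  let e : DerivedCategory.Q ⋙ DCoh.tildeD R ⋙ H (Spec (CommRingCat.of R)).Modules i ≅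
      DerivedCategory.Q ⋙ H (ModuleCat.{u} R) i ⋙ T :=
    (Functor.associator _ _ _).symm ≪≫ Functor.isoWhiskerRight T.mapDerivedCategoryFactors _ ≪≫
      Functor.associator _ _ _ ≪≫
      Functor.isoWhiskerLeft _ (DerivedCategory.homologyFunctorFactors _ i) ≪≫
      NatIso.ofComponents (F := TC R ⋙ HomologicalComplex.homologyFunctor (Spec R).Modules (ComplexShape.up ℤ) i)
        (G := HomologicalComplex.homologyFunctor (ModuleCat.{u} R) (ComplexShape.up ℤ) i ⋙ T)
        (fun N => (N.sc i).mapHomologyIso T)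
        (fun f => ShortComplex.mapHomologyIso_hom_naturality
          ((HomologicalComplex.shortComplexFunctor (ModuleCat.{u} R) (ComplexShape.up ℤ) i).map f) T) ≪≫
      Functor.isoWhiskerRight (DerivedCategory.homologyFunctorFactors (ModuleCat.{u} R) i).symm T ≪≫
      Functor.associator _ _ _
  letI : Localization.Lifting DerivedCategory.Q W (DerivedCategory.Q ⋙ DCoh.tildeD R ⋙ H _ i)
    (DCoh.tildeD R ⋙ H _ i) := ⟨Iso.refl _⟩
  letI : Localization.Lifting DerivedCategory.Q W (DerivedCategory.Q ⋙ H (ModuleCat.{u} R) i ⋙ T)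
    (H (ModuleCat.{u} R) i ⋙ T) := ⟨Iso.refl _⟩
  Localization.liftNatIso DerivedCategory.Q W _ _ _ _ e

/-- The conditions defining pseudo-coherence may be tested after tilde. -/
theorem cond_tildeD_iff (m : ℤ) {M N : DerivedCategory (ModuleCat.{u} R)} (α : M ⟶ N) :
    Cond m ((DCoh.tildeD R).map α) ↔
      (∀ i, m < i → IsIso ((DerivedCategory.homologyFunctor (ModuleCat.{u} R) i).map α)) ∧
        Epi ((DerivedCategory.homologyFunctor (ModuleCat.{u} R) m).map α) := by
  let T := tilde.functor R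
  have hiso : ∀ i, IsIso ((DerivedCategory.homologyFunctor _ i).map ((DCoh.tildeD R).map α)) ↔
      IsIso (T.map ((DerivedCategory.homologyFunctor (ModuleCat.{u} R) i).map α)) :=
    fun i => NatIso.isIso_map_iff (tildeHD R i) α
  have hepi : Epi ((DerivedCategory.homologyFunctor _ m).map ((DCoh.tildeD R).map α)) ↔
      Epi (T.map ((DerivedCategory.homologyFunctor (ModuleCat.{u} R) m).map α)) :=
    (MorphismProperty.epimorphisms _).arrow_mk_iso_iff (((Functor.mapArrowFunctor _ _).mapIso (tildeHD R m)).app (Arrow.mk α))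
  refine ⟨fun h => ⟨fun i hi => ?_, ?_⟩, fun h => ⟨fun i hi => ?_, ?_⟩⟩
  · haveI := (hiso i).1 (h.1 i hi)
    exact isIso_of_reflects_iso _ T
  · haveI := hepi.1 h.2
    exact T.epi_of_epi_map ‹_›
  · haveI := h.1 i hi
    exact (hiso i).2 (Functor.map_isIso T _)
  · haveI := h.2
    exact hepi.2 (T.map_epi _)

variable {R}

/-- A complex of free modules is the tilde of a complex of finite free modules. -/
theorem exists_free_tilde {P : CochainComplex (Spec R).Modules ℤ}
    (hP : ∀ i, ∃ n : ℕ, Nonempty (P.X i ≅ FlatMod.freeMod (Spec R) n)) :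
    ∃ M : CochainComplex (ModuleCat.{u} R) ℤ, (∀ i, Module.Free R (M.X i) ∧ Module.Finite R (M.X i)) ∧
      (∀ i, IsZero (P.X i) → IsZero (M.X i)) ∧ Nonempty ((TC R).obj M ≅ P) := by
  let T := tilde.functor R
  have hfree : ∀ i, ∃ n : ℕ, Nonempty (P.X i ≅ T.obj (ModuleCat.of R (ULift.{u} (Fin n) →₀ R))) := fun i => by
    obtain ⟨n, ⟨e⟩⟩ := hP i
    exact ⟨n, ⟨e ≪≫ TensorMod.freeModIso _ n ≪≫ (tildeFinsupp (R := R) (ULift.{u} (Fin n))).symm⟩⟩
  haveI hiso : ∀ i, IsIso ((tilde.adjunction (R := R)).counit.app (P.X i)) := fun i => by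
    obtain ⟨n, ⟨e⟩⟩ := hfree i
    exact (tilde.adjunction (R := R)).isIso_counit_app_iff_mem_essImage.2 ⟨_, ⟨e.symm⟩⟩
  haveI : IsIso (counitC P) := by
    haveI : ∀ i, IsIso ((counitC P).f i) := hiso
    exact HomologicalComplex.Hom.isIso_of_components _
  refine ⟨(ΓC R).obj P, fun i => ?_, fun i hi => (Γf R).map_isZero hi, ⟨asIso (counitC P)⟩⟩
  obtain ⟨n, ⟨e⟩⟩ := hfree i
  let l := ((tilde.fullyFaithfulFunctor (R := R)).preimageIso
    (@asIso _ _ _ _ _ (hiso i) ≪≫ e)).toLinearEquiv
  exact ⟨Module.Free.of_equiv l.symm, Module.Finite.equiv l.symm⟩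

end Affine

/-- The tilde of a finite projective module is finite locally free. -/
theorem isFinLocFree_tilde {R : CommRingCat.{u}} (P : ModuleCat.{u} R) [Module.Finite R P] [Module.Projective R P] :
    FlatMod.IsFinLocFree ((tilde.functor R).obj P) := by
  obtain ⟨n, q, hq⟩ := Module.Finite.exists_fin' R P
  let L := ModuleCat.of R (ULift.{u} (Fin n) →₀ R)
  let e : (ULift.{u} (Fin n) →₀ R) ≃ₗ[R] (Fin n → R) :=
    (Finsupp.linearEquivFunOnFinite R R _).trans (LinearEquiv.funCongrLeft R R Equiv.ulift.symm)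
  obtain ⟨s, hs⟩ := Module.projective_lifting_property (q ∘ₗ e.toLinearMap) LinearMap.id (hq.comp e.surjective)
  have hL : FlatMod.IsFinLocFree ((tilde.functor R).obj L) :=
    TensorMod.isFinLocFree_of_iso ((TensorMod.freeModIso _ n) ≪≫ (tildeFinsupp (R := R) (ULift.{u} (Fin n))).symm)
      (TensorMod.isFinLocFree_freeMod _ n)
  refine isFinLocFree_retract hL ((tilde.functor R).map (ModuleCat.ofHom s : P ⟶ L))
    ((tilde.functor R).map (ModuleCat.ofHom (q ∘ₗ e.toLinearMap) : L ⟶ P)) ?_
  rw [← Functor.map_comp, ← ModuleCat.ofHom_comp, hs, ModuleCat.ofHom_id, CategoryTheory.Functor.map_id]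

/-- The tilde of a flat module is flat. -/
theorem isFlat_tilde {R : CommRingCat.{u}} (P : ModuleCat.{u} R) [Module.Flat R P] :
    FlatMod.IsFlat ((tilde.functor R).obj P) := fun p => by
  let φ := tildeφ R p
  letI := φ.toAlgebra
  haveI : Module.Flat ((Spec (CommRingCat.of R)).presheaf.stalk p)
      ((ModuleCat.extendScalars.{u, u, u} φ).obj P) :=
    inferInstanceAs (Module.Flat _ (TensorProduct R ((Spec (CommRingCat.of R)).presheaf.stalk p) P))
  exact Module.Flat.of_linearEquiv ((stalkTildeIso R p).app P).toLinearEquiv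

/-- Exactness is detected on the stalks. -/
theorem exact_of_stalks (R : CommRingCat.{u}) {L M N : Type u} [AddCommGroup L] [Module R L] [AddCommGroup M]
    [Module R M] [AddCommGroup N] [Module R N] (f : L →ₗ[R] M) (g : M →ₗ[R] N)
    (h : ∀ p : Spec R, letI := (tildeφ R p).toAlgebra
      Function.Exact (f.lTensor ((Spec (CommRingCat.of R)).presheaf.stalk p))
        (g.lTensor ((Spec (CommRingCat.of R)).presheaf.stalk p))) : Function.Exact f g := by
  refine exact_of_localized_maximal f g fun J hJ => ?_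
  let p : Spec R := ⟨J, hJ.isPrime⟩
  let S := (Spec (CommRingCat.of R)).presheaf.stalk p
  letI : Algebra R S := (tildeφ R p).toAlgebra
  haveI : IsLocalization.AtPrime S J := isLocalization_stalk R p
  haveI (V : Type u) [AddCommGroup V] [Module R V] : IsLocalizedModule J.primeCompl (TensorProduct.mk R S V 1) :=
    (isLocalizedModule_iff_isBaseChange J.primeCompl S _).2 (TensorProduct.isBaseChange R V S)
  let e (V : Type u) [AddCommGroup V] [Module R V] :=
    IsLocalizedModule.linearEquiv J.primeCompl (TensorProduct.mk R S V 1) (LocalizedModule.mkLinearMap J.primeCompl V)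
  have hc : ∀ {V W : Type u} [AddCommGroup V] [Module R V] [AddCommGroup W] [Module R W] (k : V →ₗ[R] W),
      (LocalizedModule.map J.primeCompl k).restrictScalars R ∘ₗ (e V).toLinearMap =
        (e W).toLinearMap ∘ₗ k.lTensor S := by
    intro V W _ _ _ _ k
    refine IsLocalizedModule.linearMap_ext J.primeCompl (TensorProduct.mk R S V 1)
      (LocalizedModule.mkLinearMap J.primeCompl W) (LinearMap.ext fun v => ?_)
    have h1 : ∀ {U : Type u} [AddCommGroup U] [Module R U] (z : U),
        e U ((1 : S) ⊗ₜ[R] z) = LocalizedModule.mkLinearMap J.primeCompl U z := fun z =>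
      IsLocalizedModule.linearEquiv_apply J.primeCompl (TensorProduct.mk R S _ 1) _ z
    simp [h1, LocalizedModule.map_mk]
  exact (Function.Exact.iff_of_ladder_linearEquiv (e₁ := e L) (e₂ := e M) (e₃ := e N)
    (f₁₂ := f.lTensor S) (f₂₃ := g.lTensor S)
    (g₁₂ := (LocalizedModule.map J.primeCompl f).restrictScalars R)
    (g₂₃ := (LocalizedModule.map J.primeCompl g).restrictScalars R) (hc f) (hc g)).2 (h p)

/-- Tor amplitude is detected on the stalks. -/
theorem hasTorAmplitudeIn_of_stalks (R : CommRingCat.{u}) (K : DRing.Cx R) (a b : ℤ)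
    (hK : ∀ p : Spec R, DRing.HasTorAmplitudeIn _ a b (DRing.toD ((DRingTorAmp.escCx (tildeφ R p)).obj K))) :
    DRing.HasTorAmplitudeIn R a b (DRing.toD K) := by
  obtain ⟨P, π, hP, hπ, -⟩ := DRingKProj.exists_resolution K
  haveI := hP
  haveI := hπ
  haveI : IsIso (DerivedCategory.Q.map π) := (DerivedCategory.isIso_Q_map_iff_quasiIso _ π).2 hπ
  refine DRingTorAmp.hasTorAmplitudeIn_of_exact (DRingTorAmp.isKFl_of_isKProjective P)
    (asIso (DerivedCategory.Q.map π)) fun M n hn => ?_
  rw [DRingTorAmp.exact_tensor_iff _ _ (n - 1) n (n + 1) (by omega) rfl]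
  refine exact_of_stalks R _ _ fun p => ?_
  let φ := tildeφ R p
  letI := φ.toAlgebra
  haveI := DRingTorAmp.quasiIso_esc (flat_tildeφ R p) π
  haveI : IsIso (DerivedCategory.Q.map ((DRingTorAmp.escCx φ).map π)) :=
    (DerivedCategory.isIso_Q_map_iff_quasiIso _ _).2 inferInstance
  let S := (Spec (CommRingCat.of R)).presheaf.stalk p
  have hx := DRingTorAmp.exactAt_of_hasTorAmplitudeIn (hK p)
    (isKFlat_baseChange φ (DRingTorAmp.isKFl_of_isKProjective P))
    (asIso (DerivedCategory.Q.map ((DRingTorAmp.escCx φ).map π))) (ModuleCat.of S (TensorProduct R S M)) n hn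
  rw [DRingTorAmp.exact_tensor_iff _ _ (n - 1) n (n + 1) (by omega) rfl] at hx
  exact (Function.Exact.iff_of_ladder_linearEquiv
    (e₁ := (TensorProduct.AlgebraTensorModule.distribBaseChange R S (P.X (n - 1)) M).restrictScalars R)
    (e₂ := (TensorProduct.AlgebraTensorModule.distribBaseChange R S (P.X n) M).restrictScalars R)
    (e₃ := (TensorProduct.AlgebraTensorModule.distribBaseChange R S (P.X (n + 1)) M).restrictScalars R)
    (g₁₂ := (((P.d (n - 1) n).hom.baseChange S).rTensor (TensorProduct R S M)).restrictScalars R)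
    (g₂₃ := (((P.d n (n + 1)).hom.baseChange S).rTensor (TensorProduct R S M)).restrictScalars R)
    (TensorProduct.ext' fun s x => by
      induction x with
      | zero => simp
      | tmul p m => rfl
      | add x y hx hy => simp only [TensorProduct.tmul_add, map_add, hx, hy])
    (TensorProduct.ext' fun s x => by
      induction x with
      | zero => simp
      | tmul p m => rfl
      | add x y hx hy => simp only [TensorProduct.tmul_add, map_add, hx, hy])).1 hx

section Away

variable {A : Type u} [CommRing A]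

/-- `D(f) → Spec A`. -/
abbrev awayMap (f : A) : Spec (CommRingCat.of (Localization.Away f)) ⟶ Spec (CommRingCat.of A) :=
  Spec.map (CommRingCat.ofHom (algebraMap A (Localization.Away f)))

/-- The restriction of a tilde to a basic open. -/
def restrictAwayIso (f : A) (K : DRing.Cx A) :
    (DCoh.restrictD (awayMap f)).obj (DCoh.toD (Spec (CommRingCat.of A)) ((Affine.TC (CommRingCat.of A)).obj K)) ≅
      DCoh.toD (Spec (CommRingCat.of (Localization.Away f)))
        ((Affine.TC (CommRingCat.of (Localization.Away f))).obj (DRingKProj.locCx f K)) :=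
  restrictObjIso _ _ ≪≫ DerivedCategory.Q.mapIso
    ((NatIso.mapHomologicalComplex (Scheme.Modules.restrictFunctorIsoPullback (awayMap f)) (ComplexShape.up ℤ)).app _ ≪≫
      HomologicalComplex.Hom.isoOfComponents
        (fun n => (QCohAffine.pullbackTildeIso (CommRingCat.ofHom (algebraMap A (Localization.Away f)))).app (K.X n))
        (fun i j _ => ((QCohAffine.pullbackTildeIso
          (CommRingCat.ofHom (algebraMap A (Localization.Away f)))).hom.naturality (K.d i j)).symm))

lemma range_awayMap (f : A) : Set.range (awayMap f).base = (PrimeSpectrum.basicOpen f : Set (PrimeSpectrum A)) :=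
  PrimeSpectrum.localization_away_comap_range (Localization.Away f) f

/-- Near each point a strictly perfect complex is the tilde of a finite free complex on a basic open. -/
theorem exists_away_chart {V : (Spec (CommRingCat.of A)).Opens} {E : CochainComplex (V : Scheme.{u}).Modules ℤ}
    (hE : DCoh.IsStrictlyPerfect E) {x : Spec (CommRingCat.of A)} (hx : x ∈ V) :
    ∃ (f : A) (_ : x ∈ PrimeSpectrum.basicOpen f) (k : Spec (CommRingCat.of (Localization.Away f)) ⟶ V)
      (_ : IsOpenImmersion k) (_ : k ≫ V.ι = awayMap f)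
      (M : DRing.Cx (Localization.Away f)) (a b : ℤ),
      (∀ i, Module.Free (Localization.Away f) (M.X i) ∧ Module.Finite (Localization.Away f) (M.X i)) ∧
      DRing.VanishesOutside M a b ∧
      Nonempty ((resCx k).obj E ≅ (Affine.TC (CommRingCat.of (Localization.Away f))).obj M) := by
  obtain ⟨W, hxW, hW⟩ := exists_free_nhd hE ⟨x, hx⟩
  obtain ⟨_, ⟨_, ⟨f, rfl⟩, rfl⟩, hxf, hfW⟩ := PrimeSpectrum.isBasis_basic_opens.exists_subset_of_mem_open
    (show x ∈ Set.range (W.ι ≫ V.ι).base from ⟨⟨⟨x, hx⟩, hxW⟩, rfl⟩)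
    (W.ι ≫ V.ι).isOpenEmbedding.isOpen_range
  have hr : Set.range (awayMap f).base ⊆ Set.range (W.ι ≫ V.ι).base := by
    rw [range_awayMap]; exact hfW
  let l := IsOpenImmersion.lift (W.ι ≫ V.ι) (awayMap f) hr
  have hl : l ≫ W.ι ≫ V.ι = awayMap f := IsOpenImmersion.lift_fac _ _ _
  haveI : IsOpenImmersion (l ≫ W.ι ≫ V.ι) := by rw [hl]; infer_instance
  haveI : IsOpenImmersion l := IsOpenImmersion.of_comp l (W.ι ≫ V.ι)
  haveI : IsOpenImmersion (l ≫ W.ι) := inferInstance
  obtain ⟨a, b, hv⟩ := hE.1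
  obtain ⟨M, hM, hz, ⟨e⟩⟩ := Affine.exists_free_tilde (R := CommRingCat.of (Localization.Away f))
    (P := (resCx l).obj ((DCoh.restrictCx W).obj E)) fun i => by
      obtain ⟨n, ⟨en⟩⟩ := hW i
      exact ⟨n, ⟨(Scheme.Modules.restrictFunctor l).mapIso en ≪≫ TensorMod.restrictFreeModIso l n⟩⟩
  refine ⟨f, hxf, l ≫ W.ι, inferInstance, by rw [Category.assoc]; exact hl, M, a, b, hM, fun i hi => hz i
    ((Scheme.Modules.restrictFunctor l).map_isZero ((Scheme.Modules.restrictFunctor W.ι).map_isZero (hv i hi))),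
    ⟨(resCxCompIso l W.ι).app E ≪≫ e.symm⟩⟩

lemma exists_finite_cover {P : A → Prop}
    (h : ∀ x : Spec (CommRingCat.of A), ∃ f : A, x ∈ PrimeSpectrum.basicOpen f ∧ P f) :
    ∃ (r : ℕ) (f : Fin r → A), Ideal.span (Set.range f) = ⊤ ∧ ∀ i, P (f i) := by
  choose g hg hP using h
  have htop : Ideal.span (Set.range g) = ⊤ := by
    rw [← PrimeSpectrum.iSup_basicOpen_eq_top_iff, eq_top_iff]
    exact fun y _ => Opens.mem_iSup.2 ⟨y, hg y⟩
  obtain ⟨t, ht, ht'⟩ := Submodule.mem_span_finite_of_mem_span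
    ((Ideal.eq_top_iff_one _).1 htop : (1 : A) ∈ Submodule.span A (Set.range g))
  refine ⟨t.card, fun i => (t.equivFin.symm i).1, ?_, fun i => ?_⟩
  · rw [show Set.range (fun i => (t.equivFin.symm i).1) = (t : Set A) from by
      ext y; exact ⟨fun ⟨i, hi⟩ => hi ▸ (t.equivFin.symm i).2, fun hy => ⟨t.equivFin ⟨y, hy⟩, by simp⟩⟩]
    exact (Ideal.eq_top_iff_one _).2 ht'
  · obtain ⟨y, hy⟩ := ht (t.equivFin.symm i).2
    show P (t.equivFin.symm i).1
    rw [← hy]
    exact hP y

variable [PreservesFiniteLimits (tilde.functor (CommRingCat.of A))]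

theorem isPseudoCoherentD_tildeD_iff (M : Dual.D A) (m : ℤ) :
    DCoh.IsPseudoCoherentD m ((DCoh.tildeD (CommRingCat.of A)).obj M) ↔ DRing.IsPseudoCoherent A m M := by
  let K := DerivedCategory.Q.objPreimage M
  let eK : DerivedCategory.Q.obj K ≅ M := DerivedCategory.Q.objObjPreimageIso M
  let eT : (DCoh.tildeD (CommRingCat.of A)).obj M ≅ DCoh.toD _ ((Affine.TC (CommRingCat.of A)).obj K) :=
    (DCoh.tildeD (CommRingCat.of A)).mapIso eK.symm ≪≫ Affine.factor (R := CommRingCat.of A) K
  refine ⟨fun h => ?_, fun ⟨E, a, b, α, hv, hF, hα⟩ => ?_⟩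
  · have hloc : ∀ x : Spec (CommRingCat.of A), ∃ f : A, x ∈ PrimeSpectrum.basicOpen f ∧
        DRing.IsPseudoCoherent (Localization.Away f) m (DRing.toD (DRingKProj.locCx f K)) := fun x => by
      obtain ⟨V, hxV, g⟩ := ((isPseudoCoherentD_iff m _).1 h x).exists_le
      obtain ⟨E, α, hE, -, hα⟩ := g V le_rfl
      obtain ⟨f, hxf, k, _, hk, N, a, b, hN, hv, ⟨e⟩⟩ := exists_away_chart hE hxV
      let R' := CommRingCat.of (Localization.Away f)
      haveI : PreservesFiniteLimits (tilde.functor R') := tilde_preservesFiniteLimits R'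
      let β : DCoh.toD (Spec R') ((Affine.TC R').obj N) ⟶
          DCoh.toD (Spec R') ((Affine.TC R').obj (DRingKProj.locCx f K)) :=
        (restrictObjIso k E ≪≫ DerivedCategory.Q.mapIso e).inv ≫ (DCoh.restrictD k).map α ≫
          ((compObjIso' k V.ι (awayMap f) hk _).symm ≪≫ (DCoh.restrictD (awayMap f)).mapIso eT ≪≫
            restrictAwayIso f K).hom
      haveI := Affine.tildeD_full R'
      obtain ⟨γ, hγ⟩ := (DCoh.tildeD R').map_surjective
        ((Affine.factor (R := R') N).hom ≫ β ≫ (Affine.factor (R := R') (DRingKProj.locCx f K)).inv)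
      have hc : Cond m ((DCoh.tildeD R').map γ) := by
        rw [hγ]
        exact cond_comp (cond_isIso m _) (cond_comp (cond_comp (cond_isIso m _)
          (cond_comp (cond_restrictD k hα) (cond_isIso m _))) (cond_isIso m _))
      exact ⟨f, hxf, N, a, b, γ, hv, fun i => ⟨(hN i).2, (hN i).1⟩, (Affine.cond_tildeD_iff R' m γ).1 hc⟩
    obtain ⟨r, f, hf, hP⟩ := exists_finite_cover hloc
    exact DRingKProj.isPseudoCoherent_of_iso eK
      (DRingTorAmp.isPseudoCoherent_descend (DRingTorAmp.cover_away f hf) K m hP)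
  · refine (isPseudoCoherentD_iff m _).2 fun x => ?_
    let R := CommRingCat.of A
    have hS : DCoh.IsStrictlyPerfect ((Affine.TC R).obj E) := ⟨⟨a, b, fun i hi => (tilde.functor R).map_isZero (hv i hi)⟩,
      fun i => by
        haveI := (hF i).1
        haveI := (hF i).2
        exact isFinLocFree_tilde (R := R) (E.X i)⟩
    exact ⟨(⊤ : (Spec R).Opens), (⊤ : (Spec R).Opens).ι, inferInstance, ⟨x, trivial⟩, _,
      (restrictObjIso _ _).inv ≫ (DCoh.restrictD (⊤ : (Spec R).Opens).ι).map
        ((Affine.factor (R := R) E).inv ≫ (DCoh.tildeD R).map α), rfl,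
      isStrictlyPerfect_res _ hS,
      cond_comp (cond_isIso m _) (cond_restrictD _ (cond_comp (cond_isIso m _) ((Affine.cond_tildeD_iff R m α).2 hα)))⟩

/-- Perfectness of the tilde of a complex. -/
theorem isPerfect_tildeD_iff (M : Dual.D A) :
    DCoh.IsPerfect ((DCoh.tildeD (CommRingCat.of A)).obj M) ↔ DRing.IsPerfect A M := by
  let R := CommRingCat.of A
  let K := DerivedCategory.Q.objPreimage M
  let eK : DerivedCategory.Q.obj K ≅ M := DerivedCategory.Q.objObjPreimageIso M
  let eT : (DCoh.tildeD R).obj M ≅ DCoh.toD _ ((Affine.TC R).obj K) :=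
    (DCoh.tildeD R).mapIso eK.symm ≪≫ Affine.factor (R := R) K
  refine ⟨fun h => ?_, fun ⟨E, a, b, hv, hE, ⟨e⟩⟩ => ?_⟩
  · have hloc : ∀ x : Spec R, ∃ f : A, x ∈ PrimeSpectrum.basicOpen f ∧
        DRing.IsPerfect (Localization.Away f) (DRing.toD (DRingKProj.locCx f K)) := fun x => by
      obtain ⟨V, hxV, g⟩ := ((isPerfect_iff _).1 h x).exists_le
      obtain ⟨E, hE, ⟨eE⟩⟩ := g V le_rfl
      obtain ⟨f, hxf, k, _, hk, N, a, b, hN, hv, ⟨e⟩⟩ := exists_away_chart hE hxV
      let R' := CommRingCat.of (Localization.Away f)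
      haveI : PreservesFiniteLimits (tilde.functor R') := tilde_preservesFiniteLimits R'
      let β : DCoh.toD (Spec R') ((Affine.TC R').obj N) ≅
          DCoh.toD (Spec R') ((Affine.TC R').obj (DRingKProj.locCx f K)) :=
        (restrictObjIso k E ≪≫ DerivedCategory.Q.mapIso e).symm ≪≫ (DCoh.restrictD k).mapIso eE.symm ≪≫
          (compObjIso' k V.ι (awayMap f) hk _).symm ≪≫ (DCoh.restrictD (awayMap f)).mapIso eT ≪≫
            restrictAwayIso f K
      haveI := Affine.tildeD_full R'
      haveI := Affine.tildeD_faithful R'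
      refine ⟨f, hxf, N, a, b, hv, fun i => ?_, ⟨(DCoh.tildeD R').preimageIso
        (Affine.factor (R := R') N ≪≫ β ≪≫ (Affine.factor (R := R') (DRingKProj.locCx f K)).symm)⟩⟩
      haveI := (hN i).1
      exact ⟨(hN i).2, Module.Projective.of_free⟩
    obtain ⟨r, f, hf, hP⟩ := exists_finite_cover hloc
    obtain ⟨E, a, b, hv, hE, ⟨e⟩⟩ := DRingTorAmp.isPerfect_descend (DRingTorAmp.cover_away f hf) K hP
    exact ⟨E, a, b, hv, hE, ⟨e ≪≫ eK⟩⟩
  · refine (isPerfect_iff _).2 fun x => ?_
    have hS : DCoh.IsStrictlyPerfect ((Affine.TC R).obj E) := ⟨⟨a, b, fun i hi => (tilde.functor R).map_isZero (hv i hi)⟩,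
      fun i => by
        haveI := (hE i).1
        haveI := (hE i).2
        exact isFinLocFree_tilde (R := R) (E.X i)⟩
    exact ⟨(⊤ : (Spec R).Opens), (⊤ : (Spec R).Opens).ι, inferInstance, ⟨x, trivial⟩, _, rfl, isStrictlyPerfect_res _ hS,
      ⟨(DCoh.restrictD _).mapIso ((DCoh.tildeD R).mapIso e.symm ≪≫ Affine.factor (R := R) E) ≪≫ restrictObjIso _ _⟩⟩

/-- Tor amplitude of the tilde of a complex. -/
theorem hasFlatAmplitudeIn_tildeD_iff (M : Dual.D A) (a b : ℤ) :
    DCoh.HasFlatAmplitudeIn a b ((DCoh.tildeD (CommRingCat.of A)).obj M) ↔ DRing.HasTorAmplitudeIn A a b M := by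
  let R := CommRingCat.of A
  refine ⟨fun ⟨E, hv, hE, ⟨e⟩⟩ => ?_, fun ⟨E, hv, hE, ⟨e⟩⟩ => ?_⟩
  · let K := DerivedCategory.Q.objPreimage M
    let eK : DerivedCategory.Q.obj K ≅ M := DerivedCategory.Q.objObjPreimageIso M
    let eT : DCoh.toD (Spec R) E ≅ DCoh.toD _ ((Affine.TC R).obj K) :=
      e ≪≫ (DCoh.tildeD R).mapIso eK.symm ≪≫ Affine.factor (R := R) K
    have hK : ∀ p : Spec R, DRing.HasTorAmplitudeIn _ a b
        (DRing.toD ((DRingTorAmp.escCx (tildeφ R p)).obj K)) := fun p => by
      let F := DerSch.stalkFunctor (Spec R) p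
      let e' := (F.mapDerivedCategoryFactors.app E).symm ≪≫ F.mapDerivedCategory.mapIso eT ≪≫
        F.mapDerivedCategoryFactors.app _ ≪≫ DerivedCategory.Q.mapIso (stCxTildeIso R p K)
      exact ⟨(stCx p).obj E, fun i hi => F.map_isZero (hv i hi), fun i => hE i p, ⟨e'⟩⟩
    obtain ⟨E', h1, h2, ⟨e'⟩⟩ := hasTorAmplitudeIn_of_stalks R K a b hK
    exact ⟨E', h1, h2, ⟨e' ≪≫ eK⟩⟩
  · exact ⟨(Affine.TC R).obj E, fun i hi => (tilde.functor R).map_isZero (hv i hi), fun i => by
      haveI : Module.Flat R (E.X i) := hE i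
      exact isFlat_tilde (R := R) (E.X i), ⟨(Affine.factor (R := R) E).symm ≪≫ (DCoh.tildeD R).mapIso e⟩⟩

end Away

end Groth.Agent.DCohBridge
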